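import Mathlib.Algebra.Order.BigOperators.Group.Finset
import Mathlib.Algebra.BigOperators.Ring.Finset
import Mathlib.Tactic.Ring
import Mathlib.Tactic.Linarith
import Mathlib.Algebra.Ring.Int.Parity

/-!
# The arithmetic of the principal block with elementary abelian defect and free inertial action

For each member `χ`: `ν χ` the indicator, `D χ` the sum of the values at the involution classes,
`m l χ` the multiplicity in the function induced from the `l`-th nontrivial linear character.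
-/

set_option autoImplicit false

namespace CfsgLib.ElemFree

open Finset

/-- There are at least `e + r` members. -/
theorem add_le_card {ι Λ : Type*} [Fintype ι] [DecidableEq ι] [Fintype Λ]
    (one : ι) (ν D : ι → ℤ) (m : Λ → ι → ℤ) (e r : ℤ) (hr : 0 < r) (hro : Odd r)
    (hΛ : (Fintype.card Λ : ℤ) + 1 = e)
    (hν : ∀ χ, ν χ = -1 ∨ ν χ = 0 ∨ ν χ = 1) (hm0 : ∀ l χ, 0 ≤ m l χ)
    (hbound : ∀ χ, χ ≠ one → r * ∑ l, m l χ ≤ ν χ + D χ)
    (hνD : ∑ χ ∈ univ.erase one, ν χ * D χ = -r)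
    (hDD : ∑ χ ∈ univ.erase one, D χ * D χ = (e * r + 1) * r - r * r)
    (hmD : ∀ l, ∑ χ ∈ univ.erase one, m l χ * D χ = r)
    (hodd : ∀ l, ∃ χ, χ ≠ one ∧ 0 < m l χ ∧ Odd (D χ)) :
    e + r ≤ Fintype.card ι := by
  classical
  set S : ι → ℤ := fun χ => ∑ l, m l χ with hS
  have hS0 : ∀ χ, 0 ≤ S χ := fun χ => sum_nonneg fun l _ => hm0 l χ
  have hneg : ∀ χ, χ ≠ one → D χ < 0 → D χ = -1 ∧ ν χ = 1 ∧ S χ = 0 := by
    intro χ hχ hD
    have h1 := hbound χ hχ
    have h2 : 0 ≤ r * S χ := mul_nonneg hr.le (hS0 χ)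
    have h3 : r * S χ ≤ ν χ + D χ := h1
    obtain h | h | h := hν χ
    · omega
    · omega
    · refine ⟨by omega, h, ?_⟩
      have h4 : r * S χ = 0 := by omega
      exact (mul_eq_zero.mp h4).resolve_left (by omega)
  have hterm0 : ∀ χ ∈ univ.erase one, 0 ≤ D χ * (ν χ + D χ - r * S χ) := by
    intro χ hχ
    have hχ' := (mem_erase.mp hχ).1
    rcases lt_or_ge (D χ) 0 with h | h
    · obtain ⟨a, b, c⟩ := hneg χ hχ' h
      rw [a, b, c]; omega
    · exact mul_nonneg h (sub_nonneg.mpr (hbound χ hχ'))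
  have hSD : ∑ χ ∈ univ.erase one, S χ * D χ = (e - 1) * r := by
    simp only [hS, sum_mul]
    rw [sum_comm, sum_congr rfl fun l _ => hmD l]
    simp only [sum_const, card_univ, nsmul_eq_mul]
    rw [← hΛ]; ring
  have hzero : ∑ χ ∈ univ.erase one, D χ * (ν χ + D χ - r * S χ) = 0 := by
    calc _ = ∑ χ ∈ univ.erase one, (ν χ * D χ + D χ * D χ - r * (S χ * D χ)) :=
          sum_congr rfl fun χ _ => by ring
      _ = 0 := by
        rw [sum_sub_distrib, sum_add_distrib, ← mul_sum, hνD, hDD, hSD]; ring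
  have hpos : ∀ χ, χ ≠ one → 0 < D χ → ν χ + D χ = r * S χ := by
    intro χ hχ hD
    have h := (sum_eq_zero_iff_of_nonneg hterm0).mp hzero χ (mem_erase.mpr ⟨hχ, mem_univ _⟩)
    have := (mul_eq_zero.mp h).resolve_left hD.ne'
    omega
  have hmS : ∀ l χ, m l χ ≤ S χ := fun l χ =>
    single_le_sum (fun l' _ => hm0 l' χ) (mem_univ l)
  have hmDnn : ∀ l, ∀ χ ∈ univ.erase one, 0 ≤ m l χ * D χ := by
    intro l χ hχ
    rcases lt_or_ge (D χ) 0 with h | h
    · have := (hneg χ (mem_erase.mp hχ).1 h).2.2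
      have := hm0 l χ
      have := hmS l χ
      rw [show m l χ = 0 by omega, zero_mul]
    · exact mul_nonneg (hm0 l χ) h
  choose f hf1 hfm hfo using hodd
  have hfD : ∀ l, D (f l) = r ∧ m l (f l) = 1 := by
    intro l
    have hS1 : 0 < S (f l) := lt_of_lt_of_le (hfm l) (hmS l _)
    have hD : 0 < D (f l) := by
      rcases lt_trichotomy (D (f l)) 0 with h | h | h
      · have := (hneg _ (hf1 l) h).2.2; omega
      · have := hfo l; rw [h] at this; exact absurd this (by decide)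
      · exact h
    have h1 : m l (f l) * D (f l) ≤ r :=
      (single_le_sum (hmDnn l) (mem_erase.mpr ⟨hf1 l, mem_univ _⟩)).trans_eq (hmD l)
    have h2 : D (f l) ≤ m l (f l) * D (f l) := le_mul_of_one_le_left hD.le (hfm l)
    have h3 := hpos _ (hf1 l) hD
    have h4 : r ≤ r * S (f l) := le_mul_of_one_le_right hr.le hS1
    have h5 : D (f l) = r := by
      obtain h | h | h := hν (f l) <;> obtain ⟨i, hi⟩ := hfo l <;> obtain ⟨j, hj⟩ := hro <;> omega
    refine ⟨h5, ?_⟩
    rw [h5] at h1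
    have h6 : m l (f l) ≤ 1 := le_of_mul_le_mul_right (by linarith) hr
    have := hfm l
    omega
  have huniq : ∀ l χ, χ ≠ one → 0 < D χ → 0 < m l χ → χ = f l := by
    intro l χ hχ hD hm
    by_contra hne
    have h1 := add_le_sum (hmDnn l) (mem_erase.mpr ⟨hχ, mem_univ _⟩)
      (mem_erase.mpr ⟨hf1 l, mem_univ _⟩) hne
    rw [hmD l, (hfD l).1, (hfD l).2, one_mul] at h1
    have : 0 < m l χ * D χ := mul_pos hm hD
    omega
  set T : Finset ι := univ.image f with hT
  have hTsub : T ⊆ univ.erase one := by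
    intro χ hχ
    obtain ⟨l, -, rfl⟩ := mem_image.mp hχ
    exact mem_erase.mpr ⟨hf1 l, mem_univ _⟩
  have hTval : ∀ χ ∈ T, χ ≠ one ∧ D χ = r ∧ ν χ = r * S χ - r ∧ 1 ≤ S χ := by
    intro χ hχ
    obtain ⟨l, -, rfl⟩ := mem_image.mp hχ
    have h1 := hpos _ (hf1 l) (by rw [(hfD l).1]; exact hr)
    rw [(hfD l).1] at h1
    exact ⟨hf1 l, (hfD l).1, by omega, by have := hmS l (f l); rw [(hfD l).2] at this; exact this⟩
  have hST : ∑ χ ∈ T, S χ = e - 1 := by
    simp only [hS]
    rw [sum_comm, sum_congr rfl (g := fun _ : Λ => (1 : ℤ)) fun l _ => ?_]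
    · simp only [sum_const, card_univ, nsmul_one]; omega
    · rw [sum_eq_single (f l), (hfD l).2]
      · intro χ hχ hne
        by_contra h
        obtain ⟨h1, h2, -, -⟩ := hTval χ hχ
        exact hne (huniq l χ h1 (h2 ▸ hr) (lt_of_le_of_ne (hm0 l χ) (Ne.symm h)))
      · exact fun h => absurd (mem_image_of_mem f (mem_univ l)) h
  have hrest : ∀ χ ∈ univ.erase one \ T, -1 ≤ ν χ * D χ := by
    intro χ hχ
    obtain ⟨h1, h2⟩ := mem_sdiff.mp hχ
    have hχ1 := (mem_erase.mp h1).1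
    rcases lt_trichotomy (D χ) 0 with h | h | h
    · obtain ⟨a, b, -⟩ := hneg χ hχ1 h; rw [a, b]; decide
    · rw [h, mul_zero]; omega
    · have hS : S χ = 0 := by
        refine sum_eq_zero fun l _ => le_antisymm (not_lt.mp fun hl => h2 ?_) (hm0 l χ)
        exact huniq l χ hχ1 h hl ▸ mem_image_of_mem f (mem_univ l)
      have h3 := hpos χ hχ1 h
      rw [hS, mul_zero] at h3
      obtain h' | h' | h' := hν χ <;> first | omega | (rw [show D χ = 1 by omega, h']; decide)
  have hsplit := sum_sdiff (f := fun χ => ν χ * D χ) hTsub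
  rw [hνD, sum_congr (s₁ := T) rfl (g := fun χ => r * r * S χ - r * r) fun χ hχ => by
    obtain ⟨-, a, b, -⟩ := hTval χ hχ
    rw [a, b]; ring, sum_sub_distrib, ← mul_sum, hST, sum_const, nsmul_eq_mul] at hsplit
  have hlow := card_nsmul_le_sum _ _ (-1 : ℤ) hrest
  rw [nsmul_eq_mul] at hlow
  have hcard : (((univ.erase one \ T).card : ℤ) + T.card) + 1 = Fintype.card ι := by
    have h1 := card_sdiff_add_card_eq_card hTsub
    have h2 := card_erase_add_one (mem_univ one)
    rw [card_univ] at h2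
    omega
  have hTle : (T.card : ℤ) ≤ e - 1 := by
    have : T.card ≤ (univ : Finset Λ).card := card_image_le
    rw [card_univ] at this
    omega
  have h0 : 0 ≤ (r * r - 1) * (e - 1 - T.card) :=
    mul_nonneg (by nlinarith) (by omega)
  nlinarith

end CfsgLib.ElemFree
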