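import Cfsg.Agent.Lib.Blocks.ElemFree.General
import Cfsg.Agent.Lib.BlockArith.FreeSylowMain
import Cfsg.Agent.Lib.CharNormal.Kernel
import Cfsg.Agent.Lib.Char.ClassAlgebra

/-!
# No perfect group has a non-elementary abelian Sylow two-subgroup with transitive free inertia
-/

set_option autoImplicit false

noncomputable section

open scoped Classical

namespace CfsgLib.ElemFree

open Cfsg CfsgLib.Blocks CfsgLib.Char CfsgLib.FreeSylow
open scoped ComplexConjugate IsMulCommutative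

universe u

variable {G : Type u} [Group G] [Fintype G] {P : Sylow 2 G} {M : Ideal AlgInt} [M.IsMaximal]

/-- The involutions of `P`. -/
abbrev invs (P : Sylow 2 G) : Finset (P : Subgroup G) :=
  ((Finset.univ : Finset (P : Subgroup G)).erase 1).filter fun w => w * w = 1

/-- No product of two involutions has a non-involutory two-part inside a section. -/
theorem pairs_empty (F : Free P) {u : (P : Subgroup G)} (hu : u * u ≠ 1) {t : G} (ht : t * t = 1)
    {s : Subgroup.centralizer ({(u : G)} : Set G)} (hs : ¬ 2 ∣ orderOf s) (p : G × G)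
    (h : IsConj t p.1 ∧ IsConj t p.2 ∧ p.1 * p.2 = ((u : G) * (s : G))⁻¹) : False := by
  obtain ⟨h1, h2, h3⟩ := h
  have hsq : ∀ v, IsConj t v → v * v = 1 := fun v hv => by
    obtain ⟨c, rfl⟩ := isConj_iff.mp hv
    rw [show c * t * c⁻¹ * (c * t * c⁻¹) = c * (t * t) * c⁻¹ by group, ht]; group
  set g := (u : G) * (s : G) with hg
  have hg2 : g = p.2 * p.1 := by
    rw [← inv_inv g, ← h3, mul_inv_rev, inv_eq_of_mul_eq_one_right (hsq _ h1),
      inv_eq_of_mul_eq_one_right (hsq _ h2)]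
  have hginv : p.2 * g * p.2⁻¹ = g⁻¹ := by
    rw [hg2, inv_eq_of_mul_eq_one_right (hsq _ h2), mul_inv_rev,
      inv_eq_of_mul_eq_one_right (hsq _ h1), inv_eq_of_mul_eq_one_right (hsq _ h2), ← mul_assoc,
      hsq _ h2, one_mul]
  obtain ⟨a, ha⟩ := CfsgLib.NilBlock.exists_pow_of_mem P.isPGroup' u.2
  obtain ⟨m, hm⟩ := pow_section_two ha hs
  have huinv : p.2 * (u : G) * p.2⁻¹ = (u : G)⁻¹ := by
    have h4 := conj_pow (a := p.2) (b := g) (i := m)
    rw [hginv, inv_pow, hg, hm] at h4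
    exact h4.symm
  have ha2 : 2 ≤ a := by
    by_contra hlt
    have h4 : (u : G) ^ 2 = 1 := orderOf_dvd_iff_pow_eq_one.mp (ha ▸ (by
      have := Nat.pow_dvd_pow 2 (show a ≤ 1 by omega)
      simpa using this))
    exact hu (Subtype.ext (by rw [Subgroup.coe_mul, ← pow_two, h4, OneMemClass.coe_one]))
  set w := (u : G) ^ 2 ^ (a - 1) with hw
  have hwP : w ∈ (P : Subgroup G) := pow_mem u.2 _
  have hw1 : w ≠ 1 := by
    intro h4
    have := Nat.le_of_dvd (by positivity) (ha ▸ orderOf_dvd_of_pow_eq_one h4)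
    have := (Nat.pow_le_pow_iff_right (by norm_num : 1 < 2)).mp this
    omega
  have hww : w⁻¹ = w := by
    refine inv_eq_of_mul_eq_one_right ?_
    rw [hw, ← pow_add, show 2 ^ (a - 1) + 2 ^ (a - 1) = orderOf (u : G) by
      rw [ha, ← two_mul, ← pow_succ']; congr 1; omega, pow_orderOf_eq_one]
  have hp2 : p.2 ∈ Subgroup.centralizer ({w} : Set G) := by
    refine Subgroup.mem_centralizer_singleton_iff.mpr (mul_inv_eq_iff_eq_mul.mp ?_)
    rw [hw, ← conj_pow, huinv, inv_pow, ← hw, hww]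
  have huC : (u : G) ∈ Subgroup.centralizer ({w} : Set G) :=
    Subgroup.mem_centralizer_singleton_iff.mpr (F.comm u.2 hwP)
  have h5 := core_commutator F hwP hw1 ⟨p.2, hp2⟩ ⟨u, huC⟩
  have h6 : ((⟨p.2, hp2⟩ * ⟨u, huC⟩ * (⟨p.2, hp2⟩ : Subgroup.centralizer ({w} : Set G))⁻¹ *
      (⟨u, huC⟩ : Subgroup.centralizer ({w} : Set G))⁻¹ : Subgroup.centralizer ({w} : Set G)) : G) =
      ((u * u)⁻¹ : (P : Subgroup G)) := by
    simp only [Subgroup.coe_mul, Subgroup.coe_inv]
    rw [huinv, mul_inv_rev]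
  have h7 := (F.mem_core hwP hw1 _).mp h5
  rw [← Subgroup.orderOf_coe, h6] at h7
  obtain ⟨b, hb⟩ := CfsgLib.NilBlock.exists_pow_of_mem P.isPGroup' ((u * u)⁻¹).2
  rw [hb] at h7
  rcases Nat.eq_zero_or_pos b with rfl | hb0
  · rw [pow_zero, orderOf_eq_one_iff] at hb
    exact hu (inv_eq_one.mp (Subtype.ext hb))
  · exact h7 (dvd_pow_self 2 hb0.ne')

/-- The nonidentity elements fall into regular orbits. -/
theorem dvd_card_nz (F : Free P) :
    Nat.card (autN P) ∣ Nat.card (P : Subgroup G) - 1 := by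
  let o : ↥(P : Subgroup G) → Finset (P : Subgroup G) := fun w =>
    Finset.univ.image fun γ : autN P => (γ : MulAut (P : Subgroup G)) w
  rw [show Nat.card (P : Subgroup G) - 1 = ((Finset.univ : Finset (P : Subgroup G)).erase 1).card by
    rw [Finset.card_erase_of_mem (Finset.mem_univ _), Finset.card_univ, Nat.card_eq_fintype_card],
    Finset.card_eq_sum_card_fiberwise (t := ((Finset.univ : Finset (P : Subgroup G)).erase 1).image o)
      (f := o) fun w hw => Finset.mem_image_of_mem o hw]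
  refine Finset.dvd_sum fun c hc => ?_
  obtain ⟨w₀, hw₀, rfl⟩ := Finset.mem_image.mp hc
  have hw₀1 : w₀ ≠ 1 := (Finset.mem_erase.mp hw₀).1
  have horb : ((Finset.univ : Finset (P : Subgroup G)).erase 1).filter (fun w => o w = o w₀) =
      o w₀ := by
    ext w
    constructor
    · intro hw
      rw [← (Finset.mem_filter.mp hw).2]
      exact Finset.mem_image.mpr ⟨1, Finset.mem_univ _, rfl⟩
    · intro hw
      obtain ⟨δ, -, rfl⟩ := Finset.mem_image.mp hw
      refine Finset.mem_filter.mpr ⟨Finset.mem_erase.mpr ⟨?_, Finset.mem_univ _⟩, ?_⟩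
      · rwa [ne_eq, EmbeddingLike.map_eq_one_iff]
      ext v
      simp only [o, Finset.mem_image, Finset.mem_univ, true_and]
      constructor
      · rintro ⟨γ, rfl⟩; exact ⟨γ * δ, rfl⟩
      · rintro ⟨γ, rfl⟩
        refine ⟨γ * δ⁻¹, ?_⟩
        rw [← MulAut.mul_apply, ← Subgroup.coe_mul, inv_mul_cancel_right]
  rw [horb, Finset.card_image_of_injective _ fun γ δ h => ?_, Finset.card_univ,
    Nat.card_eq_fintype_card]
  have h' : (γ : MulAut (P : Subgroup G)) w₀ = (δ : MulAut (P : Subgroup G)) w₀ := h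
  have h2 : ((δ⁻¹ * γ : autN P) : MulAut (P : Subgroup G)) w₀ = w₀ := by
    rw [Subgroup.coe_mul, MulAut.mul_apply, h', ← MulAut.mul_apply, ← Subgroup.coe_mul,
      inv_mul_cancel]
    rfl
  exact (inv_mul_eq_one.mp (Subtype.ext (F.eq_one_of_fixed (δ⁻¹ * γ).2 hw₀1 h2))).symm

/-- The square of a non-elementary Sylow subgroup: `(e + 1)² ≤ |P|`. -/
theorem sq_le_card (F : Free P) {e : ℕ} (he : Nat.card (autN P) = e)
    (hΩ : (invs P).card = e) {u : (P : Subgroup G)} (hu : u * u ≠ 1) :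
    (e + 1) * (e + 1) ≤ Nat.card (P : Subgroup G) := by
  have := F.hab
  set sq : (P : Subgroup G) →* (P : Subgroup G) := powMonoidHom 2 with hsq
  have hsqv : ∀ v, sq v = v * v := fun v => by rw [hsq, powMonoidHom_apply, pow_two]
  have hker : Nat.card sq.ker = e + 1 := by
    rw [← hΩ, invs, Finset.filter_erase,
      Finset.card_erase_add_one (show (1 : (P : Subgroup G)) ∈
          ((Finset.univ : Finset (P : Subgroup G)).filter fun w => w * w = 1) from
        Finset.mem_filter.mpr ⟨Finset.mem_univ _, one_mul 1⟩), ← Nat.card_eq_finsetCard]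
    exact Nat.card_congr (Equiv.subtypeEquivRight fun v => by
      rw [MonoidHom.mem_ker, hsqv]; simp)
  obtain ⟨t, v, hv, ht1, ht2⟩ : ∃ t v : (P : Subgroup G), sq v = t ∧ t ≠ 1 ∧ t * t = 1 := by
    obtain ⟨a, ha⟩ := CfsgLib.NilBlock.exists_pow_of_mem P.isPGroup' u.2
    rw [Subgroup.orderOf_coe] at ha
    have ha2 : 2 ≤ a := by
      by_contra hlt
      exact hu (by
        rw [← pow_two]
        exact orderOf_dvd_iff_pow_eq_one.mp (ha ▸ (by
          simpa using Nat.pow_dvd_pow 2 (show a ≤ 1 by omega))))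
    refine ⟨u ^ 2 ^ (a - 1), u ^ 2 ^ (a - 2), ?_, fun h => ?_, ?_⟩
    · rw [hsqv, ← pow_add, ← two_mul, ← pow_succ']
      congr 2; omega
    · have := Nat.le_of_dvd (by positivity) (ha ▸ orderOf_dvd_of_pow_eq_one h)
      have := (Nat.pow_le_pow_iff_right (by norm_num : 1 < 2)).mp this
      omega
    · rw [← pow_add, show 2 ^ (a - 1) + 2 ^ (a - 1) = orderOf u by
        rw [ha, ← two_mul, ← pow_succ']; congr 1; omega, pow_orderOf_eq_one]
  have hrange : e + 1 ≤ Nat.card sq.range := by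
    let S : Finset (P : Subgroup G) :=
      insert 1 (Finset.univ.image fun γ : autN P => (γ : MulAut (P : Subgroup G)) t)
    have hS : S.card = e + 1 := by
      rw [Finset.card_insert_of_notMem fun h => ?_, Finset.card_image_of_injective _ fun γ δ h => ?_,
        Finset.card_univ, ← Nat.card_eq_fintype_card, he]
      · have h' : (γ : MulAut (P : Subgroup G)) t = (δ : MulAut (P : Subgroup G)) t := h
        have h2 : ((δ⁻¹ * γ : autN P) : MulAut (P : Subgroup G)) t = t := by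
          rw [Subgroup.coe_mul, MulAut.mul_apply, h', ← MulAut.mul_apply, ← Subgroup.coe_mul,
            inv_mul_cancel]
          rfl
        exact (inv_mul_eq_one.mp (Subtype.ext (F.eq_one_of_fixed (δ⁻¹ * γ).2 ht1 h2))).symm
      · obtain ⟨γ, -, hγ⟩ := Finset.mem_image.mp h
        exact ht1 (EmbeddingLike.map_eq_one_iff.mp hγ)
    rw [← hS, ← Nat.card_eq_finsetCard]
    refine Nat.card_le_card_of_injective (fun w => ⟨w.1, ?_⟩) fun a b h =>
      Subtype.ext (congrArg (fun z : sq.range => (z : (P : Subgroup G))) h)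
    rcases Finset.mem_insert.mp w.2 with h | h
    · rw [h]; exact one_mem _
    · obtain ⟨γ, -, hγ⟩ := Finset.mem_image.mp h
      refine ⟨(γ : MulAut (P : Subgroup G)) v, ?_⟩
      rw [hsqv, ← map_mul, ← hsqv, hv, hγ]
  rw [← Subgroup.card_mul_index sq.ker, hker, Subgroup.index_ker]
  exact Nat.mul_le_mul_left _ hrange

theorem sum_eq_int {ι : Type*} (s : Finset ι) (f : ι → ℂ) (g : ι → ℤ) (h : ∀ i ∈ s, f i = (g i : ℂ)) :
    ∑ i ∈ s, f i = ((∑ i ∈ s, g i : ℤ) : ℂ) := by
  rw [Int.cast_sum]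
  exact Finset.sum_congr rfl h

/-- The degree congruence. -/
theorem dvd_deg_add (χ : IrrCharacter G) (S : ℤ)
    (hS : ∑ y ∈ (Finset.univ : Finset (P : Subgroup G)).erase 1, (χ : G → ℂ) y = (S : ℂ)) :
    (Nat.card (P : Subgroup G) : ℤ) ∣ (CfsgLib.InvolChar.deg χ : ℤ) + S := by
  obtain ⟨a, b, ha, -, -⟩ := exists_avgOn_le χ.2 (le_refl (P : Subgroup G))
  refine ⟨a, ?_⟩
  have h : ((CfsgLib.InvolChar.deg χ : ℤ) + S : ℂ) = (Nat.card (P : Subgroup G) : ℂ) * (a : ℂ) := by
    rw [← ha, avgOn, mul_inv_cancel_left₀ card_ne_zero',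
      Finset.sum_subtype (p := fun g => g ∈ (P : Subgroup G)) _ (fun g => by simp) (χ : G → ℂ),
      ← Finset.add_sum_erase _ _ (Finset.mem_univ (1 : (P : Subgroup G))), hS, OneMemClass.coe_one,
      CfsgLib.InvolChar.deg_spec]
    push_cast; rfl
  exact_mod_cast h

set_option maxHeartbeats 1000000 in
/-- The contradiction. -/
theorem false_of_normal_gen (F : Free P) (hM : IsPModular 2 M) {e : ℕ}
    (he : Nat.card (autN P) = e) (he1 : 1 < e) (hΩ : (invs P).card = e)
    {u : (P : Subgroup G)} (hu : u * u ≠ 1)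
    (hgen : ∀ N : Subgroup G, N.Normal → (P : Subgroup G) ≤ N → N = ⊤) : False := by
  have := F.hab
  set q := Nat.card (P : Subgroup G) with hq
  have hqe : (e + 1) * (e + 1) ≤ q := sq_le_card F he hΩ hu
  have hm : (Subgroup.centralizer ((P : Subgroup G) : Set G)).relIndex
      (Subgroup.normalizer ((P : Subgroup G) : Set G)) = e := by rw [← card_autN rfl, he]
  have hexp : (e + 1) * (e + 1) = e * e + 2 * e + 1 := by ring
  obtain ⟨sX, X, Y, -, hB, hXY, -, hYcard, ⟨χ₁, hχ₁X, hχ₁⟩, a, d, δ, ζ, hδ, hXval, hζY, hζsurj,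
    hζorb, hζval, hnorm, hYreg, -⟩ :=
    F.exists_structure hM (by omega) hm he1 (by nlinarith)
  obtain rfl : χ₁ = irrOne := Subtype.ext hχ₁
  have hne : ∀ {y : (P : Subgroup G)}, y ≠ 1 → (y : G) ≠ 1 := fun hy h => hy (Subtype.ext h)
  have hpp : ∀ y : (P : Subgroup G), IsPPart 2 (y : G) (y : G) := fun y =>
    ⟨1, mul_one _, Commute.one_right _, CfsgLib.NilBlock.exists_pow_of_mem P.isPGroup' y.2,
      by rw [orderOf_one]; decide⟩
  have hXv : ∀ χ ∈ X, ∀ y : (P : Subgroup G), y ≠ 1 → (χ : G → ℂ) y = (a χ : ℂ) := fun χ hχ y hy =>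
    (hXval χ hχ).2 _ _ (hpp y) y.2 (hne hy)
  set r := (q - 1) / e with hr
  have hre : e + 2 ≤ r := (Nat.le_div_iff_mul_le (by omega)).mpr (by
    have : (e + 2) * e = e * e + 2 * e := by ring
    omega)
  -- the coefficient `d` vanishes
  have : Fintype X := Fintype.ofFinite _
  have hrZ : ((q : ℤ) - 1) / (e : ℤ) = (r : ℤ) := by
    rw [hr, Int.natCast_div, Nat.cast_sub (by omega : 1 ≤ q), Nat.cast_one]
  rw [hrZ, finsum_mem_eq_finite_toFinset_sum _ (Set.toFinite X)] at hnorm
  have ha1 : a irrOne = 1 := by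
    obtain ⟨y, hy⟩ : ∃ y : (P : Subgroup G), y ≠ 1 := ⟨u, fun h => hu (by rw [h, one_mul])⟩
    have h := hXv _ hχ₁X y hy
    rw [irrOne_apply] at h
    exact_mod_cast h.symm
  set X' := (Set.toFinite X).toFinset.erase (irrOne : IrrCharacter G) with hX'
  have hX'mem : ∀ χ ∈ X', χ ∈ X ∧ χ ≠ irrOne := fun χ hχ =>
    ⟨(Set.Finite.mem_toFinset _).mp (Finset.mem_erase.mp hχ).2, (Finset.mem_erase.mp hχ).1⟩
  rw [← Finset.add_sum_erase _ (fun χ => a χ ^ 2) ((Set.Finite.mem_toFinset _).mpr hχ₁X), ← hX',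
    ha1, one_pow] at hnorm
  have hX'nn : 0 ≤ ∑ χ ∈ X', a χ ^ 2 := Finset.sum_nonneg fun χ _ => sq_nonneg _
  have hd : d = 0 := by
    by_contra hd0
    have h1 : 1 ≤ d ^ 2 := by
      rcases lt_or_gt_of_ne hd0 with h | h <;> nlinarith
    have h2 : (e : ℤ) + 1 ≤ ((r : ℤ) - 1) * d ^ 2 := by
      have : (e : ℤ) + 2 ≤ (r : ℤ) := by exact_mod_cast hre
      nlinarith
    nlinarith [sq_nonneg (d - δ)]
  subst hd
  have hδ2 : δ ^ 2 = 1 := by rcases hδ with rfl | rfl <;> norm_num
  have hsum2 : ∑ χ ∈ X', a χ ^ 2 = (e : ℤ) - 1 := by nlinarith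
  -- degrees
  have hXdvd : ∀ χ ∈ X, (q : ℤ) ∣ (CfsgLib.InvolChar.deg χ : ℤ) + ((q : ℤ) - 1) * a χ := by
    intro χ hχ
    refine dvd_deg_add χ _ ?_
    rw [Finset.sum_congr rfl fun y hy => hXv χ hχ y (Finset.mem_erase.mp hy).1, Finset.sum_const,
      Finset.card_erase_of_mem (Finset.mem_univ _), Finset.card_univ, ← Nat.card_eq_fintype_card,
      ← hq, nsmul_eq_mul, Nat.cast_sub (by omega : 1 ≤ q)]
    push_cast; rfl
  -- the indicator identity
  have hcount : ∀ χ ∈ X, -1 ≤ a χ := by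
    intro χ hχ
    have hχB : χ ∈ principalBlock M G := hB ▸ Or.inl hχ
    have hχc := isClassFunction_of_isIrr χ.2
    let φ : ↥(P : Subgroup G) → ℂ := fun y =>
      if y = 1 then 0 else ((rootsIn P y : ℂ) - (rootsIn P 1 : ℂ)) * (a χ : ℂ)
    have h1 : CfsgLib.CharBlocks.fsInd (χ : G → ℂ) - classInner (commCount (G := G)) (χ : G → ℂ) =
        -(a χ : ℂ) := by
      rw [← classInner_sqCount, ← classInner_sub_left, classInner_def]
      show (Nat.card G : ℂ)⁻¹ * ∑ g : G, rootDefect g * conj ((χ : G → ℂ) g) = _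
      rw [F.average (f := fun g => rootDefect g * conj ((χ : G → ℂ) g)) (φ := φ) (m := e) hm]
      · have hroots1 : rootsIn P 1 = e + 1 := by
          rw [← hΩ, rootsIn, invs, Finset.filter_erase, Finset.card_erase_add_one
            (show (1 : (P : Subgroup G)) ∈
              ((Finset.univ : Finset (P : Subgroup G)).filter fun w => w * w = 1) from
              Finset.mem_filter.mpr ⟨Finset.mem_univ _, one_mul 1⟩)]
          exact congrArg Finset.card (Finset.filter_congr fun w _ =>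
            ⟨fun h => Subtype.ext h, fun h => congrArg Subtype.val h⟩)
        have htot : ∑ y : (P : Subgroup G), (rootsIn P y : ℂ) = (q : ℂ) := by
          rw [← Nat.cast_sum, hq, Nat.card_eq_fintype_card, ← Finset.card_univ,
            Finset.card_eq_sum_card_fiberwise (t := (Finset.univ : Finset (P : Subgroup G)))
              (f := fun w : (P : Subgroup G) => w * w) fun w _ => Finset.mem_univ _]
          refine congrArg _ (Finset.sum_congr rfl fun y _ => congrArg Finset.card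
            (Finset.filter_congr fun w _ => ?_))
          exact ⟨fun h => Subtype.ext h, fun h => congrArg Subtype.val h⟩
        have hsum : ∑ y, φ y = (a χ : ℂ) * (-(q : ℂ) * e) := by
          rw [← Finset.add_sum_erase _ φ (Finset.mem_univ (1 : (P : Subgroup G))),
            show φ 1 = 0 from if_pos rfl, zero_add, Finset.sum_congr rfl fun y hy =>
              show φ y = ((rootsIn P y : ℂ) - (rootsIn P 1 : ℂ)) * (a χ : ℂ) from
                if_neg (Finset.mem_erase.mp hy).1, ← Finset.sum_mul, Finset.sum_sub_distrib,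
            Finset.sum_erase_eq_sub (Finset.mem_univ _), htot, OneMemClass.coe_one, Finset.sum_const,
            Finset.card_erase_of_mem (Finset.mem_univ _), Finset.card_univ, ← Nat.card_eq_fintype_card,
            ← hq, nsmul_eq_mul, Nat.cast_sub (by omega : 1 ≤ q), hroots1]
          push_cast; ring
        rw [hsum, ← hq]
        have : (q : ℂ) ≠ 0 := Nat.cast_ne_zero.mpr (by omega)
        have : (e : ℂ) ≠ 0 := Nat.cast_ne_zero.mpr (by omega)
        field_simp
      · intro g b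
        show rootDefect _ * conj ((χ : G → ℂ) _) = rootDefect g * conj ((χ : G → ℂ) g)
        rw [show rootDefect (b * g * b⁻¹) = rootDefect g from
          congrArg₂ (· - ·) (isClassFunction_sqCount g b) (isClassFunction_commCount g b), hχc g b]
      · intro g hg
        rw [rootDefect_regular hg, zero_mul]
      · intro γ hγ w
        simp only [φ, EmbeddingLike.map_eq_one_iff]
        refine if_congr Iff.rfl rfl ?_
        obtain ⟨n, -, hn⟩ := mem_autN_iff.mp hγ
        have hr : rootsIn P ((γ w : (P : Subgroup G)) : G) = rootsIn P (w : G) := by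
          symm
          refine Finset.card_equiv γ.toEquiv fun v => ?_
          simp only [Finset.mem_filter, Finset.mem_univ, true_and]
          refine ⟨fun h => ?_, fun h => ?_⟩
          · have h' : v * v = w := Subtype.ext h
            show ((γ v * γ v : (P : Subgroup G)) : G) = _
            rw [← map_mul, h']
          · have h' : γ (v * v) = γ w := by rw [map_mul]; exact Subtype.ext h
            exact congrArg Subtype.val (γ.injective h')
        rw [hr]
      · simp [φ]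
      · intro y hy
        let _ := Fintype.ofFinite (Subgroup.centralizer ({(y : G)} : Set G))
        simp only [φ, if_neg hy]
        have hval : ∀ s ∈ Finset.univ.filter
            (fun s : Subgroup.centralizer ({(y : G)} : Set G) => ¬ 2 ∣ orderOf s),
            rootDefect ((y : G) * (s : G)) * conj ((χ : G → ℂ) ((y : G) * (s : G))) =
              rootDefect ((y : G) * (s : G)) * (a χ : ℂ) := by
          intro s hs
          rw [(hXval χ hχ).2 _ _ (isPPart_mul (commute_of_mem_centralizer s)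
            (CfsgLib.NilBlock.exists_pow_of_mem P.isPGroup' y.2)
            (by rw [Subgroup.orderOf_coe]; exact (Finset.mem_filter.mp hs).2)) y.2 (hne hy),
            map_intCast]
        rw [Finset.sum_congr rfl hval, ← Finset.sum_mul]
        have h := rootDefect_section F y.2 (hne hy)
        rw [reg] at h
        rw [← mul_assoc]
        refine congrArg (· * (a χ : ℂ)) ?_
        convert h using 3 <;> first | rfl | (congr 1; ext; simp) | (ext; simp)
    obtain ⟨q', hq0, hq'⟩ := classInner_commCount_nonneg χ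
    have h2 : classInner (commCount (G := G)) (χ : G → ℂ) = (q' : ℂ) := by
      rw [← classInner_conj_symm, hq', Complex.conj_ofReal]
    rw [h2] at h1
    have h3 : (CfsgLib.CharBlocks.fsInd (χ : G → ℂ)).re - q' = -(a χ : ℝ) := by
      have := congrArg Complex.re h1
      simpa using this
    have h4 : (CfsgLib.CharBlocks.fsInd (χ : G → ℂ)).re ≤ 1 := by
      rcases CfsgLib.CharBlocks.fsInd_cases χ.2 with ⟨-, h | h⟩ | ⟨-, h⟩ <;> rw [h] <;> norm_num
    have h5 : (-1 : ℝ) ≤ (a χ : ℝ) := by linarith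
    exact_mod_cast h5
  -- the orbit sums
  let orb : ((P : Subgroup G) →* ℂˣ) → ↥(P : Subgroup G) → ℂ := fun ψ w =>
    ∑ γ : autN P, ((ψ ((γ : MulAut (P : Subgroup G)) w) : ℂˣ) : ℂ)
  have hset : ∀ ψ : (P : Subgroup G) →* ℂˣ, {ψ' : ↥(P : Subgroup G) →* ℂˣ |
      ∃ n : G, n ∈ Subgroup.normalizer ((P : Subgroup G) : Set G) ∧
        ∀ w w' : ↥(P : Subgroup G), (w' : G) = n * w * n⁻¹ → ψ' w' = ψ w} = ↑(orbD ψ) := by
    intro ψ
    ext ψ'
    simp only [Set.mem_setOf_eq, orbD, Finset.coe_image, Set.mem_image, Finset.coe_univ, Set.mem_univ,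
      true_and]
    constructor
    · rintro ⟨n, hn, h⟩
      refine ⟨⟨_, ⟨⟨n⁻¹, inv_mem hn⟩, rfl⟩⟩, MonoidHom.ext fun w' => ?_⟩
      refine (h _ w' ?_).symm
      show (w' : G) = n * (n⁻¹ * (w' : G) * n⁻¹⁻¹) * n⁻¹
      group
    · rintro ⟨γ, rfl⟩
      obtain ⟨n, hn, hγ⟩ := mem_autN_iff.mp γ.2
      refine ⟨n⁻¹, inv_mem hn, fun w w' h => congrArg ψ (Subtype.ext ?_)⟩
      show (((γ : MulAut (P : Subgroup G)) w' : (P : Subgroup G)) : G) = (w : G)
      rw [hγ w', h]; group
  have hYval : ∀ ψ : (P : Subgroup G) →* ℂˣ, ψ ≠ 1 → ∀ y : (P : Subgroup G), y ≠ 1 →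
      (ζ ψ : G → ℂ) y = (δ : ℂ) * orb ψ y := by
    intro ψ hψ y hy
    rw [hζval ψ hψ _ y (hpp y) (hne hy), hset ψ, finsum_mem_coe_finset, Int.cast_zero, zero_add]
    exact congrArg _ (F.orbSum_orbD hψ y)
  have : Finite (↥(P : Subgroup G) →* ℂˣ) := finite_hom
  have := Fintype.ofFinite (↥(P : Subgroup G) →* ℂˣ)
  set NT := (Finset.univ : Finset (↥(P : Subgroup G) →* ℂˣ)).erase 1 with hNT
  have hYfib : ∀ f : IrrCharacter G → ℂ,
      ∑ ψ ∈ NT, f (ζ ψ) = (e : ℂ) * ∑ η ∈ (Set.toFinite Y).toFinset, f η := by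
    intro f
    have hmaps : ∀ ψ ∈ NT, ζ ψ ∈ (Set.toFinite Y).toFinset := fun ψ hψ =>
      (Set.Finite.mem_toFinset _).mpr (hζY ψ (Finset.mem_erase.mp hψ).1)
    have hge : ∀ η ∈ (Set.toFinite Y).toFinset, e ≤ (NT.filter fun ψ => ζ ψ = η).card := by
      intro η hη
      obtain ⟨ψ, hψ, rfl⟩ := hζsurj η ((Set.Finite.mem_toFinset _).mp hη)
      calc e = (orbD ψ).card := by
            rw [orbD, Finset.card_image_of_injective _ (F.orbD_inj hψ), Finset.card_univ,
              ← Nat.card_eq_fintype_card, he]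
        _ ≤ _ := Finset.card_le_card fun ψ' hψ' => by
            refine Finset.mem_filter.mpr ⟨Finset.mem_erase.mpr ⟨?_, Finset.mem_univ _⟩, ?_⟩
            · rintro rfl
              have h1 : orbD (1 : ↥(P : Subgroup G) →* ℂˣ) = orbD ψ := orbD_eq_of_mem hψ'
              obtain ⟨γ, -, hγ⟩ := Finset.mem_image.mp (h1 ▸ mem_orbD_self ψ)
              exact hψ (hγ ▸ MonoidHom.one_comp _)
            · refine hζorb ψ ψ' hψ ?_
              have : ψ' ∈ ((orbD ψ : Finset _) : Set (↥(P : Subgroup G) →* ℂˣ)) := hψ'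
              rwa [← hset ψ] at this
    have htot : (NT.card) = (Set.toFinite Y).toFinset.card * e := by
      rw [hNT, Finset.card_erase_of_mem (Finset.mem_univ _), Finset.card_univ,
        ← Nat.card_eq_fintype_card, card_hom, ← hq, ← Nat.card_eq_card_finite_toFinset,
        show Nat.card Y = r from hYcard, hr, Nat.div_mul_cancel]
      rw [hq, ← he]
      have h := dvd_card_nz F
      exact h
    have heq : ∀ η ∈ (Set.toFinite Y).toFinset, (NT.filter fun ψ => ζ ψ = η).card = e := by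
      have h := (Finset.sum_eq_sum_iff_of_le hge).mp (by
        rw [Finset.sum_const, smul_eq_mul, ← htot]
        exact Finset.card_eq_sum_card_fiberwise hmaps)
      exact fun η hη => (h η hη).symm
    rw [← Finset.sum_fiberwise_of_maps_to hmaps, Finset.mul_sum]
    refine Finset.sum_congr rfl fun η hη => ?_
    rw [Finset.sum_congr rfl (g := fun _ => f η) fun ψ hψ => by rw [(Finset.mem_filter.mp hψ).2],
      Finset.sum_const, heq η hη, nsmul_eq_mul]
  -- the class equation
  obtain ⟨t, ht⟩ : (invs P).Nonempty := Finset.card_pos.mp (by omega)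
  have ht1 : t ≠ 1 := (Finset.mem_erase.mp (Finset.mem_filter.mp ht).1).1
  have ht2 : t * t = 1 := (Finset.mem_filter.mp ht).2
  have hu1 : u ≠ 1 := fun h => hu (by rw [h, one_mul])
  let Ψ : G → ℂ := fun g => ∑ χ : IrrCharacter G,
    ((χ : G → ℂ) t * (χ : G → ℂ) t / (χ : G → ℂ) 1) * (χ : G → ℂ) g
  have hΨ : IsClassFunction G Ψ := fun g h =>
    Finset.sum_congr rfl fun χ _ => by rw [isClassFunction_of_isIrr χ.2 g h]
  have hΨin : ∀ χ : IrrCharacter G, classInner Ψ (χ : G → ℂ) =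
      (χ : G → ℂ) t * (χ : G → ℂ) t / (χ : G → ℂ) 1 := by
    intro χ
    rw [show Ψ = ∑ χ' : IrrCharacter G, ((χ' : G → ℂ) t * (χ' : G → ℂ) t / (χ' : G → ℂ) 1) •
      (χ' : G → ℂ) from funext fun g => by simp [Ψ, Finset.sum_apply], classInner_sum_left]
    simp only [classInner_smul_left, classInner_irrCharacter, mul_ite, mul_one, mul_zero,
      Finset.sum_ite_eq', Finset.mem_univ, if_true]
  have hΨ0 : ∀ s ∈ reg (u : G), Ψ ((u : G) * (s : G)) = 0 := by
    intro s hs
    have h := card_classProduct_eq (t : G) (t : G) (((u : G) * (s : G))⁻¹)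
    have hempty : IsEmpty {p : G × G // IsConj (t : G) p.1 ∧ IsConj (t : G) p.2 ∧
        p.1 * p.2 = ((u : G) * (s : G))⁻¹} :=
      ⟨fun p => pairs_empty F hu (congrArg Subtype.val ht2) (Finset.mem_filter.mp hs).2 p.1 p.2⟩
    rw [Nat.card_of_isEmpty, Nat.cast_zero, eq_comm, mul_eq_zero] at h
    have h' : ∑ χ : IrrCharacter G, (χ : G → ℂ) t * (χ : G → ℂ) t *
        conj ((χ : G → ℂ) ((u : G) * (s : G))⁻¹) / (χ : G → ℂ) 1 = 0 := by
      refine h.resolve_left ?_
      have : Nonempty {x : G // IsConj (t : G) x} := ⟨⟨t, IsConj.refl _⟩⟩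
      simp [Nat.card_pos.ne']
    rw [← h']
    refine Finset.sum_congr rfl fun χ _ => ?_
    rw [← char_inv (isCharacter_of_isIrr χ.2), inv_inv]
    ring
  have heqn := section_sum F hM u.2 (hne hu1) hΨ
  rw [Finset.sum_eq_zero hΨ0, mul_eq_zero] at heqn
  have heqn' := heqn.resolve_left (reg_ne_zero _)
  simp only [hΨin] at heqn'
  rw [← Finset.sum_filter] at heqn'
  have hfilter : Finset.univ.filter (fun χ => χ ∈ principalBlock M G) =
      (Set.toFinite X).toFinset ∪ (Set.toFinite Y).toFinset := by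
    ext χ; simp [hB]
  have hdisj : Disjoint (Set.toFinite X).toFinset (Set.toFinite Y).toFinset :=
    Set.Finite.disjoint_toFinset.mpr hXY
  rw [hfilter, Finset.sum_union hdisj] at heqn'
  -- the degree of the exceptional characters
  obtain ⟨ψ₀, hψ₀⟩ : NT.Nonempty := Finset.card_pos.mp (by
    rw [hNT, Finset.card_erase_of_mem (Finset.mem_univ _), Finset.card_univ,
      ← Nat.card_eq_fintype_card, card_hom, ← hq]
    omega)
  set x := CfsgLib.InvolChar.deg (ζ ψ₀) with hx
  have hxall : ∀ η ∈ Y, (η : G → ℂ) 1 = (x : ℂ) := fun η hη => by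
    rw [hx, ← CfsgLib.InvolChar.deg_spec]
    exact hYreg η hη _ (hζY _ (Finset.mem_erase.mp hψ₀).1) 1 (by rw [orderOf_one]; decide)
  have hxdvd : (q : ℤ) ∣ (x : ℤ) + -(δ * e) := by
    have hψ₀1 := (Finset.mem_erase.mp hψ₀).1
    refine dvd_deg_add (ζ ψ₀) _ ?_
    rw [Finset.sum_congr rfl fun y hy => hYval ψ₀ hψ₀1 y (Finset.mem_erase.mp hy).1, ← Finset.mul_sum]
    simp only [orb]
    rw [Finset.sum_comm, Finset.sum_congr rfl (g := fun _ => (-1 : ℂ)) fun γ _ => ?_]
    · rw [Finset.sum_const, Finset.card_univ, ← Nat.card_eq_fintype_card, he]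
      push_cast; simp
    · rw [Finset.sum_erase_eq_sub (Finset.mem_univ _), map_one, map_one, Units.val_one,
        show (∑ w : (P : Subgroup G), ((ψ₀ ((γ : MulAut (P : Subgroup G)) w) : ℂˣ) : ℂ)) =
          ∑ w : (P : Subgroup G), ((ψ₀ w : ℂˣ) : ℂ) from
          Fintype.sum_equiv (γ : MulAut (P : Subgroup G)).toEquiv _
            (fun w => ((ψ₀ w : ℂˣ) : ℂ)) (fun w => rfl), sum_eval_hom, if_neg hψ₀1, zero_sub]
  -- the orbit sums at an involution and at `u`
  have himg : Finset.univ.image (fun γ : autN P => (γ : MulAut (P : Subgroup G)) t) = invs P := by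
    refine Finset.eq_of_subset_of_card_le (fun w hw => ?_) ?_
    · obtain ⟨γ, -, rfl⟩ := Finset.mem_image.mp hw
      refine Finset.mem_filter.mpr ⟨Finset.mem_erase.mpr ⟨?_, Finset.mem_univ _⟩, ?_⟩
      · rwa [ne_eq, EmbeddingLike.map_eq_one_iff]
      · rw [← map_mul, ht2, map_one]
    · rw [Finset.card_image_of_injective _ fun γ δ' h => ?_, Finset.card_univ,
        ← Nat.card_eq_fintype_card, he, hΩ]
      have h' : (γ : MulAut (P : Subgroup G)) t = (δ' : MulAut (P : Subgroup G)) t := h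
      have h2 : ((δ'⁻¹ * γ : autN P) : MulAut (P : Subgroup G)) t = t := by
        rw [Subgroup.coe_mul, MulAut.mul_apply, h', ← MulAut.mul_apply, ← Subgroup.coe_mul,
          inv_mul_cancel]
        rfl
      exact (inv_mul_eq_one.mp (Subtype.ext (F.eq_one_of_fixed (δ'⁻¹ * γ).2 ht1 h2))).symm
  have hS : ∑ ψ ∈ NT, orb ψ t * orb ψ t * orb ψ u = -((e : ℂ) * e * e) := by
    have hall : ∑ ψ : ↥(P : Subgroup G) →* ℂˣ, orb ψ t * orb ψ t * orb ψ u = 0 := by
      simp only [orb, Finset.sum_mul, Finset.mul_sum]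
      simp only [← Units.val_mul, ← map_mul]
      rw [Finset.sum_comm]
      refine Finset.sum_eq_zero fun i _ => ?_
      rw [Finset.sum_comm]
      refine Finset.sum_eq_zero fun j _ => ?_
      rw [Finset.sum_comm]
      refine Finset.sum_eq_zero fun k _ => ?_
      rw [sum_hom_eval, if_neg]
      intro h
      apply hu
      have hsq : ∀ γ : autN P, (γ : MulAut (P : Subgroup G)) t * (γ : MulAut (P : Subgroup G)) t = 1 :=
        fun γ => by rw [← map_mul, ht2, map_one]
      have hinv : ∀ γ : autN P, ∀ z : (P : Subgroup G),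
          (γ : MulAut (P : Subgroup G)) z * (γ : MulAut (P : Subgroup G)) z = 1 → z * z = 1 :=
        fun γ z hz => (γ : MulAut (P : Subgroup G)).injective (by rw [map_mul, hz, map_one])
      refine hinv i u ?_
      rw [eq_inv_of_mul_eq_one_right h, ← mul_inv_rev,
        (Commute.all ((j : MulAut (P : Subgroup G)) t)
          ((k : MulAut (P : Subgroup G)) t)).mul_mul_mul_comm, hsq, hsq, one_mul, inv_one]
    rw [hNT, Finset.sum_erase_eq_sub (Finset.mem_univ _), hall]
    simp only [orb, MonoidHom.one_apply, Units.val_one, Finset.sum_const, Finset.card_univ,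
      ← Nat.card_eq_fintype_card, he, nsmul_one]
    ring
  -- assemble
  have hYsum : ∑ η ∈ (Set.toFinite Y).toFinset,
      (η : G → ℂ) t * (η : G → ℂ) t / (η : G → ℂ) 1 * (η : G → ℂ) u =
      -((δ : ℂ) * (e : ℂ) ^ 2 / (x : ℂ)) := by
    refine mul_left_cancel₀ (show (e : ℂ) ≠ 0 from Nat.cast_ne_zero.mpr (by omega)) ?_
    rw [← hYfib fun η => (η : G → ℂ) t * (η : G → ℂ) t / (η : G → ℂ) 1 * (η : G → ℂ) u,
      Finset.sum_congr rfl (g := fun ψ => (δ : ℂ) / (x : ℂ) * (orb ψ t * orb ψ t * orb ψ u))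
        fun ψ hψ => ?_, ← Finset.mul_sum, hS]
    · ring
    · have hψ1 := (Finset.mem_erase.mp hψ).1
      rw [hYval ψ hψ1 t ht1, hYval ψ hψ1 u hu1, hxall _ (hζY ψ hψ1)]
      have h2 : (δ : ℂ) ^ 2 = 1 := by exact_mod_cast hδ2
      linear_combination (orb ψ t * orb ψ t * orb ψ u * (δ : ℂ) / (x : ℂ)) * h2
  rw [hYsum, ← Finset.add_sum_erase _ _ ((Set.Finite.mem_toFinset _).mpr hχ₁X), ← hX'] at heqn'
  set A : ℚ := ∑ χ ∈ X', (a χ : ℚ) ^ 3 / (CfsgLib.InvolChar.deg χ : ℚ) with hA
  have heq : (1 : ℚ) + A = (δ : ℚ) * (e : ℚ) ^ 2 / (x : ℚ) := by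
    refine Rat.cast_injective (α := ℂ) ?_
    rw [hA]
    push_cast
    have hXsum : ∑ χ ∈ X', (χ : G → ℂ) t * (χ : G → ℂ) t / (χ : G → ℂ) 1 * (χ : G → ℂ) u =
        ∑ χ ∈ X', (a χ : ℂ) ^ 3 / (CfsgLib.InvolChar.deg χ : ℂ) :=
      Finset.sum_congr rfl fun χ hχ => by
        rw [hXv χ (hX'mem χ hχ).1 t ht1, hXv χ (hX'mem χ hχ).1 u hu1, CfsgLib.InvolChar.deg_spec]
        ring
    rw [hXsum] at heqn'
    simp only [irrOne_apply, mul_one, div_one] at heqn'
    linear_combination heqn'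
  -- bounds on the degrees
  have hnotker : ∀ χ ∈ X', (CfsgLib.InvolChar.deg χ : ℤ) ≠ a χ := by
    intro χ hχ hdeg
    obtain ⟨hχX, hχ1⟩ := hX'mem χ hχ
    have hN := hgen (CfsgLib.CharNormal.charKer (isCharacter_of_isIrr χ.2))
      (CfsgLib.CharNormal.charKer_normal _) fun y hy => CfsgLib.CharNormal.mem_charKer.mpr (by
        by_cases h : (⟨y, hy⟩ : (P : Subgroup G)) = 1
        · rw [show y = 1 from congrArg Subtype.val h]
        · rw [show (χ : G → ℂ) y = (a χ : ℂ) from hXv χ hχX ⟨y, hy⟩ h,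
            CfsgLib.InvolChar.deg_spec, ← hdeg]
          push_cast; rfl)
    have hconst : ∀ g : G, (χ : G → ℂ) g = (χ : G → ℂ) 1 := fun g =>
      (CfsgLib.CharNormal.mem_charKer (hχ := isCharacter_of_isIrr χ.2)).mp
        (hN ▸ Subgroup.mem_top g)
    have h1 := classInner_irr_ne χ.2 (irrOne : IrrCharacter G).2 fun e => hχ1 (Subtype.ext e)
    rw [classInner_def, Finset.sum_congr rfl (g := fun _ => (χ : G → ℂ) 1) fun g _ => by
      rw [hconst g, irrOne_apply, map_one, mul_one], Finset.sum_const, nsmul_eq_mul,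
      Finset.card_univ, ← Nat.card_eq_fintype_card, inv_mul_cancel_left₀ card_ne_zero',
      CfsgLib.InvolChar.deg_spec] at h1
    exact (CfsgLib.InvolChar.deg_pos χ).ne' (by exact_mod_cast h1)
  have haq : ∀ χ ∈ X', a χ ^ 2 ≤ (e : ℤ) - 1 := fun χ hχ =>
    (Finset.single_le_sum (fun χ _ => sq_nonneg (a χ)) hχ).trans_eq hsum2
  have hqZ : ((e : ℤ) + 1) * ((e : ℤ) + 1) ≤ (q : ℤ) := by exact_mod_cast hqe
  have hterm : ∀ χ ∈ X', -((a χ : ℚ) ^ 2) / ((q : ℚ) - 1) ≤
      (a χ : ℚ) ^ 3 / (CfsgLib.InvolChar.deg χ : ℚ) ∧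
      (a χ : ℚ) ^ 3 / (CfsgLib.InvolChar.deg χ : ℚ) ≤ (a χ : ℚ) ^ 2 / 2 := by
    intro χ hχ
    have hq1 : (0 : ℚ) < (q : ℚ) - 1 := by
      have : (2 : ℚ) ≤ (q : ℚ) := by exact_mod_cast (show 2 ≤ q by nlinarith)
      linarith
    have hdpos : (0 : ℚ) < (CfsgLib.InvolChar.deg χ : ℚ) := by
      exact_mod_cast CfsgLib.InvolChar.deg_pos χ
    have ha' : 0 ≤ (a χ : ℚ) ^ 2 := sq_nonneg _
    obtain ⟨k, hk⟩ : (q : ℤ) ∣ (CfsgLib.InvolChar.deg χ : ℤ) - a χ := by
      obtain ⟨j, hj⟩ := hXdvd χ (hX'mem χ hχ).1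
      exact ⟨j - a χ, by linear_combination hj⟩
    have hdp : (1 : ℤ) ≤ (CfsgLib.InvolChar.deg χ : ℤ) := by
      exact_mod_cast CfsgLib.InvolChar.deg_pos χ
    have hle : a χ < (q : ℤ) := by nlinarith [haq χ hχ]
    have hk0 : 0 ≤ k := by
      by_contra h
      nlinarith [hcount χ (hX'mem χ hχ).1]
    have hk1 : 1 ≤ k := by
      rcases lt_or_eq_of_le hk0 with h | h
      · omega
      · rw [← h, mul_zero] at hk
        exact absurd (by omega) (hnotker χ hχ)
    have hdeg : (q : ℤ) + a χ ≤ (CfsgLib.InvolChar.deg χ : ℤ) := by nlinarith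
    have hdegQ : (q : ℚ) + (a χ : ℚ) ≤ (CfsgLib.InvolChar.deg χ : ℚ) := by exact_mod_cast hdeg
    rcases lt_or_ge (a χ) 0 with hneg | hnn
    · have ham : a χ = -1 := le_antisymm (by omega) (hcount χ (hX'mem χ hχ).1)
      rw [ham] at hdegQ ⊢
      push_cast at hdegQ ⊢
      constructor
      · rw [div_le_div_iff₀ hq1 hdpos]; nlinarith
      · rw [div_le_div_iff₀ hdpos (by norm_num : (0 : ℚ) < 2)]; nlinarith
    · have hnnQ : (0 : ℚ) ≤ (a χ : ℚ) := by exact_mod_cast hnn
      have haQ : (a χ : ℚ) ≤ (q : ℚ) := by exact_mod_cast hle.le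
      constructor
      · refine le_trans (div_nonpos_of_nonpos_of_nonneg (by linarith) hq1.le) ?_
        positivity
      · rw [div_le_div_iff₀ hdpos (by norm_num : (0 : ℚ) < 2)]
        nlinarith [mul_nonneg ha' hnnQ]
  have hsum2Q : ∑ χ ∈ X', (a χ : ℚ) ^ 2 = (e : ℚ) - 1 := by exact_mod_cast hsum2
  have hAlow : -((e : ℚ) - 1) / ((q : ℚ) - 1) ≤ A := by
    rw [hA, ← hsum2Q, ← Finset.sum_neg_distrib, Finset.sum_div]
    exact Finset.sum_le_sum fun χ hχ => (hterm χ hχ).1
  have hAup : A ≤ ((e : ℚ) - 1) / 2 := by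
    rw [hA, ← hsum2Q, Finset.sum_div]
    exact Finset.sum_le_sum fun χ hχ => (hterm χ hχ).2
  have heQ : (2 : ℚ) ≤ (e : ℚ) := by exact_mod_cast he1
  have hqQ : ((e : ℚ) + 1) * ((e : ℚ) + 1) ≤ (q : ℚ) := by exact_mod_cast hqe
  have hxpos : (0 : ℚ) < (x : ℚ) := by exact_mod_cast CfsgLib.InvolChar.deg_pos _
  have hq1 : (0 : ℚ) < (q : ℚ) - 1 := by nlinarith
  have hlow : ((q : ℚ) - e) / ((q : ℚ) - 1) ≤ 1 + A := by
    have : ((q : ℚ) - e) / ((q : ℚ) - 1) = 1 + -((e : ℚ) - 1) / ((q : ℚ) - 1) := by field_simp; ring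
    linarith
  have hpos : (0 : ℚ) < 1 + A :=
    lt_of_lt_of_le (div_pos (by nlinarith) hq1) hlow
  obtain rfl : δ = 1 := by
    rcases hδ with h | h
    · exact h
    · exfalso
      rw [heq, h] at hpos
      have : (0 : ℚ) ≤ (e : ℚ) ^ 2 / (x : ℚ) := by positivity
      push_cast at hpos
      rw [neg_one_mul, neg_div] at hpos
      linarith
  push_cast at heq
  rw [one_mul] at heq
  obtain ⟨k, hk⟩ := hxdvd
  have hxZ : (1 : ℤ) ≤ (x : ℤ) := by exact_mod_cast CfsgLib.InvolChar.deg_pos _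
  rcases lt_trichotomy k 0 with h | h | h
  · nlinarith
  · have hxe : (x : ℚ) = (e : ℚ) := by
      rw [h, mul_zero] at hk
      exact_mod_cast (show (x : ℤ) = (e : ℤ) by omega)
    rw [hxe, pow_two, mul_div_assoc, div_self (by linarith), mul_one] at heq
    linarith
  · have hxge : (q : ℚ) + e ≤ (x : ℚ) := by
      exact_mod_cast (show (q : ℤ) + e ≤ (x : ℤ) by nlinarith)
    have h1 : (e : ℚ) ^ 2 / (x : ℚ) ≤ (e : ℚ) ^ 2 / ((q : ℚ) + e) :=
      div_le_div_of_nonneg_left (sq_nonneg _) (by linarith) hxge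
    have h2 : (e : ℚ) ^ 2 / ((q : ℚ) + e) < ((q : ℚ) - e) / ((q : ℚ) - 1) := by
      rw [div_lt_div_iff₀ (by linarith) hq1]
      nlinarith
    linarith

end CfsgLib.ElemFree
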