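import Cfsg.Agent.Lib.Blocks.ElemFree.Local
import Cfsg.Agent.Lib.Blocks.ElemFree.Exceptional
import Cfsg.Agent.Lib.Invol.Dihedral

/-!
# One class of involutions in a nonsolvable group with free inertia of rank at least three
-/

set_option autoImplicit false

noncomputable section

open scoped Classical

namespace CfsgLib.ElemFree

open Cfsg CfsgLib.FreeSylow
open scoped IsMulCommutative

universe u

variable {G : Type u} [Group G] [Fintype G] {P : Sylow 2 G}

/-- A Sylow two-subgroup normal: solvable. -/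
theorem isSolvable_normalizer (hab : IsMulCommutative (P : Subgroup G)) :
    Group.IsSolvable (Subgroup.normalizer ((P : Subgroup G) : Set G)) := by
  set N := Subgroup.normalizer ((P : Subgroup G) : Set G)
  set A := (P : Subgroup G).subgroupOf N
  have hAn : A.Normal := Subgroup.normal_in_normalizer
  have h1 : Group.IsSolvable A := Group.isSolvable_of_comm fun a b => by
    have h : ((a : N) : G) * ((b : N) : G) = ((b : N) : G) * ((a : N) : G) :=
      congrArg Subtype.val (hab.is_comm.comm (⟨((a : N) : G), a.2⟩ : (P : Subgroup G))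
        ⟨((b : N) : G), b.2⟩)
    exact Subtype.ext (Subtype.ext h)
  have h2 : Group.IsSolvable (N ⧸ A) := Cfsg.Agent.S0205.result (Nat.not_even_iff_odd.mp fun h =>
    (P.subtype Subgroup.le_normalizer).not_dvd_index (by
      show 2 ∣ A.index
      rw [Subgroup.index]
      exact h.two_dvd))
  refine Group.isSolvable_of_ker_le_range A.subtype (QuotientGroup.mk' A) ?_
  rw [QuotientGroup.ker_mk', Subgroup.range_subtype]

/-- The involutions of `P` form one orbit. -/
theorem invs_card_of_not_solvable (F : Free P) (hns : ¬ Group.IsSolvable G)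
    (h8 : 8 ≤ (invs P).card + 1) : (invs P).card = Nat.card (autN P) := by
  have := F.hab
  set θ : G → Subgroup G := fun a => centralizerPPrimeCore 2 a with hθdef
  set A : Subgroup G := (powMonoidHom 2 : (P : Subgroup G) →* (P : Subgroup G)).ker.map
    (P : Subgroup G).subtype with hAdef
  have hAmem : ∀ a : G, a ∈ A ↔ a ∈ (P : Subgroup G) ∧ a * a = 1 := by
    intro a
    constructor
    · rintro ⟨b, hb, rfl⟩
      refine ⟨b.2, ?_⟩
      have h : b ^ 2 = 1 := hb
      rw [pow_two] at h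
      exact congrArg Subtype.val h
    · rintro ⟨h1, h2⟩
      exact ⟨⟨a, h1⟩, by
        show (⟨a, h1⟩ : (P : Subgroup G)) ^ 2 = 1
        rw [pow_two]; exact Subtype.ext h2, rfl⟩
  have hAP : A ≤ (P : Subgroup G) := fun a ha => ((hAmem a).mp ha).1
  have hA : IsElementaryAbelian 2 A :=
    ⟨⟨⟨fun a b => Subtype.ext (F.comm (hAP a.2) (hAP b.2))⟩⟩,
      fun a ha => by rw [pow_two]; exact ((hAmem a).mp ha).2⟩
  have hA3 : 2 ^ 3 ≤ Nat.card A := by
    refine le_trans h8 (le_of_eq ?_)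
    rw [invs, Finset.filter_erase, Finset.card_erase_add_one
      (show (1 : (P : Subgroup G)) ∈
        ((Finset.univ : Finset (P : Subgroup G)).filter fun w => w * w = 1) from
        Finset.mem_filter.mpr ⟨Finset.mem_univ _, one_mul 1⟩), ← Nat.card_eq_finsetCard, hAdef,
      Subgroup.card_map_of_injective (Subgroup.subtype_injective _)]
    exact Nat.card_congr (Equiv.subtypeEquivRight fun v => by
      rw [MonoidHom.mem_ker, powMonoidHom_apply, pow_two]; simp)
  set N := Subgroup.normalizer ((P : Subgroup G) : Set G) with hN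
  have hθodd : ∀ a ∈ (P : Subgroup G), a ≠ 1 → ¬ 2 ∣ Nat.card (θ a) := fun a _ _ h =>
    CfsgLib.Cores.not_dvd_card_pPrimeCore 2 (by
      have h' : 2 ∣ Nat.card ((pPrimeCore 2 (Subgroup.centralizer ({a} : Set G))).map
        (Subgroup.centralizer ({a} : Set G)).subtype) := h
      rwa [Subgroup.card_map_of_injective Subtype.val_injective] at h')
  have hconj : ∀ n ∈ N, ∀ a ∈ (P : Subgroup G), a ≠ 1 →
      ∀ x ∈ θ a, n * x * n⁻¹ ∈ θ (n * a * n⁻¹) := by
    intro n hn a ha ha1 x hx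
    obtain ⟨h1, h2⟩ := (mem_theta F ha ha1).mp hx
    refine (mem_theta F ((Subgroup.mem_set_normalizer_iff.mp hn a).mp ha)
      (by rwa [ne_eq, conj_eq_one_iff])).mpr ⟨?_, ?_⟩
    · calc n * x * n⁻¹ * (n * a * n⁻¹) = n * (x * a) * n⁻¹ := by group
        _ = n * a * n⁻¹ * (n * x * n⁻¹) := by rw [h1]; group
    · rwa [show n * x * n⁻¹ = MulAut.conj n x from rfl, MulEquiv.orderOf_eq]
  have hθ : IsSolvableSignalizerFunctor 2 A θ := by
    refine ⟨⟨fun a _ _ => CfsgLib.Cores.centralizerPPrimeCore_le a,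
      fun a ha => hθodd a (hAP ha), fun a ha ha1 b hb x hx => ?_,
      fun a ha ha1 b hb hb1 x hx => ?_⟩, fun a ha ha1 => ?_⟩
    · have h := hconj b (Subgroup.le_normalizer (hAP hb)) a (hAP ha) ha1 x hx
      rwa [show b * a * b⁻¹ = a by rw [F.comm (hAP hb) (hAP ha), mul_inv_cancel_right]] at h
    · exact (mem_theta F (hAP hb) hb1).mpr
        ⟨Subgroup.mem_centralizer_singleton_iff.mp hx.2, ((mem_theta F (hAP ha) ha1).mp hx.1).2⟩
    · exact Cfsg.Agent.S0205.result (Nat.not_even_iff_odd.mp fun h =>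
        hθodd a (hAP ha) ha1 h.two_dvd)
  obtain ⟨⟨hWsol, -, -, -⟩, -⟩ := CfsgLib.Signalizer.closure_mem hA hA3 hθ
  set W : Subgroup G := ⨆ a : {a : G // a ∈ A ∧ a ≠ 1}, θ a with hW
  have hNW : N ≤ Subgroup.normalizer (W : Set G) := by
    refine CfsgLib.Solvable.le_normalizer_of_conj_mem fun n hn x hx => ?_
    suffices W ≤ W.comap (MulAut.conj n).toMonoidHom from this hx
    refine iSup_le fun a y hy => ?_
    obtain ⟨h1, h2⟩ := (hAmem a).mp a.2.1
    exact le_iSup (fun b : {a : G // a ∈ A ∧ a ≠ 1} => θ b)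
      ⟨n * a * n⁻¹, (hAmem _).mpr ⟨(Subgroup.mem_set_normalizer_iff.mp hn a).mp h1, by
          rw [show n * (a : G) * n⁻¹ * (n * a * n⁻¹) = n * ((a : G) * a) * n⁻¹ by group, h2]
          group⟩,
        by rw [ne_eq, conj_eq_one_iff]; exact a.2.2⟩ (hconj n hn a h1 a.2.2 y hy)
  set Mg := W ⊔ N with hMg
  have hMtop : Mg ≠ ⊤ := by
    intro htop
    have hWn : W.Normal := by
      refine Subgroup.normalizer_eq_top_iff.mp (top_le_iff.mp ?_)
      rw [← htop]
      exact sup_le Subgroup.le_normalizer hNW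
    have := isSolvable_normalizer (P := P) F.hab
    have hq : Group.IsSolvable (G ⧸ W) := Group.isSolvable_of_surjective
      (f := (QuotientGroup.mk' W).comp N.subtype) fun q => by
        obtain ⟨g, rfl⟩ := QuotientGroup.mk'_surjective W q
        obtain ⟨w, hw, n, hn, rfl⟩ := CfsgLib.Solvable.exists_mul_of_mem_sup hNW
          (show g ∈ W ⊔ N by rw [← hMg, htop]; exact Subgroup.mem_top g)
        refine ⟨⟨n, hn⟩, ?_⟩
        have hw1 : QuotientGroup.mk' W w = 1 := (QuotientGroup.eq_one_iff w).mpr hw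
        show QuotientGroup.mk' W n = QuotientGroup.mk' W (w * n)
        rw [map_mul, hw1, one_mul]
    refine hns (Group.isSolvable_of_ker_le_range W.subtype (QuotientGroup.mk' W) ?_)
    rw [QuotientGroup.ker_mk', Subgroup.range_subtype]
  have hPM : (P : Subgroup G) ≤ Mg := Subgroup.le_normalizer.trans le_sup_right
  -- centralisers of involutions
  have hCM : ∀ y ∈ (P : Subgroup G), y ≠ 1 → y * y = 1 →
      Subgroup.centralizer ({y} : Set G) ≤ Mg := by
    intro y hy hy1 hy2 c hc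
    set C := Subgroup.centralizer ({y} : Set G)
    have hOK : pPrimeCore 2 C ≤ Mg.subgroupOf C := fun s hs =>
      Subgroup.mem_sup_left (le_iSup (fun a : {a : G // a ∈ A ∧ a ≠ 1} => θ a)
        ⟨y, (hAmem y).mpr ⟨hy, hy2⟩, hy1⟩ ⟨s, hs, rfl⟩)
    have hPle : (P : Subgroup G) ≤ C := fun q hq =>
      Subgroup.mem_centralizer_singleton_iff.mpr (F.comm hq hy)
    have hPK : ((P.subtype hPle : Sylow 2 C) : Subgroup C) ≤ Mg.subgroupOf C := fun q hq => hPM hq
    obtain ⟨k, hk⟩ := F.index_core hy hy1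
    have hsup := CfsgLib.Transfer.sup_sylow_eq_top (P.subtype hPle) hk
    have h : (⟨c, hc⟩ : C) ∈ Mg.subgroupOf C := sup_le hOK hPK (by
      rw [hsup]; exact Subgroup.mem_top _)
    exact h
  have hconjM : ∀ y ∈ (P : Subgroup G), y ≠ 1 → y * y = 1 →
      ∀ x : G, x⁻¹ * y * x ∈ Mg → x ∈ Mg := by
    intro y hy hy1 hy2 x hx
    have h2 : (⟨_, hx⟩ : Mg) ^ 2 = 1 := Subtype.ext (by
      rw [SubmonoidClass.coe_pow, pow_two]
      show x⁻¹ * y * x * (x⁻¹ * y * x) = 1
      rw [show x⁻¹ * y * x * (x⁻¹ * y * x) = x⁻¹ * (y * y) * x by group, hy2]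
      group)
    have h2' : orderOf (⟨_, hx⟩ : Mg) ∣ 2 ^ 1 := by
      rw [pow_one]; exact orderOf_dvd_iff_pow_eq_one.mpr h2
    obtain ⟨k, -, hk⟩ := (Nat.dvd_prime_pow Nat.prime_two (m := 1)).mp h2'
    obtain ⟨c, hc⟩ := exists_conj_mem (P.subtype hPM) ⟨k, hk⟩
    obtain ⟨γ, hγ, he'⟩ := F.exists_autN (w := ⟨y, hy⟩)
      (w' := (⟨(c : G) * (x⁻¹ * y * x) * (c : G)⁻¹, hc⟩ : (P : Subgroup G)))
      (isConj_iff.mpr ⟨(c : G) * x⁻¹, by
        show (c : G) * x⁻¹ * y * ((c : G) * x⁻¹)⁻¹ = (c : G) * (x⁻¹ * y * x) * (c : G)⁻¹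
        group⟩)
    obtain ⟨n, hnN, hn2⟩ := mem_autN_iff.mp hγ
    have h3 := hn2 ⟨y, hy⟩
    rw [he'] at h3
    have h4 : n⁻¹ * (c : G) * x⁻¹ ∈ Subgroup.centralizer ({y} : Set G) := by
      refine Subgroup.mem_centralizer_singleton_iff.mpr ?_
      calc n⁻¹ * (c : G) * x⁻¹ * y
          = n⁻¹ * ((c : G) * (x⁻¹ * y * x) * (c : G)⁻¹) * (c : G) * x⁻¹ := by group
        _ = y * (n⁻¹ * (c : G) * x⁻¹) := by
            rw [show (c : G) * (x⁻¹ * y * x) * (c : G)⁻¹ = n * y * n⁻¹ from h3]; group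
    have h5 := mul_mem (mul_mem (inv_mem (hCM y hy hy1 hy2 h4))
      (inv_mem (show n ∈ Mg from Subgroup.mem_sup_right hnN))) c.2
    rwa [show (n⁻¹ * (c : G) * x⁻¹)⁻¹ * n⁻¹ * (c : G) = x by group] at h5
  obtain ⟨x, hx⟩ : ∃ x : G, x ∉ Mg := by
    by_contra h
    push Not at h
    exact hMtop (top_le_iff.mp fun g _ => h g)
  obtain ⟨t, ht⟩ : (invs P).Nonempty := Finset.card_pos.mp (by omega)
  have hord : ∀ v : G, v ≠ 1 → v * v = 1 → orderOf v = 2 := fun v h1 h2 =>
    orderOf_eq_prime (by rw [pow_two]; exact h2) h1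
  have hdata : ∀ v ∈ invs P, (v : G) ≠ 1 ∧ (v : G) * v = 1 := fun v hv =>
    ⟨fun h => (Finset.mem_erase.mp (Finset.mem_filter.mp hv).1).1 (Subtype.ext h),
      congrArg Subtype.val (Finset.mem_filter.mp hv).2⟩
  obtain ⟨ht1, ht2⟩ := hdata t ht
  set s := x * t * x⁻¹ with hs
  have hsM : s ∉ Mg := fun h => hx (by
    have := hconjM t t.2 ht1 ht2 x⁻¹ (by rwa [inv_inv])
    simpa using this)
  have hs2 : s * s = 1 := by
    rw [hs, show x * (t : G) * x⁻¹ * (x * t * x⁻¹) = x * ((t : G) * t) * x⁻¹ by group, ht2]; group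
  have hs1 : s ≠ 1 := fun h => hsM (h ▸ one_mem _)
  have key : ∀ v ∈ invs P, IsConj (v : G) s := by
    intro v hv
    obtain ⟨hv1, hv2⟩ := hdata v hv
    by_contra hne
    have heven : ¬ Odd (orderOf ((v : G) * s)) := fun h => by
      obtain ⟨d, -, hd⟩ := CfsgLib.Invol.exists_conj_of_odd (hord _ hv1 hv2) (hord _ hs1 hs2) h
      exact hne (isConj_iff.mpr ⟨d, hd⟩)
    obtain ⟨m, hm⟩ := (Nat.not_odd_iff_even.mp heven).two_dvd
    set D := (v : G) * s with hD
    have hvD : (v : G) * D * (v : G)⁻¹ = D⁻¹ := by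
      rw [hD, mul_inv_rev, inv_eq_of_mul_eq_one_right hv2, inv_eq_of_mul_eq_one_right hs2,
        ← mul_assoc, hv2, one_mul]
    set w := D ^ m with hw
    have hww : w * w = 1 := by rw [hw, ← pow_add, ← two_mul, ← hm, pow_orderOf_eq_one]
    have hmpos : 0 < m := by have := orderOf_pos D; omega
    have hw1 : w ≠ 1 := fun h => by
      have := Nat.le_of_dvd hmpos (orderOf_dvd_of_pow_eq_one h)
      omega
    have hwv : w ∈ Subgroup.centralizer ({(v : G)} : Set G) := by
      refine Subgroup.mem_centralizer_singleton_iff.mpr (mul_inv_eq_iff_eq_mul.mp ?_).symm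
      rw [hw, ← conj_pow, hvD, inv_pow, ← hw, inv_eq_of_mul_eq_one_right hww]
    have hwM : w ∈ Mg := hCM v v.2 hv1 hv2 hwv
    have hsw : s * w = w * s := by
      have h1 : Commute s w := by
        have h2 : s = (v : G) * D := by rw [hD, ← mul_assoc, hv2, one_mul]
        rw [h2]
        exact Commute.mul_left (Subgroup.mem_centralizer_singleton_iff.mp hwv).symm
          ((Commute.refl D).pow_right m)
      exact h1.eq
    have h2' : orderOf (⟨w, hwM⟩ : Mg) ∣ 2 ^ 1 := by
      rw [pow_one]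
      exact orderOf_dvd_iff_pow_eq_one.mpr (Subtype.ext (by rw [pow_two]; exact hww))
    obtain ⟨k, -, hk⟩ := (Nat.dvd_prime_pow Nat.prime_two (m := 1)).mp h2'
    obtain ⟨c, hc⟩ := exists_conj_mem (P.subtype hPM) ⟨k, hk⟩
    have hc' : (c : G) * w * (c : G)⁻¹ ∈ (P : Subgroup G) := hc
    have h3 : (c : G) * s * (c : G)⁻¹ ∈ Mg := by
      refine hCM _ hc' (by rwa [ne_eq, conj_eq_one_iff]) ?_
        (Subgroup.mem_centralizer_singleton_iff.mpr ?_)
      · rw [show (c : G) * w * (c : G)⁻¹ * ((c : G) * w * (c : G)⁻¹) =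
          (c : G) * (w * w) * (c : G)⁻¹ by group, hww]
        group
      · calc (c : G) * s * (c : G)⁻¹ * ((c : G) * w * (c : G)⁻¹)
            = (c : G) * (s * w) * (c : G)⁻¹ := by group
          _ = (c : G) * w * (c : G)⁻¹ * ((c : G) * s * (c : G)⁻¹) := by rw [hsw]; group
    have h4 := mul_mem (mul_mem (inv_mem c.2) h3) c.2
    rw [show (c : G)⁻¹ * ((c : G) * s * (c : G)⁻¹) * c = s by group] at h4
    exact hsM h4
  refine (congrArg Finset.card ?_).trans (Finset.card_image_of_injective Finset.univ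
    (f := fun γ : autN P => (γ : MulAut (P : Subgroup G)) t) fun γ δ h => ?_) |>.trans
    (Finset.card_univ.trans Nat.card_eq_fintype_card.symm)
  · ext v
    constructor
    · intro hv
      obtain ⟨γ, hγ, he⟩ := F.exists_autN (w := t) (w' := v) ((key t ht).trans (key v hv).symm)
      exact Finset.mem_image.mpr ⟨⟨γ, hγ⟩, Finset.mem_univ _, he⟩
    · intro hv
      obtain ⟨γ, -, rfl⟩ := Finset.mem_image.mp hv
      obtain ⟨h1, h2⟩ := Finset.mem_filter.mp ht
      refine Finset.mem_filter.mpr ⟨Finset.mem_erase.mpr ⟨?_, Finset.mem_univ _⟩, ?_⟩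
      · rw [ne_eq, EmbeddingLike.map_eq_one_iff]; exact (Finset.mem_erase.mp h1).1
      · rw [← map_mul, h2, map_one]
  · have h' : (γ : MulAut (P : Subgroup G)) t = (δ : MulAut (P : Subgroup G)) t := h
    have h2 : ((δ⁻¹ * γ : autN P) : MulAut (P : Subgroup G)) t = t := by
      rw [Subgroup.coe_mul, MulAut.mul_apply, h', ← MulAut.mul_apply, ← Subgroup.coe_mul,
        inv_mul_cancel]
      rfl
    exact (inv_mul_eq_one.mp (Subtype.ext (F.eq_one_of_fixed (δ⁻¹ * γ).2
      (fun h0 => ht1 (congrArg Subtype.val h0)) h2))).symm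

end CfsgLib.ElemFree
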