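import Cfsg.Agent.Lib.Blocks.ElemFree.Sections

/-!
# Averages over subgroups and the commuting count
-/

set_option autoImplicit false

noncomputable section

open scoped Classical

namespace CfsgLib.ElemFree

open Cfsg CfsgLib.Char CfsgLib.FreeSylow
open scoped ComplexConjugate

universe u

variable {G : Type u} [Group G] [Fintype G]

/-- The average of a function over a subgroup. -/
def avgOn (H : Subgroup G) (χ : G → ℂ) : ℂ :=
  (Nat.card H : ℂ)⁻¹ * ∑ g ∈ Finset.univ.filter (fun g => g ∈ H), χ g

/-- The averages of a character are natural numbers, larger on smaller subgroups. -/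
theorem exists_avgOn_le {χ : G → ℂ} (hχ : IsIrrCharacter G χ) {H K : Subgroup G} (hHK : H ≤ K) :
    ∃ a b : ℕ, avgOn H χ = a ∧ avgOn K χ = b ∧ b ≤ a := by
  obtain ⟨n, ρ, hρ, rfl⟩ := hχ
  have key : ∀ L : Subgroup G, avgOn L ρ.character =
      (Module.finrank ℂ (Representation.invariants (ρ.comp L.subtype)) : ℂ) := by
    intro L
    have : Invertible (Nat.card L : ℂ) := invertibleOfNonzero (card_ne_zero' (G := L))
    rw [← Representation.card_inv_mul_sum_char_eq_finrank, avgOn]
    congr 1
    exact Finset.sum_subtype _ (fun g => by simp) _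
  exact ⟨_, _, key H, key K, Submodule.finrank_mono fun v hv h => hv ⟨h, hHK h.2⟩⟩

theorem conj_avgOn {χ : G → ℂ} (hχ : IsIrrCharacter G χ) (H : Subgroup G) :
    conj (avgOn H χ) = avgOn H χ := by
  obtain ⟨a, b, ha, -, -⟩ := exists_avgOn_le hχ (le_refl H)
  rw [ha, Complex.conj_natCast]

/-- Elements of square one against a nontrivial character. -/
theorem classInner_commCount {P : Sylow 2 G} {e : ℕ}
    (horb : ∀ v : G, v ≠ 1 → v * v = 1 →
      (((Finset.univ : Finset (P : Subgroup G)).erase 1).filter
        fun y : (P : Subgroup G) => IsConj (y : G) v).card = e)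
    (hel : ∀ w ∈ (P : Subgroup G), w * w = 1) (χ : IrrCharacter G) (hχ : χ ≠ irrOne) :
    (e : ℂ) * classInner (χ : G → ℂ) (commCount (G := G)) =
      ∑ y ∈ (Finset.univ : Finset (P : Subgroup G)).erase 1,
        avgOn (Subgroup.centralizer ({(y : G)} : Set G)) (χ : G → ℂ) := by
  have hχc := isClassFunction_of_isIrr χ.2
  let H : G → ℂ := fun v => ∑ g ∈ Finset.univ.filter (fun g => v * g = g * v), (χ : G → ℂ) g
  have hHc : IsClassFunction G H := fun v c => by
    refine Finset.sum_bij (fun g _ => c⁻¹ * g * c) (fun g hg => ?_)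
      (fun a _ b _ e => mul_left_cancel (mul_right_cancel e)) (fun g hg => ?_) (fun g _ => ?_)
    · simp only [Finset.mem_filter, Finset.mem_univ, true_and] at hg ⊢
      calc v * (c⁻¹ * g * c) = c⁻¹ * (c * v * c⁻¹ * g) * c := by group
        _ = c⁻¹ * g * c * v := by rw [hg]; group
    · simp only [Finset.mem_filter, Finset.mem_univ, true_and] at hg ⊢
      refine ⟨c * g * c⁻¹, ?_, by group⟩
      calc c * v * c⁻¹ * (c * g * c⁻¹) = c * (v * g) * c⁻¹ := by group
        _ = _ := by rw [hg]; group
    · rw [← hχc (c⁻¹ * g * c) c]; group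
  set Z := (Finset.univ : Finset G).filter fun v => v * v = 1 with hZ
  have h1 : classInner (χ : G → ℂ) (commCount (G := G)) = (Nat.card G : ℂ)⁻¹ * ∑ v ∈ Z, H v := by
    rw [classInner_def]
    congr 1
    simp only [commCount, Finset.natCast_card_filter, map_sum, apply_ite (starRingEnd ℂ), map_one, map_zero, Finset.mul_sum, hZ, H,
      Finset.sum_filter, mul_ite, mul_one, mul_zero]
    rw [Finset.sum_comm]
    refine Finset.sum_congr rfl fun v _ => ?_
    by_cases hv : v * v = 1
    · simp only [hv, true_and, if_true]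
    · simp only [hv, false_and, if_false, Finset.sum_const_zero]
  have hone : H 1 = 0 := by
    have h := classInner_irr_ne χ.2 (irrOne : IrrCharacter G).2 fun h => hχ (Subtype.ext h)
    rw [classInner_def] at h
    simp only [irrOne_apply, map_one, mul_one, mul_eq_zero, inv_eq_zero] at h
    simp only [H, one_mul, mul_one, Finset.filter_true]
    exact h.resolve_left card_ne_zero'
  have h2 : (e : ℂ) * ∑ v ∈ Z, H v = ∑ y ∈ (Finset.univ : Finset (P : Subgroup G)).erase 1,
      (Nat.card {x : G // IsConj (y : G) x} : ℂ) * H y := by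
    rw [← Finset.sum_erase Z hone, Finset.mul_sum]
    calc ∑ v ∈ Z.erase 1, (e : ℂ) * H v
        = ∑ v ∈ Z.erase 1, ∑ y ∈ (Finset.univ : Finset (P : Subgroup G)).erase 1,
            if IsConj (y : G) v then H v else 0 := by
          refine Finset.sum_congr rfl fun v hv => ?_
          obtain ⟨hv1, hvZ⟩ := Finset.mem_erase.mp hv
          rw [← Finset.sum_filter, Finset.sum_const, nsmul_eq_mul,
            horb v hv1 (Finset.mem_filter.mp hvZ).2]
      _ = _ := by
          rw [Finset.sum_comm]
          refine Finset.sum_congr rfl fun y hy => ?_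
          have hy1 : (y : G) ≠ 1 := fun h => (Finset.mem_erase.mp hy).1 (Subtype.ext h)
          rw [← Finset.sum_filter, Finset.sum_congr rfl (g := fun _ => H (y : G)) fun v hv =>
            (isClassFunction_iff.mp hHc _ _ (Finset.mem_filter.mp hv).2).symm,
            Finset.sum_const, nsmul_eq_mul, Nat.card_eq_fintype_card, Fintype.card_subtype]
          congr 3
          ext v
          simp only [Finset.mem_filter, Finset.mem_erase, Finset.mem_univ, true_and, hZ]
          refine ⟨fun h => h.2, fun h => ⟨⟨?_, ?_⟩, h⟩⟩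
          · rintro rfl
            exact hy1 (isConj_one_left.mp h)
          · obtain ⟨c, rfl⟩ := isConj_iff.mp h
            rw [show c * (y : G) * c⁻¹ * (c * y * c⁻¹) = c * ((y : G) * y) * c⁻¹ by group,
              hel _ y.2]
            group
  rw [h1, ← mul_assoc, mul_comm (e : ℂ), mul_assoc, h2, Finset.mul_sum]
  refine Finset.sum_congr rfl fun y _ => ?_
  have hc := card_isConj_mul_card_centralizer (y : G)
  rw [avgOn, ← hc, Nat.cast_mul]
  have hH : H (y : G) = ∑ g ∈ Finset.univ.filter
      (fun g => g ∈ Subgroup.centralizer ({(y : G)} : Set G)), (χ : G → ℂ) g :=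
    Finset.sum_congr (Finset.filter_congr fun g _ => by
      rw [Subgroup.mem_centralizer_singleton_iff, eq_comm]) fun _ _ => rfl
  rw [hH]
  have hne : (Nat.card {x : G // IsConj (y : G) x} : ℂ) ≠ 0 := by
    intro h
    have h' : Nat.card {x : G // IsConj (y : G) x} = 0 := by exact_mod_cast h
    rw [h', zero_mul] at hc
    exact Nat.card_pos.ne hc
  field_simp

end CfsgLib.ElemFree
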