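import Cfsg.Agent.Lib.Blocks.ElemFree.Fixed
import Cfsg.Agent.Lib.Transfer.Basic
import Cfsg.Agent.Lib.Solvable.Basic

/-!
# Sections for an abelian Sylow two-subgroup with free normaliser action
-/

set_option autoImplicit false

noncomputable section

open scoped Classical

namespace CfsgLib.ElemFree

open Cfsg CfsgLib.Blocks CfsgLib.Char CfsgLib.FreeSylow
open scoped ComplexConjugate

universe u

variable {G : Type u} [Group G] [Fintype G] {P : Sylow 2 G} {M : Ideal AlgInt} [M.IsMaximal]

/-- Commutators in `C(y)` lie in its core. -/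
theorem core_commutator (F : Free P) {y : G} (hy : y ∈ (P : Subgroup G)) (hy1 : y ≠ 1)
    : ∀ a b : Subgroup.centralizer ({y} : Set G),
    a * b * a⁻¹ * b⁻¹ ∈ pPrimeCore 2 (Subgroup.centralizer ({y} : Set G)) := by
  set C := Subgroup.centralizer ({y} : Set G)
  set O := pPrimeCore 2 C
  have : O.Normal := by
    have := CfsgLib.Cores.pPrimeCore_characteristic (G := C) 2
    infer_instance
  obtain ⟨k, hk⟩ := F.index_core hy hy1
  have hPC : (P : Subgroup G) ≤ C := fun w hw =>
    Subgroup.mem_centralizer_singleton_iff.mpr (F.comm hw hy)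
  set P' := P.subtype hPC
  have hsup : O ⊔ (P' : Subgroup C) = ⊤ := CfsgLib.Transfer.sup_sylow_eq_top P' hk
  have himg : ∀ c : C, ∃ s : C, s ∈ (P' : Subgroup C) ∧
      QuotientGroup.mk' O s = QuotientGroup.mk' O c := by
    intro c
    obtain ⟨o, ho, s, hs, rfl⟩ := CfsgLib.Solvable.exists_mul_of_mem_sup
      Subgroup.le_normalizer_of_normal
      (show c ∈ O ⊔ (P' : Subgroup C) by rw [hsup]; exact Subgroup.mem_top c)
    have ho1 : QuotientGroup.mk' O o = 1 := (QuotientGroup.eq_one_iff o).mpr ho
    exact ⟨s, hs, by rw [map_mul, ho1, one_mul]⟩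
  intro a b
  obtain ⟨s, hs, hsa⟩ := himg a
  obtain ⟨t, ht, htb⟩ := himg b
  rw [← QuotientGroup.eq_one_iff (N := O)]
  show QuotientGroup.mk' O (a * b * a⁻¹ * b⁻¹) = 1
  have hst : s * t = t * s := Subtype.ext (F.comm hs ht)
  rw [map_mul, map_mul, map_mul, map_inv, map_inv, ← hsa, ← htb, ← map_mul, hst, map_mul,
    mul_inv_cancel_right, mul_inv_cancel]

/-- The number of square roots of `c` in `P`. -/
def rootsIn (P : Sylow 2 G) (c : G) : ℕ :=
  ((Finset.univ : Finset (P : Subgroup G)).filter
    fun w : (P : Subgroup G) => (w : G) * w = c).card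

omit [Fintype G] in
theorem pow_section_two {y : G} {a : ℕ} (hy : orderOf y = 2 ^ a)
    {s : Subgroup.centralizer ({y} : Set G)} (hs : ¬ 2 ∣ orderOf s) :
    ∃ m : ℕ, (y * (s : G)) ^ m = y := by
  obtain ⟨k, hk⟩ := exists_pow_eq_self_of_coprime (x := y) (n := orderOf s) (by
    rw [hy]
    exact ((Nat.prime_two.coprime_iff_not_dvd.mpr hs).symm.pow_right a))
  refine ⟨orderOf s * k, ?_⟩
  rw [(commute_of_mem_centralizer s).mul_pow, pow_mul (s : G), ← Subgroup.coe_pow,
    pow_orderOf_eq_one, OneMemClass.coe_one, one_pow, mul_one, pow_mul, hk]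

/-- The pairs counts over a section. -/
theorem pairs_section (F : Free P) {y : G} (hy : y ∈ (P : Subgroup G)) (hy1 : y ≠ 1)
    (c : G) (hc : c = y ∨ c = 1) :
    ∑ s ∈ reg y, (Finset.univ.filter fun v : G => v * v = c ∧ v * y = y * v ∧
        v * (s : G) = (s : G) * v).card = rootsIn P c * (reg y).card := by
  set C := Subgroup.centralizer ({y} : Set G) with hC
  set O := pPrimeCore 2 C with hO
  have : O.Normal := by
    have := CfsgLib.Cores.pPrimeCore_characteristic (G := C) 2
    infer_instance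
  have hle : (P : Subgroup G) ≤ C := fun w hw =>
    Subgroup.mem_centralizer_singleton_iff.mpr (F.comm hw hy)
  have hmem : ∀ s : C, s ∈ reg y ↔ s ∈ O := fun s =>
    (Finset.mem_filter.trans (and_iff_right (Finset.mem_univ s))).trans (F.mem_core hy hy1 s).symm
  have hcardO : (reg y).card = Nat.card O := by
    rw [← Nat.card_eq_finsetCard]
    exact Nat.card_congr (Equiv.subtypeEquivRight hmem)
  have hodd : Odd (Nat.card O) := Nat.not_even_iff_odd.mp fun h =>
    CfsgLib.Cores.not_dvd_card_pPrimeCore 2 h.two_dvd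
  have hQcard : Nat.card ((P : Subgroup G).subgroupOf C) = Nat.card (P : Subgroup G) :=
    Nat.card_congr (Subgroup.subgroupOfEquivOfLe hle).toEquiv
  have hind : O.index = Nat.card ((P : Subgroup G).subgroupOf C) := by
    have h1 : (reg y).card * Nat.card (P : Subgroup G) = Nat.card C := F.card_regular hy hy1
    rw [← O.card_mul_index, hcardO] at h1
    rw [hQcard]
    exact (Nat.eq_of_mul_eq_mul_left Nat.card_pos h1).symm
  obtain ⟨j, hj⟩ := IsPGroup.iff_card.mp P.isPGroup'
  have hdis : O ⊓ (P : Subgroup G).subgroupOf C = ⊥ :=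
    disjoint_iff.mp (Subgroup.disjoint_of_coprime_natCard (by
      rw [hQcard, hj]
      exact Nat.Coprime.pow_right j (Nat.coprime_two_right.mpr hodd)))
  have hcP : c ∈ (P : Subgroup G) := by
    rcases hc with rfl | rfl
    · exact hy
    · exact one_mem _
  have hcen : ∀ g : C, g * ⟨c, hle hcP⟩ = (⟨c, hle hcP⟩ : C) * g := fun g => Subtype.ext (by
    rcases hc with rfl | rfl
    · exact Subgroup.mem_centralizer_singleton_iff.mp g.2
    · show (g : G) * 1 = 1 * (g : G)
      rw [mul_one, one_mul])
  have hp := card_pairs_sq O hodd ((P : Subgroup G).subgroupOf C) hdis hind ⟨c, hle hcP⟩ hcP hcen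
  have hroots : ((Finset.univ : Finset ((P : Subgroup G).subgroupOf C)).filter
      fun w : (P : Subgroup G).subgroupOf C => (w : C) * (w : C) = (⟨c, hle hcP⟩ : C)).card =
        rootsIn P c := by
    refine Finset.card_equiv (Subgroup.subgroupOfEquivOfLe hle).toEquiv fun w => ?_
    simp only [Finset.mem_filter, Finset.mem_univ, true_and]
    exact ⟨fun h => congrArg Subtype.val h, fun h => Subtype.ext h⟩
  rw [hcardO, ← hroots]
  refine Eq.trans ?_ (hp.trans (by congr!))
  rw [Finset.sum_subtype _ hmem]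
  refine Finset.sum_congr rfl fun s _ => ?_
  symm
  refine Finset.card_bij (fun v _ => (v : G)) (fun v hv => ?_)
    (fun a _ b _ e => Subtype.ext e) fun v hv => ?_
  · simp only [Finset.mem_filter, Finset.mem_univ, true_and] at hv ⊢
    exact ⟨congrArg Subtype.val hv.1, Subgroup.mem_centralizer_singleton_iff.mp v.2,
      congrArg Subtype.val hv.2⟩
  · simp only [Finset.mem_filter, Finset.mem_univ, true_and] at hv ⊢
    exact ⟨⟨v, Subgroup.mem_centralizer_singleton_iff.mpr hv.2.1⟩,
      ⟨Subtype.ext hv.1, Subtype.ext hv.2.2⟩, rfl⟩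

/-- The average of the root defect on a section. -/
theorem rootDefect_section (F : Free P) {y : G} (hy : y ∈ (P : Subgroup G)) (hy1 : y ≠ 1) :
    ∑ s ∈ reg y, rootDefect (y * (s : G)) =
      ((reg y).card : ℂ) * ((rootsIn P y : ℂ) - (rootsIn P 1 : ℂ)) := by
  have key : ∀ c : G, c = y ∨ c = 1 → ((∑ s ∈ reg y, (Finset.univ.filter fun v : G => v * v = c ∧
      v * y = y * v ∧ v * (s : G) = (s : G) * v).card : ℕ) : ℂ) =
      (rootsIn P c : ℂ) * ((reg y).card : ℂ) := fun c hc => by
    rw [pairs_section F hy hy1 c hc, Nat.cast_mul]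
  rw [mul_sub, mul_comm _ (rootsIn P y : ℂ), mul_comm _ (rootsIn P 1 : ℂ), ← key y (Or.inl rfl),
    ← key 1 (Or.inr rfl), Nat.cast_sum, Nat.cast_sum, ← Finset.sum_sub_distrib]
  refine Finset.sum_congr rfl fun s hs => ?_
  have hso := (Finset.mem_filter.mp hs).2
  obtain ⟨a, ha⟩ := CfsgLib.NilBlock.exists_pow_of_mem P.isPGroup' hy
  obtain ⟨m, hm⟩ := pow_section_two ha hso
  have hys : Commute y (s : G) := commute_of_mem_centralizer s
  have hsplit : ∀ v : G, Commute v (y * (s : G)) → Commute v y ∧ Commute v (s : G) := by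
    intro v hv
    have h1 : Commute v y := hm ▸ hv.pow_right m
    have h2 := h1.inv_right.mul_right hv
    rw [inv_mul_cancel_left] at h2
    exact ⟨h1, h2⟩
  obtain ⟨j, hj⟩ : Odd (orderOf (s : G)) := by
    rw [Subgroup.orderOf_coe]
    exact Nat.not_even_iff_odd.mp fun h => hso h.two_dvd
  set r := (s : G) ^ (j + 1) with hr
  have hrr : r * r = (s : G) := by
    rw [hr, ← pow_add, show j + 1 + (j + 1) = orderOf (s : G) + 1 by omega, pow_succ,
      pow_orderOf_eq_one, one_mul]
  refine congrArg₂ (fun a b : ℕ => (a : ℂ) - (b : ℂ)) ?_ ?_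
  · refine Finset.card_bij (fun g _ => g * r⁻¹) (fun g hg => ?_)
      (fun a _ b _ e => mul_right_cancel e) fun v hv => ?_
    · simp only [Finset.mem_filter, Finset.mem_univ, true_and] at hg ⊢
      have hgc : Commute g (y * (s : G)) := by
        rw [← hg]; exact (Commute.refl g).mul_right (Commute.refl g)
      obtain ⟨h1, h2⟩ := hsplit g hgc
      have hgr : Commute g r := h2.pow_right _
      refine ⟨?_, ((h1.mul_left ((hys.pow_right _).symm.inv_left))).eq,
        ((h2.mul_left ((Commute.refl (s : G)).pow_left _).inv_left)).eq⟩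
      rw [hgr.inv_right.symm.mul_mul_mul_comm, hg, ← mul_inv_rev, hrr, mul_inv_cancel_right]
    · simp only [Finset.mem_filter, Finset.mem_univ, true_and] at hv ⊢
      have hvr : Commute v r := (show Commute v (s : G) from hv.2.2).pow_right _
      refine ⟨v * r, ?_, by group⟩
      rw [hvr.symm.mul_mul_mul_comm, hv.1, hrr]
  · refine congrArg Finset.card (Finset.filter_congr fun v _ => and_congr_right fun _ => ?_)
    exact ⟨fun h => let ⟨h1, h2⟩ := hsplit v h; ⟨h1.eq, h2.eq⟩,
      fun h => ((show Commute v y from h.1).mul_right (show Commute v (s : G) from h.2)).eq⟩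

/-- A character against the commuting count is a nonnegative real. -/
theorem classInner_commCount_nonneg (χ : IrrCharacter G) :
    ∃ q : ℝ, 0 ≤ q ∧ classInner (χ : G → ℂ) (commCount (G := G)) = (q : ℂ) := by
  choose a b ha _ _ using fun v : G =>
    exists_avgOn_le χ.2 (le_refl (Subgroup.centralizer ({v} : Set G)))
  refine ⟨(Nat.card G : ℝ)⁻¹ * ∑ v ∈ Finset.univ.filter (fun v : G => v * v = 1),
    (Nat.card (Subgroup.centralizer ({v} : Set G)) : ℝ) * (a v : ℝ), by positivity, ?_⟩
  push_cast
  rw [classInner_def]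
  congr 1
  simp only [← ha, avgOn, mul_inv_cancel_left₀ card_ne_zero', commCount, Finset.natCast_card_filter,
    map_sum, apply_ite (starRingEnd ℂ), map_one, map_zero, Finset.mul_sum, Finset.sum_filter,
    mul_ite, mul_one, mul_zero]
  rw [Finset.sum_comm]
  refine Finset.sum_congr rfl fun v _ => ?_
  by_cases hv : v * v = 1
  · simp only [hv, true_and, if_true]
    refine Finset.sum_congr rfl fun g _ => if_congr ?_ rfl rfl
    rw [Subgroup.mem_centralizer_singleton_iff, eq_comm]
  · simp only [hv, false_and, if_false, Finset.sum_const_zero]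

end CfsgLib.ElemFree
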