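import Cfsg.Agent.Lib.Blocks.ElemFree.Sections
import Cfsg.Agent.Lib.Signalizer.Main
import Cfsg.Agent.Lib.Cores.Balance
import Cfsg.Agent.S0205

/-!
# A subgroup containing all centralisers of involutions, with abelian quotient

For an elementary abelian Sylow two-subgroup of order at least eight with free and abelian
normaliser action, the odd parts of the centralisers generate a group `W` of odd order; `W·N(P)`
contains `W·C(P)` as a normal subgroup with quotient the automiser of `P`.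
-/

set_option autoImplicit false

noncomputable section

open scoped Classical

namespace CfsgLib.ElemFree

open Cfsg CfsgLib.FreeSylow

universe u

variable {G : Type u} [Group G] [Fintype G] {P : Sylow 2 G}

theorem mem_theta (F : Free P) {a : G} (ha : a ∈ (P : Subgroup G)) (ha1 : a ≠ 1) {x : G} :
    x ∈ centralizerPPrimeCore 2 a ↔ x * a = a * x ∧ ¬ 2 ∣ orderOf x := by
  constructor
  · rintro ⟨s, hs, rfl⟩
    exact ⟨Subgroup.mem_centralizer_singleton_iff.mp s.2,
      fun h => (F.mem_core ha ha1 s).mp hs (by rwa [← Subgroup.orderOf_coe])⟩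
  · rintro ⟨h1, h2⟩
    exact ⟨⟨x, Subgroup.mem_centralizer_singleton_iff.mpr h1⟩,
      (F.mem_core ha ha1 _).mpr (by rwa [← Subgroup.orderOf_coe]), rfl⟩

/-- The subgroup `M` and its normal subgroup `K`. -/
theorem exists_local (F : Free P) (hel : ∀ w ∈ (P : Subgroup G), w * w = 1)
    (hcard : 8 ≤ Nat.card (P : Subgroup G))
    (hE : ∀ g ∈ Subgroup.normalizer ((P : Subgroup G) : Set G),
      ∀ h ∈ Subgroup.normalizer ((P : Subgroup G) : Set G),
        g * h * g⁻¹ * h⁻¹ ∈ Subgroup.centralizer ((P : Subgroup G) : Set G)) :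
    ∃ (Mg K : Subgroup G), (P : Subgroup G) ≤ Mg ∧
      Subgroup.normalizer ((P : Subgroup G) : Set G) ≤ Mg ∧ K ≤ Mg ∧
      (K.subgroupOf Mg).Normal ∧ K.relIndex Mg = Nat.card (autN P) ∧
      (∀ g ∈ Mg, ∀ h ∈ Mg, g * h * g⁻¹ * h⁻¹ ∈ K) ∧
      ∀ y ∈ (P : Subgroup G), y ≠ 1 → Subgroup.centralizer ({y} : Set G) ≤ K := by
  set θ : G → Subgroup G := fun a => centralizerPPrimeCore 2 a with hθdef
  have hA : IsElementaryAbelian 2 (P : Subgroup G) :=
    ⟨F.hab, fun a ha => by rw [pow_two]; exact hel a ha⟩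
  have hPC : (P : Subgroup G) ≤ Subgroup.centralizer ((P : Subgroup G) : Set G) := fun a ha =>
    Subgroup.mem_centralizer_iff.mpr fun b hb => F.comm hb ha
  have hθodd : ∀ a ∈ (P : Subgroup G), a ≠ 1 → ¬ 2 ∣ Nat.card (θ a) := fun a _ _ h =>
    CfsgLib.Cores.not_dvd_card_pPrimeCore 2 (by
      have h' : 2 ∣ Nat.card ((pPrimeCore 2 (Subgroup.centralizer ({a} : Set G))).map
        (Subgroup.centralizer ({a} : Set G)).subtype) := h
      rwa [Subgroup.card_map_of_injective Subtype.val_injective] at h')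
  have hconj : ∀ n ∈ Subgroup.normalizer ((P : Subgroup G) : Set G), ∀ a ∈ (P : Subgroup G), a ≠ 1 →
      ∀ x ∈ θ a, n * x * n⁻¹ ∈ θ (n * a * n⁻¹) := by
    intro n hn a ha ha1 x hx
    obtain ⟨h1, h2⟩ := (mem_theta F ha ha1).mp hx
    refine (mem_theta F ((Subgroup.mem_set_normalizer_iff.mp hn a).mp ha)
      (by rwa [ne_eq, conj_eq_one_iff])).mpr ⟨?_, ?_⟩
    · calc n * x * n⁻¹ * (n * a * n⁻¹) = n * (x * a) * n⁻¹ := by group
        _ = n * a * n⁻¹ * (n * x * n⁻¹) := by rw [h1]; group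
    · rwa [show n * x * n⁻¹ = MulAut.conj n x from rfl, MulEquiv.orderOf_eq]
  have hθ : IsSolvableSignalizerFunctor 2 (P : Subgroup G) θ := by
    refine ⟨⟨fun a _ _ => CfsgLib.Cores.centralizerPPrimeCore_le a, hθodd, fun a ha ha1 b hb x hx => ?_,
      fun a ha ha1 b hb hb1 x hx => ?_⟩, fun a ha ha1 => ?_⟩
    · have h := hconj b (Subgroup.le_normalizer hb) a ha ha1 x hx
      rwa [show b * a * b⁻¹ = a by rw [F.comm hb ha, mul_inv_cancel_right]] at h
    · exact (mem_theta F hb hb1).mpr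
        ⟨Subgroup.mem_centralizer_singleton_iff.mp hx.2, ((mem_theta F ha ha1).mp hx.1).2⟩
    · exact Cfsg.Agent.S0205.result (Nat.not_even_iff_odd.mp fun h => hθodd a ha ha1 h.two_dvd)
  obtain ⟨⟨-, hWodd, hPW, -⟩, -⟩ :=
    CfsgLib.Signalizer.closure_mem hA (by simpa using hcard) hθ
  set W : Subgroup G := ⨆ a : {a : G // a ∈ (P : Subgroup G) ∧ a ≠ 1}, θ a with hW
  set N := Subgroup.normalizer ((P : Subgroup G) : Set G) with hN
  set CP := Subgroup.centralizer ((P : Subgroup G) : Set G) with hCP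
  have hCN : CP ≤ N := Subgroup.centralizer_le_normalizer _
  have hNW : N ≤ Subgroup.normalizer (W : Set G) := by
    refine CfsgLib.Solvable.le_normalizer_of_conj_mem fun n hn x hx => ?_
    suffices W ≤ W.comap (MulAut.conj n).toMonoidHom from this hx
    refine iSup_le fun a y hy => ?_
    exact le_iSup (fun b : {a : G // a ∈ (P : Subgroup G) ∧ a ≠ 1} => θ b)
      ⟨n * a * n⁻¹, (Subgroup.mem_set_normalizer_iff.mp hn a).mp a.2.1,
        by rw [ne_eq, conj_eq_one_iff]; exact a.2.2⟩ (hconj n hn a a.2.1 a.2.2 y hy)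
  have hWN : ∀ w ∈ W, w ∈ N → w ∈ CP := by
    intro w hw hwN
    refine Subgroup.mem_centralizer_iff.mpr fun q hq => ?_
    have hqW : w * q * w⁻¹ * q⁻¹ ∈ W := by
      rw [show w * q * w⁻¹ * q⁻¹ = w * (q * w⁻¹ * q⁻¹) by group]
      exact mul_mem hw (hPW q hq _ (inv_mem hw))
    have hqP : w * q * w⁻¹ * q⁻¹ ∈ (P : Subgroup G) :=
      mul_mem ((Subgroup.mem_set_normalizer_iff.mp hwN q).mp hq) (inv_mem hq)
    have h := eq_one_of_sq_of_mem (Nat.not_even_iff_odd.mp fun h => hWodd h.two_dvd) hqW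
      (hel _ hqP)
    rw [mul_inv_eq_one, mul_inv_eq_iff_eq_mul] at h
    exact h.symm
  set Mg := W ⊔ N with hMg
  set K := W ⊔ CP with hK
  have hMel : ∀ g ∈ Mg, ∃ w ∈ W, ∃ n ∈ N, g = w * n := fun g hg =>
    CfsgLib.Solvable.exists_mul_of_mem_sup hNW hg
  have hKM : K ≤ Mg := sup_le_sup_left hCN W
  have hMK : Mg ≤ Subgroup.normalizer (K : Set G) := by
    refine sup_le ((le_sup_left : W ≤ K).trans Subgroup.le_normalizer) ?_
    refine CfsgLib.Solvable.le_normalizer_of_conj_mem fun n hn x hx => ?_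
    obtain ⟨w, hw, c, hc, rfl⟩ := CfsgLib.Solvable.exists_mul_of_mem_sup (hCN.trans hNW) hx
    rw [show n * (w * c) * n⁻¹ = n * w * n⁻¹ * (n * c * n⁻¹) by group]
    refine mul_mem (Subgroup.mem_sup_left ((Subgroup.mem_set_normalizer_iff.mp (hNW hn) w).mp hw))
      (Subgroup.mem_sup_right ?_)
    refine Subgroup.mem_centralizer_iff.mpr fun q hq => ?_
    have hq' : n⁻¹ * q * n ∈ (P : Subgroup G) := by
      have h := (Subgroup.mem_set_normalizer_iff.mp (inv_mem hn) q).mp hq
      rwa [inv_inv] at h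
    calc q * (n * c * n⁻¹) = n * ((n⁻¹ * q * n) * c) * n⁻¹ := by group
      _ = n * c * n⁻¹ * q := by
        rw [Subgroup.mem_centralizer_iff.mp hc _ hq']; group
  have hnorm : (K.subgroupOf Mg).Normal :=
    (Subgroup.normal_subgroupOf_iff_le_normalizer hKM).mpr hMK
  let f : N →* Mg ⧸ K.subgroupOf Mg :=
    (QuotientGroup.mk' (K.subgroupOf Mg)).comp (Subgroup.inclusion le_sup_right)
  have hfsurj : Function.Surjective f := by
    intro q
    obtain ⟨⟨g, hg⟩, rfl⟩ := QuotientGroup.mk'_surjective _ q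
    obtain ⟨w, hw, n, hn, rfl⟩ := hMel g hg
    refine ⟨⟨n, hn⟩, (QuotientGroup.eq (s := K.subgroupOf Mg)).mpr ?_⟩
    show n⁻¹ * (w * n) ∈ K
    exact Subgroup.mem_sup_left (by
      simpa [mul_assoc] using (Subgroup.mem_set_normalizer_iff.mp (inv_mem (hNW hn)) w).mp hw)
  have hker : f.ker = CP.subgroupOf N := by
    ext n
    rw [MonoidHom.mem_ker, MonoidHom.comp_apply, QuotientGroup.mk'_apply, QuotientGroup.eq_one_iff]
    show (n : G) ∈ K ↔ (n : G) ∈ CP
    refine ⟨fun h => ?_, fun h => Subgroup.mem_sup_right h⟩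
    obtain ⟨w, hw, c, hc, he⟩ := CfsgLib.Solvable.exists_mul_of_mem_sup (hCN.trans hNW) h
    rw [he]
    refine mul_mem (hWN w hw ?_) hc
    rw [show w = (n : G) * c⁻¹ by rw [he, mul_inv_cancel_right]]
    exact mul_mem n.2 (inv_mem (hCN hc))
  refine ⟨Mg, K, le_sup_of_le_right Subgroup.le_normalizer, le_sup_right, hKM, hnorm, ?_, ?_,
    fun y hy hy1 => ?_⟩
  · rw [card_autN rfl]
    show (K.subgroupOf Mg).index = CP.relIndex N
    rw [Subgroup.relIndex, ← hker, Subgroup.index_ker, Subgroup.index,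
      f.range_eq_top.mpr hfsurj, Subgroup.card_top]
  · intro g hg h hh
    have key : ∀ a b : Mg ⧸ K.subgroupOf Mg, a * b = b * a := by
      intro a b
      obtain ⟨n, rfl⟩ := hfsurj a
      obtain ⟨n', rfl⟩ := hfsurj b
      have h1 : n * n' * n⁻¹ * n'⁻¹ ∈ f.ker := by
        rw [hker, Subgroup.mem_subgroupOf]
        exact hE n n.2 n' n'.2
      rw [MonoidHom.mem_ker, map_mul, map_mul, map_mul, map_inv, map_inv, mul_inv_eq_one,
        mul_inv_eq_iff_eq_mul] at h1
      exact h1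
    have h1 : (QuotientGroup.mk' (K.subgroupOf Mg))
        (⟨g, hg⟩ * ⟨h, hh⟩ * (⟨g, hg⟩ : Mg)⁻¹ * (⟨h, hh⟩ : Mg)⁻¹) = 1 := by
      rw [map_mul, map_mul, map_mul, map_inv, map_inv,
        key (QuotientGroup.mk' (K.subgroupOf Mg) ⟨g, hg⟩), mul_inv_cancel_right, mul_inv_cancel]
    rw [QuotientGroup.mk'_apply, QuotientGroup.eq_one_iff] at h1
    exact h1
  · have hPle : (P : Subgroup G) ≤ Subgroup.centralizer ({y} : Set G) := fun q hq =>
      Subgroup.mem_centralizer_singleton_iff.mpr (F.comm hq hy)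
    have hOK : pPrimeCore 2 (Subgroup.centralizer ({y} : Set G)) ≤
        K.subgroupOf (Subgroup.centralizer ({y} : Set G)) := fun s hs =>
      Subgroup.mem_sup_left (le_iSup (fun a : {a : G // a ∈ (P : Subgroup G) ∧ a ≠ 1} => θ a)
        ⟨y, hy, hy1⟩ ⟨s, hs, rfl⟩)
    have hPK : (P : Subgroup G).subgroupOf (Subgroup.centralizer ({y} : Set G)) ≤
        K.subgroupOf (Subgroup.centralizer ({y} : Set G)) := fun q hq =>
      Subgroup.mem_sup_right (hPC hq)
    obtain ⟨k, hk⟩ := F.index_core hy hy1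
    have h1 := Subgroup.index_dvd_of_le hPK
    have h2 := Subgroup.index_dvd_of_le hOK
    rw [hk] at h2
    have h3 : ¬ 2 ∣ ((P : Subgroup G).subgroupOf (Subgroup.centralizer ({y} : Set G))).index :=
      (P.subtype hPle).not_dvd_index
    have h4 : (K.subgroupOf (Subgroup.centralizer ({y} : Set G))).index = 1 := by
      obtain ⟨j, -, hj⟩ := (Nat.dvd_prime_pow Nat.prime_two).mp h2
      obtain rfl | hj0 := Nat.eq_zero_or_pos j
      · simpa using hj
      · exact absurd ((dvd_pow_self 2 hj0.ne').trans (hj ▸ h1)) h3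
    intro c hc
    have : (⟨c, hc⟩ : Subgroup.centralizer ({y} : Set G)) ∈
        K.subgroupOf (Subgroup.centralizer ({y} : Set G)) := by
      rw [Subgroup.index_eq_one.mp h4]; exact Subgroup.mem_top _
    exact this

end CfsgLib.ElemFree
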