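import Cfsg.Agent.Lib.Blocks.ElemFree.Count
import Cfsg.Agent.Lib.Blocks.ElemFree.Local
import Cfsg.Agent.Lib.Blocks.ElemFree.Fixed
import Cfsg.Agent.Lib.BlockArith.FreeSylowMain

/-!
# The principal two-block for an elementary abelian Sylow subgroup with free abelian inertia

At least `e + (|P| - 1) / e` irreducible characters lie in the principal block.
-/

set_option autoImplicit false

noncomputable section

open scoped Classical

namespace CfsgLib.ElemFree

open Cfsg CfsgLib.Blocks CfsgLib.Char CfsgLib.FreeSylow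
open scoped ComplexConjugate IsMulCommutative

universe u

variable {G : Type u} [Group G] [Fintype G] {P : Sylow 2 G} {M : Ideal AlgInt} [M.IsMaximal]

/-- The nonidentity elements of `P`. -/
abbrev nz (P : Sylow 2 G) : Finset (P : Subgroup G) :=
  (Finset.univ : Finset (P : Subgroup G)).erase 1

theorem coe_ne_one {y : (P : Subgroup G)} (hy : y ∈ nz P) : (y : G) ≠ 1 := fun h =>
  (Finset.mem_erase.mp hy).1 (Subtype.ext h)

theorem card_orbit (F : Free P) {v : G} (hv1 : v ≠ 1) (hv : v * v = 1) :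
    ((nz P).filter fun y : (P : Subgroup G) => IsConj (y : G) v).card = Nat.card (autN P) := by
  obtain ⟨x, hx⟩ := exists_conj_mem P (u := v)
    ⟨1, by rw [pow_one]; exact orderOf_eq_prime (by rw [pow_two]; exact hv) hv1⟩
  set y₀ : (P : Subgroup G) := ⟨_, hx⟩ with hy₀
  have hvy : IsConj v (y₀ : G) := isConj_iff.mpr ⟨x, rfl⟩
  have hy₀1 : y₀ ≠ 1 := fun h => hv1 (conj_eq_one_iff.mp (congrArg Subtype.val h))
  rw [Finset.card_filter, Nat.card_eq_fintype_card, ← Finset.card_univ,
    ← Finset.card_image_of_injective _ (f := fun γ : autN P => (γ : MulAut (P : Subgroup G)) y₀)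
      fun γ δ h => ?_, ← Finset.card_filter]
  · congr 1
    ext y
    simp only [Finset.mem_filter, Finset.mem_erase, Finset.mem_univ, and_true, Finset.mem_image,
      true_and]
    constructor
    · rintro ⟨-, h⟩
      obtain ⟨γ, hγ, he⟩ := F.exists_autN (w := y₀) (w' := y) (hvy.symm.trans h.symm)
      exact ⟨⟨γ, hγ⟩, he⟩
    · rintro ⟨γ, rfl⟩
      obtain ⟨n, -, hn⟩ := mem_autN_iff.mp γ.2
      refine ⟨by rwa [ne_eq, EmbeddingLike.map_eq_one_iff], ?_⟩
      rw [hn y₀]
      exact (isConj_iff.mpr ⟨n, rfl⟩).symm.trans hvy.symm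
  · have h1 : ((δ⁻¹ * γ : autN P) : MulAut (P : Subgroup G)) y₀ = y₀ := by
      have h' : (γ : MulAut (P : Subgroup G)) y₀ = (δ : MulAut (P : Subgroup G)) y₀ := h
      rw [Subgroup.coe_mul, MulAut.mul_apply, h', ← MulAut.mul_apply, ← Subgroup.coe_mul,
        inv_mul_cancel]
      rfl
    exact (inv_mul_eq_one.mp (Subtype.ext (F.eq_one_of_fixed (δ⁻¹ * γ).2 hy₀1 h1))).symm

omit [M.IsMaximal] in
theorem sum_block {f : IrrCharacter G → ℂ} :
    (∑ χ : IrrCharacter G, if χ ∈ principalBlock M G then f χ else 0) =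
      ∑ χ : principalBlock M G, f χ := by
  rw [← Finset.sum_filter]
  exact Finset.sum_subtype _ (fun χ => by simp) f

/-- A class function whose inner products with the block are `c` and vanishing on average on the
sections. -/
theorem block_column_zero (F : Free P) (hM : IsPModular 2 M) {y : (P : Subgroup G)}
    (hy : y ∈ nz P) {ψ : G → ℂ} (hψ : IsClassFunction G ψ) {c d : principalBlock M G → ℤ}
    (hc : ∀ χ : principalBlock M G, classInner ψ ((χ : IrrCharacter G) : G → ℂ) = (c χ : ℂ))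
    (hd : ∀ χ : principalBlock M G, ((χ : IrrCharacter G) : G → ℂ) y = (d χ : ℂ))
    (hsec : ∀ s ∈ reg (y : G), ψ ((y : G) * (s : G)) = 0) :
    ∑ χ, c χ * d χ = 0 := by
  have h := section_sum F hM y.2 (coe_ne_one hy) hψ
  rw [Finset.sum_eq_zero hsec, mul_eq_zero] at h
  have h' := h.resolve_left (reg_ne_zero _)
  rw [sum_block] at h'
  simp only [hc, hd] at h'
  exact_mod_cast h'

set_option maxHeartbeats 1000000 in
/-- The lower bound. -/
theorem lower_bound (F : Free P) (hM : IsPModular 2 M)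
    (hel : ∀ w ∈ (P : Subgroup G), w * w = 1) (hcard : 8 ≤ Nat.card (P : Subgroup G))
    (hE : ∀ g ∈ Subgroup.normalizer ((P : Subgroup G) : Set G),
      ∀ h ∈ Subgroup.normalizer ((P : Subgroup G) : Set G),
        g * h * g⁻¹ * h⁻¹ ∈ Subgroup.centralizer ((P : Subgroup G) : Set G)) :
    Nat.card (autN P) + (Nat.card (P : Subgroup G) - 1) / Nat.card (autN P) ≤
      Nat.card (principalBlock M G) := by
  set e := Nat.card (autN P) with he
  have he0 : 0 < e := Nat.card_pos
  have horb : ∀ v : G, v ≠ 1 → v * v = 1 →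
      ((nz P).filter fun y : (P : Subgroup G) => IsConj (y : G) v).card = e := fun v h1 h2 =>
    card_orbit F h1 h2
  have hny : ∀ y : (P : Subgroup G), (y : G) * y = 1 := fun y => hel _ y.2
  set cls : ↥(P : Subgroup G) → ConjClasses G := fun y => ConjClasses.mk (y : G) with hcls
  set R := (nz P).image cls with hR
  set r := R.card with hr
  have hfib : ∀ c ∈ R, ((nz P).filter fun y => cls y = c).card = e := by
    intro c hc
    obtain ⟨y₀, hy₀, rfl⟩ := Finset.mem_image.mp hc
    rw [← horb (y₀ : G) (coe_ne_one hy₀) (hny y₀)]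
    exact congrArg Finset.card (Finset.filter_congr fun y _ => ConjClasses.mk_eq_mk_iff_isConj)
  have hn : (nz P).card = r * e := by
    rw [Finset.card_eq_sum_card_fiberwise (t := R) (f := cls) fun y hy =>
      Finset.mem_image_of_mem cls hy, Finset.sum_congr rfl hfib, Finset.sum_const, smul_eq_mul]
  have hn' : (nz P).card + 1 = Nat.card (P : Subgroup G) := by
    rw [Finset.card_erase_add_one (Finset.mem_univ _), Finset.card_univ, Nat.card_eq_fintype_card]
  have hnodd : Odd (nz P).card := by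
    obtain ⟨k, hk⟩ := IsPGroup.iff_card.mp P.isPGroup'
    obtain ⟨a, ha⟩ := dvd_pow_self 2 (show k ≠ 0 by rintro rfl; omega)
    exact ⟨a - 1, by omega⟩
  have hro : Odd r := (Nat.odd_mul.mp (hn ▸ hnodd)).1
  rw [← hn', Nat.add_sub_cancel, hn, Nat.mul_div_cancel _ he0]
  let ι := principalBlock M G
  let one : ι := ⟨irrOne, irrOne_mem_principalBlock⟩
  -- values
  let d : IrrCharacter G → ↥(P : Subgroup G) → ℤ := fun χ y =>
    CfsgLib.InvolChar.intVal χ (hny y)
  have hd : ∀ (χ : IrrCharacter G) (y : (P : Subgroup G)), (χ : G → ℂ) y = (d χ y : ℂ) := fun χ y =>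
    CfsgLib.InvolChar.intVal_spec χ (hny y)
  have hdconj : ∀ χ : IrrCharacter G, ∀ y y' : (P : Subgroup G), IsConj (y : G) y' → d χ y = d χ y' :=
    fun χ y y' h => CfsgLib.InvolChar.intVal_isConj χ (hny y) (hny y') h
  let T : IrrCharacter G → ℤ := fun χ => ∑ y ∈ nz P, d χ y
  have hTdvd : ∀ χ, (e : ℤ) ∣ T χ := by
    intro χ
    show (e : ℤ) ∣ ∑ y ∈ nz P, d χ y
    rw [← Finset.sum_fiberwise_of_maps_to (t := R) (g := cls) (fun y hy =>
      Finset.mem_image_of_mem cls hy) (d χ)]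
    refine Finset.dvd_sum fun c hc => ?_
    obtain ⟨y₀, hy₀, rfl⟩ := Finset.mem_image.mp hc
    rw [Finset.sum_congr rfl (g := fun _ => d χ y₀) fun y hy =>
      hdconj χ y y₀ (ConjClasses.mk_eq_mk_iff_isConj.mp (Finset.mem_filter.mp hy).2),
      Finset.sum_const, hfib _ hc, nsmul_eq_mul]
    exact dvd_mul_right _ _
  choose D hD using hTdvd
  have hν' : ∀ χ : IrrCharacter G, ∃ z : ℤ, (z = -1 ∨ z = 0 ∨ z = 1) ∧
      CfsgLib.CharBlocks.fsInd (χ : G → ℂ) = (z : ℂ) := by
    intro χ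
    rcases CfsgLib.CharBlocks.fsInd_cases χ.2 with ⟨-, h | h⟩ | ⟨-, h⟩
    · exact ⟨1, by omega, by simp [h]⟩
    · exact ⟨-1, by omega, by simp [h]⟩
    · exact ⟨0, by omega, by simp [h]⟩
  choose ν hν hνeq using hν'
  have heC : (e : ℂ) ≠ 0 := Nat.cast_ne_zero.mpr he0.ne'
  have ha : ∀ χ : ι, classInner ((χ : IrrCharacter G) : G → ℂ) (commCount (G := G)) =
      ((ν χ + D χ : ℤ) : ℂ) := by
    intro χ
    have h := fsInd_sub_commCount F hM hel χ.2
    rw [hνeq, ← he, Finset.sum_congr rfl (g := fun y => ((d χ y : ℤ) : ℂ)) fun y _ => by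
      rw [hd, map_intCast], ← Int.cast_sum] at h
    have hT : ((∑ y ∈ nz P, d χ y : ℤ) : ℂ) = (e : ℂ) * (D χ : ℂ) := by
      rw [show (∑ y ∈ nz P, d χ y) = T χ from rfl, hD]; push_cast; rfl
    rw [show ((Finset.univ : Finset (P : Subgroup G)).erase 1) = nz P from rfl, hT,
      inv_mul_cancel_left₀ heC] at h
    have h2 : classInner (commCount (G := G)) ((χ : IrrCharacter G) : G → ℂ) =
        ((ν χ + D χ : ℤ) : ℂ) := by
      push_cast
      linear_combination -h
    rw [← classInner_conj_symm, h2, map_intCast]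
  -- columns
  have hcol : ∀ y ∈ nz P, ∀ z : (P : Subgroup G), ∑ χ : ι, d χ z * d χ y =
      if IsConj (y : G) z then (Nat.card (P : Subgroup G) : ℤ) else 0 := by
    intro y hy z
    have h := column_sum F hM hel y.2 (coe_ne_one hy) z.2
    simp only [hd, map_intCast] at h
    rw [sum_block] at h
    split_ifs at h ⊢ <;> exact_mod_cast h
  have hT2 : ∑ χ : ι, T χ * T χ = (Nat.card (P : Subgroup G) : ℤ) * ((r * e : ℕ) : ℤ) * e := by
    calc ∑ χ : ι, T χ * T χ = ∑ y ∈ nz P, ∑ z ∈ nz P, ∑ χ : ι, d χ z * d χ y := by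
          simp only [T, Finset.sum_mul, Finset.mul_sum]
          rw [Finset.sum_comm]
          refine Finset.sum_congr rfl fun y _ => ?_
          rw [Finset.sum_comm]
      _ = ∑ _y ∈ nz P, (Nat.card (P : Subgroup G) : ℤ) * e := by
          refine Finset.sum_congr rfl fun y hy => ?_
          rw [Finset.sum_congr rfl fun z _ => hcol y hy z, ← Finset.sum_filter, Finset.sum_const,
            nsmul_eq_mul, mul_comm, Finset.filter_congr fun z _ => isConj_comm,
            horb _ (coe_ne_one hy) (hny y)]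
      _ = _ := by rw [Finset.sum_const, nsmul_eq_mul, hn]; ring
  have heZ : (e : ℤ) ≠ 0 := by exact_mod_cast he0.ne'
  have hD2 : ∑ χ : ι, D χ * D χ = (Nat.card (P : Subgroup G) : ℤ) * r := by
    refine mul_left_cancel₀ (mul_ne_zero heZ heZ) ?_
    rw [Finset.mul_sum, Finset.sum_congr rfl (g := fun χ : ι => T χ * T χ) fun χ _ => by
      rw [hD χ]; ring, hT2]
    push_cast; ring
  have hd1 : ∀ y, d irrOne y = 1 := fun y => CfsgLib.InvolChar.intVal_irrOne (hny y)
  have hD1 : D irrOne = r := by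
    refine mul_left_cancel₀ heZ ?_
    rw [← hD]
    simp only [T, hd1, Finset.sum_const, nsmul_one, hn]
    push_cast; ring
  have hν1 : ν irrOne = 1 := by
    have h := hνeq irrOne
    rw [CfsgLib.CharBlocks.fsInd_irrOne] at h
    exact_mod_cast h.symm
  have hνd : ∀ y ∈ nz P, ∑ χ : ι, ν χ * d χ y = 0 := fun y hy =>
    block_column_zero F hM hy isClassFunction_sqCount
      (fun χ => by rw [classInner_sqCount, hνeq]) (fun χ => hd χ y) fun s hs => by
        rw [sqCount_section hel y.2 (coe_ne_one hy) (Finset.mem_filter.mp hs).2, Nat.cast_zero]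
  have hνD : ∑ χ : ι, ν χ * D χ = 0 := by
    refine mul_left_cancel₀ heZ ?_
    rw [Finset.mul_sum, mul_zero, Finset.sum_congr rfl (g := fun χ : ι => ν χ * T χ) fun χ _ => by
      rw [hD χ]; ring]
    simp only [T, Finset.mul_sum]
    rw [Finset.sum_comm]
    exact Finset.sum_eq_zero hνd
  -- the linear characters
  obtain ⟨Mg, K, hPM, hNM, hKM, hnorm, hind, hcomm, hCK⟩ := exists_local F hel hcard hE
  let Q := Mg ⧸ K.subgroupOf Mg
  have : IsMulCommutative Q := ⟨⟨fun a b => by
    obtain ⟨g, rfl⟩ := QuotientGroup.mk'_surjective (K.subgroupOf Mg) a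
    obtain ⟨h, rfl⟩ := QuotientGroup.mk'_surjective (K.subgroupOf Mg) b
    have h1 : QuotientGroup.mk' (K.subgroupOf Mg) (g * h * g⁻¹ * h⁻¹) = 1 :=
      (QuotientGroup.eq_one_iff _).mpr (hcomm g g.2 h h.2)
    rw [map_mul, map_mul, map_mul, map_inv, map_inv, mul_inv_eq_one, mul_inv_eq_iff_eq_mul] at h1
    exact h1⟩⟩
  have hQe : Nat.card Q = e := hind
  have : Finite (Q →* ℂˣ) := finite_hom
  have := Fintype.ofFinite (Q →* ℂˣ)
  let lam : (Q →* ℂˣ) → Mg → ℂ := fun ψ x =>
    ((ψ.comp (QuotientGroup.mk' (K.subgroupOf Mg)) x : ℂˣ) : ℂ)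
  have hlam : ∀ ψ, IsIrrCharacter Mg (lam ψ) := fun ψ => isIrrCharacter_units_hom _
  have hsumlam : ∀ x : Mg, ∑ ψ, lam ψ x = if (x : G) ∈ K then (e : ℂ) else 0 := by
    intro x
    have hx : QuotientGroup.mk' (K.subgroupOf Mg) x = 1 ↔ (x : G) ∈ K :=
      QuotientGroup.eq_one_iff x
    simp only [lam, MonoidHom.comp_apply]
    refine (sum_hom_eval (K := Q) (QuotientGroup.mk' (K.subgroupOf Mg) x)).trans ?_
    rw [hQe]
    split_ifs with h1 h2 h2
    · rfl
    · exact absurd (hx.mp h1) h2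
    · exact absurd (hx.mpr h2) h1
    · rfl
  have hm' : ∀ (ψ : Q →* ℂˣ) (χ : IrrCharacter G), ∃ m : ℕ,
      classInner (lam ψ) (fun x : Mg => (χ : G → ℂ) x) = (m : ℂ) := fun ψ χ =>
    classInner_char_nat (isCharacter_of_isIrr (hlam ψ))
      (isCharacter_res Mg (isCharacter_of_isIrr χ.2))
  choose mult hmult using hm'
  have hsummult : ∀ χ : IrrCharacter G, ∑ ψ, (mult ψ χ : ℂ) = avgOn K (χ : G → ℂ) := by
    intro χ
    rw [← conj_avgOn χ.2 K, avgOn, map_mul, map_inv₀, Complex.conj_natCast, map_sum,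
      Finset.sum_congr rfl fun ψ _ => (hmult ψ χ).symm, ← classInner_sum_left, classInner_def]
    simp only [Finset.sum_apply, hsumlam, ite_mul, zero_mul]
    rw [← Finset.sum_subtype (Finset.univ.filter fun g => g ∈ Mg) (fun g => by simp)
      (fun g : G => if g ∈ K then (e : ℂ) * conj ((χ : G → ℂ) g) else 0), ← Finset.sum_filter,
      Finset.filter_filter, Finset.filter_congr (q := fun g => g ∈ K) fun g _ =>
        ⟨fun h => h.2, fun h => ⟨hKM h, h⟩⟩, ← Finset.mul_sum]
    have hcardK : Nat.card Mg = Nat.card K * e := by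
      rw [← hQe, ← Nat.card_congr (Subgroup.subgroupOfEquivOfLe hKM).toEquiv,
        mul_comm]
      exact Subgroup.card_eq_card_quotient_mul_card_subgroup _
    rw [hcardK, Nat.cast_mul]
    field_simp
  let Λ := {ψ : Q →* ℂˣ // ψ ≠ 1}
  have hΛ : (Fintype.card Λ : ℤ) + 1 = e := by
    have h1 : Fintype.card Λ = (Finset.univ.erase (1 : Q →* ℂˣ)).card :=
      Fintype.card_of_subtype _ fun ψ => by simp
    have h2 := Finset.card_erase_add_one (Finset.mem_univ (1 : Q →* ℂˣ))
    rw [Finset.card_univ, ← h1, ← Nat.card_eq_fintype_card, ← Nat.card_eq_fintype_card,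
      card_hom, hQe] at h2
    rw [← Nat.card_eq_fintype_card]
    omega
  have hS : ∀ χ : IrrCharacter G, ∀ y ∈ nz P, ∃ a : ℕ,
      avgOn (Subgroup.centralizer ({(y : G)} : Set G)) (χ : G → ℂ) = a ∧
        (∑ l : Λ, (mult l.1 χ : ℤ)) ≤ a := by
    intro χ y hy
    obtain ⟨a, b, h1, h2, hba⟩ := exists_avgOn_le χ.2 (hCK y y.2 (coe_ne_one hy))
    refine ⟨a, h1, ?_⟩
    have hb : ∑ ψ, mult ψ χ = b := by
      have h := hsummult χ
      rw [h2] at h
      exact_mod_cast h
    have h4 : ∑ l : Λ, mult l.1 χ ≤ ∑ ψ, mult ψ χ := by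
      rw [← Finset.sum_subtype (Finset.univ.erase (1 : Q →* ℂˣ)) (fun ψ => by simp)
        fun ψ => mult ψ χ]
      exact Finset.sum_le_sum_of_subset (Finset.erase_subset _ _)
    exact_mod_cast (h4.trans (hb.le.trans hba))
  have hone_ne : ∀ χ : ι, χ ≠ one → (χ : IrrCharacter G) ≠ irrOne := fun χ h h' => h (Subtype.ext h')
  have hbound : ∀ χ : ι, χ ≠ one → (r : ℤ) * ∑ l : Λ, (mult l.1 χ : ℤ) ≤ ν χ + D χ := by
    intro χ hχ
    have h := classInner_commCount horb hel χ (hone_ne χ hχ)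
    rw [ha] at h
    choose a ha1 ha2 using hS χ
    rw [← Finset.sum_attach, Finset.sum_congr rfl fun y _ => ha1 y.1 y.2] at h
    have h' : (e : ℤ) * (ν χ + D χ) = ∑ y ∈ (nz P).attach, (a y.1 y.2 : ℤ) := by
      exact_mod_cast h
    refine le_of_mul_le_mul_left ?_ (show (0 : ℤ) < e by exact_mod_cast he0)
    rw [h']
    refine le_trans (le_of_eq ?_) (Finset.sum_le_sum fun y _ => ha2 y.1 y.2)
    rw [Finset.sum_const, Finset.card_attach, hn, nsmul_eq_mul]
    push_cast; ring
  -- induced linear characters on the sections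
  have hconjM : ∀ y : (P : Subgroup G), (y : G) ≠ 1 → ∀ x : G, x⁻¹ * y * x ∈ Mg → x ∈ Mg := by
    intro y hy1 x hx
    have h2 : (⟨_, hx⟩ : Mg) ^ 2 = 1 := Subtype.ext (by
      rw [SubmonoidClass.coe_pow, pow_two]
      show x⁻¹ * (y : G) * x * (x⁻¹ * y * x) = 1
      rw [show x⁻¹ * (y : G) * x * (x⁻¹ * y * x) = x⁻¹ * ((y : G) * y) * x by group, hny y]
      group)
    have h2' : orderOf (⟨_, hx⟩ : Mg) ∣ 2 ^ 1 := by
      rw [pow_one]; exact orderOf_dvd_iff_pow_eq_one.mpr h2
    obtain ⟨k, -, hk⟩ := (Nat.dvd_prime_pow Nat.prime_two (m := 1)).mp h2'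
    obtain ⟨c, hc⟩ := exists_conj_mem (P.subtype hPM) ⟨k, hk⟩
    set z : (P : Subgroup G) := ⟨(c : G) * (x⁻¹ * y * x) * (c : G)⁻¹, hc⟩ with hz
    obtain ⟨γ, hγ, he'⟩ := F.exists_autN (w := y) (w' := z) (isConj_iff.mpr ⟨(c : G) * x⁻¹, by
      show (c : G) * x⁻¹ * y * ((c : G) * x⁻¹)⁻¹ = (c : G) * (x⁻¹ * y * x) * (c : G)⁻¹
      group⟩)
    obtain ⟨n, hnN, hn2⟩ := mem_autN_iff.mp hγ
    have h3 := hn2 y
    rw [he'] at h3
    have h4 : n⁻¹ * (c : G) * x⁻¹ ∈ Subgroup.centralizer ({(y : G)} : Set G) := by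
      refine Subgroup.mem_centralizer_singleton_iff.mpr ?_
      calc n⁻¹ * (c : G) * x⁻¹ * y
          = n⁻¹ * ((c : G) * (x⁻¹ * y * x) * (c : G)⁻¹) * (c : G) * x⁻¹ := by group
        _ = (y : G) * (n⁻¹ * (c : G) * x⁻¹) := by
            rw [show (c : G) * (x⁻¹ * y * x) * (c : G)⁻¹ = n * y * n⁻¹ from h3]; group
    have h5 := mul_mem (mul_mem (inv_mem (hKM (hCK y y.2 hy1 h4))) (inv_mem (hNM hnN))) c.2
    rwa [show (n⁻¹ * (c : G) * x⁻¹)⁻¹ * n⁻¹ * (c : G) = x by group] at h5
  have hmd : ∀ ψ : Q →* ℂˣ, ∀ y ∈ nz P, ∑ χ : ι,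
      ((mult ψ χ : ℤ) - if χ = one then 1 else 0) * d χ y = 0 := by
    intro ψ y hy
    refine block_column_zero F hM hy
      (ψ := Cfsg.indFun Mg (lam ψ) - fun _ => 1)
      (isClassFunction_sub (isClassFunction_indFun _ _) (isClassFunction_const 1))
      (fun χ => ?_) (fun χ => hd χ y) fun s hs => ?_
    · rw [classInner_sub_left, frobenius_reciprocity Mg _ (isClassFunction_of_isIrr χ.1.2), hmult,
        show (fun _ : G => (1 : ℂ)) = ((irrOne : IrrCharacter G) : G → ℂ) from rfl,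
        classInner_irrCharacter]
      have hiff : (irrOne = (χ : IrrCharacter G)) ↔ χ = one :=
        ⟨fun h => Subtype.ext h.symm, fun h => h ▸ rfl⟩
      by_cases h : χ = one
      · rw [if_pos (hiff.mpr h), if_pos h]; push_cast; ring
      · rw [if_neg (mt hiff.mp h), if_neg h]; push_cast; ring
    · have hso := (Finset.mem_filter.mp hs).2
      set g := (y : G) * (s : G) with hg
      have hgC : g ∈ Subgroup.centralizer ({(y : G)} : Set G) :=
        mul_mem (Subgroup.mem_centralizer_singleton_iff.mpr rfl) s.2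
      have hgK : g ∈ K := hCK y y.2 (coe_ne_one hy) hgC
      have hval : ∀ x : G, Cfsg.extendByZero Mg (lam ψ) (x⁻¹ * g * x) =
          if x ∈ Mg then 1 else 0 := by
        intro x
        by_cases hx : x ∈ Mg
        · rw [if_pos hx, extendByZero_of_mem _ (mul_mem (mul_mem (inv_mem hx) (hKM hgK)) hx)]
          have h1 : QuotientGroup.mk' (K.subgroupOf Mg)
              (⟨x⁻¹ * g * x, mul_mem (mul_mem (inv_mem hx) (hKM hgK)) hx⟩ : Mg) = 1 := by
            have hk := hnorm.conj_mem ⟨g, hKM hgK⟩ hgK (⟨x, hx⟩ : Mg)⁻¹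
            rw [inv_inv] at hk
            exact (QuotientGroup.eq_one_iff _).mpr hk
          simp only [lam, MonoidHom.comp_apply, h1, map_one, Units.val_one]
        · rw [if_neg hx, extendByZero_of_notMem _ fun h => hx (hconjM y (coe_ne_one hy) x ?_)]
          have h' := pow_mem h (orderOf s)
          rw [show x⁻¹ * g * x = x⁻¹ * g * x⁻¹⁻¹ by rw [inv_inv], conj_pow, inv_inv, hg,
            pow_section (hny y) hso] at h'
          exact h'
      show Cfsg.indFun Mg (lam ψ) g - 1 = 0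
      rw [indFun_apply, Finset.sum_congr rfl fun x _ => hval x, Finset.sum_boole,
        ← Fintype.card_subtype, ← Nat.card_eq_fintype_card,
        inv_mul_cancel₀ (card_subgroup_ne_zero Mg), sub_self]
  have hm1 : ∀ l : Λ, mult l.1 irrOne = 0 := by
    intro l
    have h := hmult l.1 irrOne
    rw [classInner_irr_ne (hlam l.1) (ψ := fun x : Mg => ((irrOne : IrrCharacter G) : G → ℂ) x)
      (irrOne : IrrCharacter Mg).2 fun h => l.2 ?_] at h
    · exact_mod_cast h.symm
    · refine MonoidHom.ext fun q => ?_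
      obtain ⟨x, rfl⟩ := QuotientGroup.mk'_surjective (K.subgroupOf Mg) q
      exact Units.ext (congrFun h x)
  have hmd1 : ∀ l : Λ, ∀ y ∈ nz P, ∑ χ ∈ Finset.univ.erase one, (mult l.1 χ : ℤ) * d χ y = 1 := by
    intro l y hy
    have h := hmd l.1 y hy
    rw [← Finset.add_sum_erase _ _ (Finset.mem_univ one),
      Finset.sum_congr rfl (g := fun χ : ι => (mult l.1 χ : ℤ) * d χ y) fun χ hχ => by
        rw [if_neg (Finset.mem_erase.mp hχ).1, sub_zero]] at h
    simp only [if_true, show ((one : ι) : IrrCharacter G) = irrOne from rfl, hm1, hd1] at h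
    push_cast at h
    linarith
  have hmD : ∀ l : Λ, ∑ χ ∈ Finset.univ.erase one, (mult l.1 χ : ℤ) * D χ = r := by
    intro l
    refine mul_left_cancel₀ heZ ?_
    rw [Finset.mul_sum, Finset.sum_congr rfl (g := fun χ : ι => (mult l.1 χ : ℤ) * T χ) fun χ _ => by
      rw [hD χ]; ring]
    simp only [T, Finset.mul_sum]
    rw [Finset.sum_comm, Finset.sum_congr rfl (hmd1 l), Finset.sum_const, nsmul_one, hn]
    push_cast; ring
  have hodd : ∀ l : Λ, ∃ χ : ι, χ ≠ one ∧ 0 < (mult l.1 χ : ℤ) ∧ Odd (D χ) := by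
    intro l
    obtain ⟨y₀, hy₀⟩ : (nz P).Nonempty := Finset.card_pos.mp hnodd.pos
    obtain ⟨χ, hχ, hodd⟩ : ∃ χ ∈ Finset.univ.erase one, Odd ((mult l.1 χ : ℤ) * d χ y₀) := by
      by_contra! hc
      have h : Even (∑ χ ∈ Finset.univ.erase one, (mult l.1 χ : ℤ) * d χ y₀) :=
        Finset.even_sum _ fun χ hχ => Int.not_odd_iff_even.mp (hc χ hχ)
      rw [hmd1 l y₀ hy₀] at h
      exact absurd h (by decide)
    obtain ⟨hmo, hdo⟩ := Int.odd_mul.mp hodd
    refine ⟨χ, (Finset.mem_erase.mp hχ).1, ?_, ?_⟩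
    · rcases Nat.eq_zero_or_pos (mult l.1 χ) with h | h
      · rw [h] at hmo; exact absurd hmo (by decide)
      · exact_mod_cast h
    · have hall : ∀ y, Odd (d χ y) := by
        intro y
        have h1 := CfsgLib.InvolChar.intVal_parity (χ : IrrCharacter G) (hny y₀)
        have h2 := CfsgLib.InvolChar.intVal_parity (χ : IrrCharacter G) (hny y)
        have h3 := (h2.sub h1).add_odd (show Odd (d χ y₀) from hdo)
        obtain ⟨a, ha⟩ := h1
        obtain ⟨b, hb⟩ := h2
        obtain ⟨c, hc⟩ := hdo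
        exact ⟨c + a - b, by simp only [d] at hc ⊢; omega⟩
      have hTo : Odd (T χ) := by
        show Odd (∑ y ∈ nz P, d χ y)
        have h1 : Even (∑ y ∈ nz P, (d χ y - 1)) :=
          Finset.even_sum _ fun y _ => (hall y).sub_odd odd_one
        rw [Finset.sum_sub_distrib, Finset.sum_const, nsmul_one] at h1
        have h2 := h1.add_odd (show Odd ((nz P).card : ℤ) by exact_mod_cast hnodd)
        rwa [sub_add_cancel] at h2
      rw [hD] at hTo
      exact (Int.odd_mul.mp hTo).2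
  have h := add_le_card (ι := ι) (Λ := Λ) one (fun χ => ν χ) (fun χ => D χ)
    (fun l χ => (mult l.1 χ : ℤ)) (e : ℤ) (r : ℤ) (by exact_mod_cast hro.pos)
    (by exact_mod_cast hro) hΛ (fun χ => hν χ) (fun l χ => by positivity) hbound ?_ ?_ hmD hodd
  · rw [← Nat.card_eq_fintype_card] at h
    exact_mod_cast h
  · rw [Finset.sum_erase_eq_sub (Finset.mem_univ one), hνD]
    show 0 - ν irrOne * D irrOne = _
    rw [hν1, hD1]; ring
  · rw [Finset.sum_erase_eq_sub (Finset.mem_univ one), hD2]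
    show _ - D irrOne * D irrOne = _
    rw [hD1, ← hn', hn]; push_cast; ring

end CfsgLib.ElemFree
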