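import Mathlib.GroupTheory.Index
import Mathlib.GroupTheory.OrderOfElement
import Mathlib.Algebra.Ring.Parity
import Mathlib.Algebra.BigOperators.Group.Finset.Sigma
import Mathlib.Tactic.Group

/-!
# Commuting pairs in an extension of a two-group by a group of odd order
-/

set_option autoImplicit false

namespace CfsgLib.ElemFree

open scoped Classical

variable {K : Type*} [Group K] [Fintype K]

omit [Fintype K] in
theorem eq_one_of_sq_of_mem {O : Subgroup K} (hO : Odd (Nat.card O)) {w : K} (hw : w ∈ O)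
    (h : w * w = 1) : w = 1 := by
  obtain ⟨j, hj⟩ := hO
  have h1 : w ^ Nat.card O = 1 := orderOf_dvd_iff_pow_eq_one.mp (Subgroup.orderOf_dvd_natCard O hw)
  rwa [hj, pow_succ, pow_mul, pow_two, h, one_pow, one_mul] at h1

/-- The pairs `(s, v)` with `s ∈ O`, `v² = c` and `sv = vs`, for a central element `c` of the
complement `Q`. -/
theorem card_pairs_sq (O : Subgroup K) [O.Normal] (hO : Odd (Nat.card O)) (Q : Subgroup K)
    (hdis : O ⊓ Q = ⊥) (hind : O.index = Nat.card Q) (c : K) (hc : c ∈ Q)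
    (hcen : ∀ g : K, g * c = c * g) :
    ∑ s : O, (Finset.univ.filter fun v : K => v * v = c ∧ v * (s : K) = (s : K) * v).card =
      ((Finset.univ : Finset Q).filter fun w : Q => (w : K) * w = c).card * Nat.card O := by
  have hk1 : ∀ a : O, QuotientGroup.mk' O (a : K) = 1 := fun a =>
    (QuotientGroup.eq_one_iff (N := O) _).mpr a.2
  have hinj : ∀ w w' : Q, (QuotientGroup.mk' O) (w : K) = (QuotientGroup.mk' O) (w' : K) →
      w = w' := by
    intro w w' h
    have h1 : ((w⁻¹ * w' : Q) : K) ∈ O ⊓ Q := ⟨by simpa [QuotientGroup.eq] using h, (w⁻¹ * w').2⟩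
    rw [hdis, Subgroup.mem_bot] at h1
    exact inv_mul_eq_one.mp (Subtype.ext h1)
  have hbij : Function.Bijective fun w : Q => (QuotientGroup.mk' O) (w : K) := by
    rw [Nat.bijective_iff_injective_and_card]
    exact ⟨fun a b h => hinj a b h, hind.symm⟩
  have hspec : ∀ v : K, ∃ (w : Q) (h : O), v * v = c →
      (w : K) * w = c ∧ (h : K) * w * (h : K)⁻¹ = v := by
    intro v
    obtain ⟨w, hw⟩ := hbij.2 (QuotientGroup.mk' O v)
    by_cases hv : v * v = c
    · have hwc : (w : K) * w = c := by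
        refine congrArg Subtype.val (hinj (w * w) ⟨c, hc⟩ ?_)
        rw [Subgroup.coe_mul, map_mul, show QuotientGroup.mk' O (w : K) = _ from hw, ← map_mul, hv]
      set t := (w : K)⁻¹ * v with ht'
      have ht : t ∈ O := by
        rw [← QuotientGroup.eq_one_iff (N := O)]
        show QuotientGroup.mk' O ((w : K)⁻¹ * v) = 1
        rw [map_mul, map_inv, ← hw, inv_mul_cancel]
      have hv' : v = (w : K) * t := by rw [ht', mul_inv_cancel_left]
      have htw : t * (w : K) * t = w := by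
        have h1 : (w : K) * t * ((w : K) * t) = (w : K) * w := by rw [← hv', hv, hwc]
        rw [mul_assoc, ← mul_assoc t] at h1
        exact mul_left_cancel h1
      have hconj : (w : K)⁻¹ * t * (w : K) = t⁻¹ := by
        rw [eq_inv_iff_mul_eq_one, mul_assoc, mul_assoc, ← mul_assoc t, htw, inv_mul_cancel]
      obtain ⟨j, hj⟩ := hO.of_dvd_nat (Subgroup.orderOf_dvd_natCard O ht)
      refine ⟨w, ⟨(t ^ (j + 1))⁻¹, inv_mem (pow_mem ht _)⟩, fun _ => ⟨hwc, ?_⟩⟩
      show (t ^ (j + 1))⁻¹ * (w : K) * (t ^ (j + 1))⁻¹⁻¹ = v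
      have h2 : (w : K)⁻¹ * (t ^ (j + 1))⁻¹ * (w : K) = t ^ (j + 1) := by
        have h3 := conj_pow (a := (w : K)⁻¹) (b := t⁻¹) (i := j + 1)
        rw [inv_inv] at h3
        rw [← inv_pow, ← h3]
        congr 1
        rw [show (w : K)⁻¹ * t⁻¹ * (w : K) = ((w : K)⁻¹ * t * (w : K))⁻¹ by group, hconj, inv_inv]
      rw [inv_inv, show (t ^ (j + 1))⁻¹ * (w : K) * t ^ (j + 1) =
        (w : K) * ((w : K)⁻¹ * (t ^ (j + 1))⁻¹ * (w : K)) * t ^ (j + 1) by group, h2, mul_assoc,
        ← pow_add, show j + 1 + (j + 1) = orderOf t + 1 by omega, pow_succ, pow_orderOf_eq_one,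
        one_mul, ← hv']
    · exact ⟨w, 1, fun h => absurd h hv⟩
  choose wf hf hfv using hspec
  have hsq : ∀ (k w : K), w * w = c → k * w * k⁻¹ * (k * w * k⁻¹) = c := fun k w hw => by
    rw [show k * w * k⁻¹ * (k * w * k⁻¹) = k * (w * w) * k⁻¹ by group, hw, hcen k,
      mul_inv_cancel_right]
  have hwf : ∀ (k : O) (w : Q), (w : K) * w = c → wf ((k : K) * w * (k : K)⁻¹) = w := by
    intro k w hw
    refine hinj _ _ ?_
    have h := congrArg (QuotientGroup.mk' O) (hfv _ (hsq (k : K) _ hw)).2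
    simpa [map_mul, map_inv, hk1] using h
  rw [← Finset.card_sigma, Nat.card_eq_fintype_card, ← Finset.card_univ, ← Finset.card_product]
  symm
  refine Finset.card_bij
    (fun q _ => ⟨q.2 * (hf ((q.2 : K) * q.1 * (q.2 : K)⁻¹))⁻¹, (q.2 : K) * q.1 * (q.2 : K)⁻¹⟩)
    (fun q hq => ?_) (fun q hq q' hq' h => ?_) fun b hb => ?_
  · have hq1 := (Finset.mem_filter.mp (Finset.mem_product.mp hq).1).2
    set v := (q.2 : K) * q.1 * (q.2 : K)⁻¹ with hv
    have hv1 : v * v = c := hsq _ _ hq1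
    have he := (hfv v hv1).2
    rw [hwf _ _ hq1] at he
    simp only [Finset.mem_sigma, Finset.mem_univ, Finset.mem_filter, true_and]
    refine ⟨hv1, ?_⟩
    rw [Subgroup.coe_mul, Subgroup.coe_inv]
    calc v * ((q.2 : K) * (hf v : K)⁻¹)
        = ((hf v : K) * q.1 * (hf v : K)⁻¹) * ((q.2 : K) * (hf v : K)⁻¹) := by rw [he]
      _ = _ := ?_
    have hcc : (q.1 : K) * ((hf v : K)⁻¹ * (q.2 : K)) = ((hf v : K)⁻¹ * (q.2 : K)) * q.1 := by
      have h1 : (hf v : K) * q.1 * (hf v : K)⁻¹ = (q.2 : K) * q.1 * (q.2 : K)⁻¹ := he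
      calc (q.1 : K) * ((hf v : K)⁻¹ * (q.2 : K))
          = (hf v : K)⁻¹ * ((hf v : K) * q.1 * (hf v : K)⁻¹) * q.2 := by group
        _ = _ := by rw [h1]; group
    calc (hf v : K) * q.1 * (hf v : K)⁻¹ * ((q.2 : K) * (hf v : K)⁻¹)
        = (hf v : K) * ((q.1 : K) * ((hf v : K)⁻¹ * (q.2 : K))) * (hf v : K)⁻¹ := by group
      _ = (q.2 : K) * (hf v : K)⁻¹ * ((hf v : K) * q.1 * (hf v : K)⁻¹) := by rw [hcc]; group
      _ = _ := by rw [he]
  · simp only [Sigma.mk.injEq, heq_eq_eq] at h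
    obtain ⟨h1, h2⟩ := h
    rw [h2] at h1
    have h3 := mul_right_cancel h1
    rw [h3] at h2
    exact Prod.ext (Subtype.ext (mul_left_cancel (mul_right_cancel h2))) h3
  · obtain ⟨s, v⟩ := b
    simp only [Finset.mem_sigma, Finset.mem_univ, Finset.mem_filter, true_and] at hb
    obtain ⟨hw, he⟩ := hfv v hb.1
    refine ⟨(wf v, s * hf v), Finset.mem_product.mpr
      ⟨Finset.mem_filter.mpr ⟨Finset.mem_univ _, hw⟩, Finset.mem_univ _⟩, ?_⟩
    have hv : ((s * hf v : O) : K) * (wf v : K) * ((s * hf v : O) : K)⁻¹ = v := by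
      rw [Subgroup.coe_mul, show (s : K) * (hf v : K) * (wf v : K) * ((s : K) * (hf v : K))⁻¹ =
        (s : K) * ((hf v : K) * (wf v : K) * (hf v : K)⁻¹) * (s : K)⁻¹ by group, he, ← hb.2]
      group
    simp only [Sigma.mk.injEq, heq_eq_eq]
    exact ⟨by rw [hv, mul_inv_cancel_right], hv⟩

/-- The pairs `(s, v)` with `s ∈ O`, `v² = 1` and `sv = vs`. -/
theorem card_pairs (O : Subgroup K) [O.Normal] (hO : Odd (Nat.card O)) (Q : Subgroup K)
    (hQ : ∀ w ∈ Q, w * w = 1) (hind : O.index = Nat.card Q) :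
    ∑ s : O, (Finset.univ.filter fun v : K => v * v = 1 ∧ v * (s : K) = (s : K) * v).card =
      Nat.card Q * Nat.card O := by
  have hdis : O ⊓ Q = ⊥ := (Subgroup.eq_bot_iff_forall _).mpr fun w hw =>
    eq_one_of_sq_of_mem hO hw.1 (hQ w hw.2)
  rw [card_pairs_sq O hO Q hdis hind 1 (one_mem Q) fun g => by rw [mul_one, one_mul],
    Finset.filter_true_of_mem (fun (w : Q) _ => hQ w w.2), Finset.card_univ, ← Nat.card_eq_fintype_card]

end CfsgLib.ElemFree
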