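import Cfsg.Agent.Lib.Blocks.ElemFree.Small
import Cfsg.Agent.Lib.Blocks.ElemFree.Embedded
import Cfsg.Agent.Lib.Blocks.PSolvablePrincipal
import Cfsg.Agent.Lib.Transfer.SolvablePSolvable
import Cfsg.Agent.Lib.Solvable.Fitting

/-!
# Abelian Sylow two-subgroups whose inertial index is prime
-/

set_option autoImplicit false

noncomputable section

open scoped Classical

namespace CfsgLib.ElemFree

open Cfsg CfsgLib.Blocks CfsgLib.Char CfsgLib.FreeSylow

universe u

variable {G : Type u} [Group G] [Fintype G] {P : Sylow 2 G} {M : Ideal AlgInt} [M.IsMaximal]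

/-- A prime number of automorphisms fixing only the identity act freely and commute. -/
theorem free_of_prime (hab : IsMulCommutative (P : Subgroup G))
    (hfix : ∀ w : (P : Subgroup G), (∀ γ ∈ autN P, γ w = w) → w = 1)
    (hep : (Nat.card (autN P)).Prime) :
    Free P ∧ ∀ γ δ : autN P, γ * δ = δ * γ := by
  have := Fact.mk hep
  have hcyc : IsCyclic (autN P) := isCyclic_of_prime_card rfl
  have key : ∀ w : (P : Subgroup G), w ≠ 1 → ∀ γ ∈ autN P, γ w = w → γ = 1 := by
    intro w hw γ hγ hfx
    by_contra hne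
    refine hw (hfix w fun δ hδ => ?_)
    obtain ⟨k, hk⟩ : (⟨δ, hδ⟩ : autN P) ∈ Subgroup.zpowers (⟨γ, hγ⟩ : autN P) := by
      rw [zpowers_eq_top_of_prime_card rfl fun h => hne (congrArg Subtype.val h)]
      exact Subgroup.mem_top _
    have h2 : δ = γ ^ k := (congrArg Subtype.val hk).symm
    have h3 : γ ∈ MulAction.stabilizer (MulAut (P : Subgroup G)) w := hfx
    rw [h2]
    exact Subgroup.zpow_mem _ h3 k
  refine ⟨⟨hab, fun y hy hy1 => le_antisymm (fun n hn => ?_) fun n hn => ?_⟩,
    fun γ δ => (IsCyclic.isMulCommutative (α := autN P)).is_comm.comm γ δ⟩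
  · have h1 := key ⟨y, hy⟩ (fun h' => hy1 (congrArg Subtype.val h'))
      ((P : Subgroup G).normalizerMonoidHom ⟨n, hn.2⟩) ⟨_, rfl⟩ (Subtype.ext (by
        show n * y * n⁻¹ = y
        rw [Subgroup.mem_centralizer_singleton_iff.mp hn.1, mul_inv_cancel_right]))
    rw [← MonoidHom.mem_ker, Subgroup.normalizerMonoidHom_ker] at h1
    exact h1
  · exact ⟨Subgroup.mem_centralizer_singleton_iff.mpr
      (Subgroup.mem_centralizer_iff.mp hn y hy).symm, Subgroup.centralizer_le_normalizer _ hn⟩

/-- An extension by a group of odd order of a solvable group. -/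
theorem isSolvable_of_odd_index (H : Subgroup G) [H.Normal] (hH : Group.IsSolvable H)
    (hodd : ¬ 2 ∣ H.index) : Group.IsSolvable G := by
  have h2 : Group.IsSolvable (G ⧸ H) := Cfsg.Agent.S0205.result (Nat.not_even_iff_odd.mp fun h =>
    hodd (by rw [Subgroup.index]; exact h.two_dvd))
  refine Group.isSolvable_of_ker_le_range H.subtype (QuotientGroup.mk' H) ?_
  rw [QuotientGroup.ker_mk', Subgroup.range_subtype]

/-- No nonsolvable group has a non-elementary abelian Sylow two-subgroup with transitive free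
inertia of prime order. -/
theorem isSolvable_of_exceptional (hM : IsPModular 2 M) : ∀ (n : ℕ) {G : Type u} [Group G]
    [Fintype G] (P : Sylow 2 G), Nat.card G = n → Free P → (Nat.card (autN P)).Prime →
    (invs P).card = Nat.card (autN P) → (∃ u : (P : Subgroup G), u * u ≠ 1) →
    Group.IsSolvable G := by
  intro n
  induction n using Nat.strong_induction_on with
  | _ n ih =>
    intro G _ _ P hn F hep hΩ hu
    obtain ⟨u, hu⟩ := hu
    set H := Subgroup.normalClosure ((P : Subgroup G) : Set G) with hH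
    by_cases htop : H = ⊤
    · exact (false_of_normal_gen F hM rfl hep.one_lt hΩ hu fun N hN hPN => top_le_iff.mp
        (htop ▸ Subgroup.normalClosure_le_normal hPN)).elim
    have hPH : (P : Subgroup G) ≤ H := Subgroup.le_normalClosure
    refine isSolvable_of_odd_index H ?_ fun h => P.not_dvd_index
      (h.trans (Subgroup.index_dvd_of_le hPH))
    have := Fintype.ofFinite H
    set Q := P.subtype hPH with hQ
    let ι : (Q : Subgroup H) ≃* (P : Subgroup G) := Subgroup.subgroupOfEquivOfLe hPH
    have hmap : (autN Q).map (MulAut.congr ι).toMonoidHom ≤ autN P := by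
      rintro _ ⟨γ, hγ, rfl⟩
      obtain ⟨m, hm, hγm⟩ := mem_autN_iff.mp hγ
      refine mem_autN_iff.mpr ⟨(m : G), ?_, fun w => ?_⟩
      · refine CfsgLib.Solvable.mem_normalizer_of_conj_mem fun p hp => ?_
        exact (Subgroup.mem_set_normalizer_iff.mp hm ⟨p, hPH hp⟩).mp hp
      · exact congrArg Subtype.val (hγm (ι.symm w))
    have hdvd : Nat.card (autN Q) ∣ Nat.card (autN P) := by
      refine dvd_trans (dvd_of_eq ?_) (Subgroup.card_dvd_of_le hmap)
      exact (Subgroup.card_map_of_injective (MulAut.congr ι).injective).symm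
    have hQab : IsMulCommutative (Q : Subgroup H) :=
      ⟨⟨fun a b => Subtype.ext (Subtype.ext (F.comm a.2 b.2))⟩⟩
    rcases (Nat.dvd_prime hep).mp hdvd with h1 | he
    · -- Burnside
      have hcen : Subgroup.normalizer ((Q : Subgroup H) : Set H) ≤
          Subgroup.centralizer ((Q : Subgroup H) : Set H) := by
        intro m hm
        have hs : Subsingleton (autN Q) := (Nat.card_eq_one_iff_unique.mp h1).1
        have h : (Q : Subgroup H).normalizerMonoidHom ⟨m, hm⟩ = 1 :=
          congrArg Subtype.val (Subsingleton.elim (⟨_, ⟨⟨m, hm⟩, rfl⟩⟩ : autN Q) 1)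
        rw [← MonoidHom.mem_ker, Subgroup.normalizerMonoidHom_ker] at h
        exact h
      have hc := MonoidHom.ker_transferSylow_isComplement' Q hcen
      have hK : Group.IsSolvable (MonoidHom.transferSylow Q hcen).ker :=
        Cfsg.Agent.S0205.result (Nat.not_even_iff_odd.mp fun h => Q.not_dvd_index (by
          rw [hc.index_eq_card] ; exact h.two_dvd))
      have : Group.IsSolvable (Q : Subgroup H) :=
        Group.isSolvable_of_comm fun a b => hQab.is_comm.comm a b
      refine Group.isSolvable_of_ker_le_range (MonoidHom.transferSylow Q hcen).ker.subtype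
        (MonoidHom.transferSylow Q hcen) ?_
      rw [Subgroup.range_subtype]
    · -- induction
      have hFQ : Free Q := ⟨hQab, fun y hy hy1 => le_antisymm (fun m hm => ?_) fun m hm => ?_⟩
      · refine ih (Nat.card H) ?_ Q rfl hFQ (he ▸ hep) ?_ ⟨ι.symm u, fun h => hu ?_⟩
        · rw [← hn]
          exact lt_of_le_of_ne (Nat.le_of_dvd Nat.card_pos H.card_subgroup_dvd_card)
            fun h => htop ((Subgroup.card_eq_iff_eq_top H).mp h)
        · rw [he, ← hΩ]
          refine Finset.card_equiv ι.toEquiv fun w => ?_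
          simp only [invs, Finset.mem_filter, Finset.mem_erase, Finset.mem_univ, and_true,
            MulEquiv.toEquiv_eq_coe, EquivLike.coe_coe]
          rw [ne_eq, ne_eq, EmbeddingLike.map_eq_one_iff, ← map_mul, EmbeddingLike.map_eq_one_iff]
        · have := congrArg ι h
          simpa using this
      · have hm1 : (m : G) ∈ Subgroup.centralizer ({(y : G)} : Set G) ⊓
            Subgroup.normalizer ((P : Subgroup G) : Set G) :=
          ⟨Subgroup.mem_centralizer_singleton_iff.mpr (congrArg Subtype.val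
            (Subgroup.mem_centralizer_singleton_iff.mp hm.1)),
            CfsgLib.Solvable.mem_normalizer_of_conj_mem fun p hp =>
              (Subgroup.mem_set_normalizer_iff.mp hm.2 ⟨p, hPH hp⟩).mp hp⟩
        rw [F.free y hy fun h => hy1 (Subtype.ext h)] at hm1
        exact Subgroup.mem_centralizer_iff.mpr fun w hw =>
          Subtype.ext (Subgroup.mem_centralizer_iff.mp hm1 (w : G) hw)
      · exact ⟨Subgroup.mem_centralizer_singleton_iff.mpr
          (Subgroup.mem_centralizer_iff.mp hm y hy).symm, Subgroup.centralizer_le_normalizer _ hm⟩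

/-- The bounds of the free action with abelian automiser. -/
theorem free_counts (F : Free P) (hM : IsPModular 2 M) (hP1 : (P : Subgroup G) ≠ ⊥)
    (hE : ∀ g ∈ Subgroup.normalizer ((P : Subgroup G) : Set G),
      ∀ h ∈ Subgroup.normalizer ((P : Subgroup G) : Set G),
        g * h * g⁻¹ * h⁻¹ ∈ Subgroup.centralizer ((P : Subgroup G) : Set G)) :
    Nat.card (principalBlock M G) ≤
        Nat.card (autN P) + (Nat.card (P : Subgroup G) - 1) / Nat.card (autN P) ∧
      blockRank 2 (principalBlock M G) ≤ Nat.card (autN P) ∧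
      (Nat.card (principalBlock M G) =
          Nat.card (autN P) + (Nat.card (P : Subgroup G) - 1) / Nat.card (autN P) ↔
        blockRank 2 (principalBlock M G) = Nat.card (autN P)) ∧
      (Nat.card (autN P) ≤ 3 → Nat.card (principalBlock M G) =
        Nat.card (autN P) + (Nat.card (P : Subgroup G) - 1) / Nat.card (autN P)) := by
  have := Fintype.ofFinite (CfsgLib.BrauerPairs.Cen (P : Subgroup G))
  have hmax := CfsgLib.BrauerPairs.isMaximal_principal hM P
  have hind := (CfsgLib.BrauerPairs.brauerPairOf_iff_induced hM P.2 isPBlock_principalBlock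
    isPBlock_principalBlock).mp hmax.1
  have hnorm : Subgroup.normalizer ((P : Subgroup G) : Set G) ≤
      Subgroup.normalizer ((Subgroup.centralizer ((P : Subgroup G) : Set G) : Subgroup G) : Set G) :=
    CfsgLib.Solvable.normalizer_le_normalizer_centralizer _
  obtain ⟨h1, h2, h3, h4⟩ := Cfsg.Agent.S4639.result 2 M hM (principalBlock M G)
    isPBlock_principalBlock
    (P : Subgroup G) (CfsgLib.BrauerPairs.isDefectGroup_of_maximal hM hmax) hP1
    (fun _ ha _ hb => F.comm ha hb) _ hind (Subgroup.normalizer ((P : Subgroup G) : Set G))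
    (fun g => ⟨fun h => ⟨h, stabilizesBlock_principal (hnorm h)⟩, fun h => h.1⟩)
    (Nat.card (autN P)) (card_autN rfl).symm hE (fun g hg y hy hy1 hgy => by
      rw [← F.free y hy hy1]
      exact ⟨Subgroup.mem_centralizer_singleton_iff.mpr (mul_inv_eq_iff_eq_mul.mp hgy), hg⟩)
  exact ⟨h1, h2, h3, fun h => (h4 h).1⟩

omit [M.IsMaximal] in
/-- A solvable group with commutative automiser quotient: a normal subgroup over the core. -/
theorem exists_normal_of_solvable (hsol : Group.IsSolvable G)
    (hab : IsMulCommutative (P : Subgroup G)) :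
    ∃ K : Subgroup G, K.Normal ∧ pPrimeCore 2 G ≤ K ∧
      K.index = Nat.card (autN P) := by
  set O := pPrimeCore 2 G with hO
  have hOn : O.Normal := by
    have := CfsgLib.Cores.pPrimeCore_characteristic (G := G) 2
    exact inferInstance
  set π := QuotientGroup.mk' O with hπ
  have hπs : Function.Surjective π := QuotientGroup.mk'_surjective O
  have : Group.IsSolvable (G ⧸ O) := Group.isSolvable_of_surjective (f := π) hπs
  set Pb : Sylow 2 (G ⧸ O) := P.mapSurjective hπs with hPb
  have hcoe : (Pb : Subgroup (G ⧸ O)) = (P : Subgroup G).map π := rfl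
  have hcen := CfsgLib.Solvable.centralizer_pCore_le (G := G ⧸ O) 2
    (CfsgLib.Cores.pPrimeCore_quotient_self 2)
  have hTn : (pCore 2 (G ⧸ O)).Normal := Subgroup.sSup_normal _ fun N hN => hN.1
  have hTP : pCore 2 (G ⧸ O) ≤ (Pb : Subgroup (G ⧸ O)) := by
    have h := Pb.isPGroup'.to_sup_of_normal_right
      (CfsgLib.Cores.isPGroup_pCore (G := G ⧸ O) 2)
    rw [← Pb.is_maximal' h le_sup_left]
    exact le_sup_right
  have hPT : (Pb : Subgroup (G ⧸ O)) ≤ pCore 2 (G ⧸ O) := by
    refine le_trans (fun a ha => Subgroup.mem_centralizer_iff.mpr fun b hb => ?_) hcen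
    have hb' := hTP hb
    rw [hcoe] at ha hb'
    obtain ⟨a', ha', rfl⟩ := ha
    obtain ⟨b', hb'', rfl⟩ := hb'
    rw [← map_mul, ← map_mul]
    exact congrArg π (congrArg Subtype.val
      (hab.is_comm.comm (⟨b', hb''⟩ : (P : Subgroup G)) ⟨a', ha'⟩))
  have hPbn : (Pb : Subgroup (G ⧸ O)).Normal := le_antisymm hPT hTP ▸ hTn
  set H := (Pb : Subgroup (G ⧸ O)).comap π with hHdef
  have hHn : H.Normal := hPbn.comap π
  have hHeq : H = (P : Subgroup G) ⊔ O := by
    rw [hHdef, hcoe, Subgroup.comap_map_eq, hπ, QuotientGroup.ker_mk']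
  set N := Subgroup.normalizer ((P : Subgroup G) : Set G) with hN
  have hsup : N ⊔ O = ⊤ := by
    have h := Sylow.normalizer_sup_eq_top' P (N := H) (hHeq ▸ le_sup_left)
    have hNP : N ⊔ (P : Subgroup G) = N := sup_eq_left.mpr Subgroup.le_normalizer
    rw [hHeq, ← sup_assoc] at h
    change N ⊔ (P : Subgroup G) ⊔ O = ⊤ at h
    rw [hNP] at h
    exact h
  set C := Subgroup.centralizer ((P : Subgroup G) : Set G) with hC
  have hNK : N ≤ Subgroup.normalizer ((O ⊔ C : Subgroup G) : Set G) := by
    refine CfsgLib.Solvable.le_normalizer_of_conj_mem fun n hn x hx => ?_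
    suffices O ⊔ C ≤ (O ⊔ C).comap (MulAut.conj n).toMonoidHom from this hx
    exact sup_le (fun o ho => Subgroup.mem_sup_left (hOn.conj_mem o ho n)) fun c hc =>
      Subgroup.mem_sup_right ((Subgroup.mem_set_normalizer_iff.mp
        (CfsgLib.Solvable.normalizer_le_normalizer_centralizer _ hn) c).mp hc)
  have hKn : (O ⊔ C).Normal := by
    refine Subgroup.normalizer_eq_top_iff.mp (top_le_iff.mp ?_)
    rw [← hsup]
    exact sup_le hNK ((le_sup_left : O ≤ O ⊔ C).trans Subgroup.le_normalizer)
  have hint : (O ⊔ C) ⊓ N = C := by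
    refine le_antisymm (fun g hg => ?_) (le_inf le_sup_right (Subgroup.centralizer_le_normalizer _))
    obtain ⟨o, ho, c, hc, rfl⟩ := CfsgLib.Solvable.exists_mul_of_mem_sup
      Subgroup.le_normalizer_of_normal hg.1
    refine mul_mem ?_ hc
    have hoN : o ∈ N := by
      have := N.mul_mem hg.2 (N.inv_mem (Subgroup.centralizer_le_normalizer _ hc))
      rwa [mul_inv_cancel_right] at this
    refine Subgroup.mem_centralizer_iff.mpr fun p hp => ?_
    have h1 : o * p * o⁻¹ * p⁻¹ ∈ O := by
      rw [show o * p * o⁻¹ * p⁻¹ = o * (p * o⁻¹ * p⁻¹) by group]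
      exact O.mul_mem ho (hOn.conj_mem _ (O.inv_mem ho) p)
    have h2 : o * p * o⁻¹ * p⁻¹ ∈ (P : Subgroup G) :=
      mul_mem ((Subgroup.mem_set_normalizer_iff.mp hoN p).mp hp) (inv_mem hp)
    obtain ⟨j, hj⟩ := IsPGroup.iff_card.mp P.isPGroup'
    have hbot : O ⊓ (P : Subgroup G) = ⊥ := Subgroup.inf_eq_bot_of_coprime (by
      rw [hj]
      exact ((Nat.prime_two.coprime_iff_not_dvd.mpr
        (CfsgLib.Cores.not_dvd_card_pPrimeCore 2)).symm).pow_right j)
    have h3 : o * p * o⁻¹ * p⁻¹ ∈ O ⊓ (P : Subgroup G) := ⟨h1, h2⟩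
    rw [hbot, Subgroup.mem_bot, mul_inv_eq_one, mul_inv_eq_iff_eq_mul] at h3
    exact h3.symm
  refine ⟨O ⊔ C, hKn, le_sup_left, ?_⟩
  rw [card_autN (P := P) rfl, ← hC, ← hN]
  conv_rhs => rw [← hint]
  rw [Subgroup.inf_relIndex_right, ← Subgroup.relIndex_sup_right N (O ⊔ C), ← sup_assoc,
    show N ⊔ O ⊔ C = ⊤ by rw [hsup, top_sup_eq], Subgroup.relIndex_top_right]

/-- In a solvable group the principal block has at least `e` Brauer characters. -/
theorem le_blockRank_of_solvable (hM : IsPModular 2 M) (hsol : Group.IsSolvable G)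
    (hab : IsMulCommutative (P : Subgroup G)) (hep : (Nat.card (autN P)).Prime)
    (hodd : ¬ 2 ∣ Nat.card (autN P)) :
    Nat.card (autN P) ≤ blockRank 2 (principalBlock M G) := by
  obtain ⟨K, hKn, hOK, hKi⟩ := exists_normal_of_solvable (P := P) hsol hab
  set e := Nat.card (autN P) with he
  have := Fact.mk hep
  have hcardq : Nat.card (G ⧸ K) = e := hKi
  have hcyc : IsCyclic (G ⧸ K) := isCyclic_of_prime_card hcardq
  let _ : CommGroup (G ⧸ K) :=
    { (inferInstance : Group (G ⧸ K)) with
      mul_comm := fun a b => (IsCyclic.isMulCommutative (α := G ⧸ K)).is_comm.comm a b }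
  have hhom := CfsgLib.FreeSylow.finite_hom (K := G ⧸ K)
  have := Fintype.ofFinite ((G ⧸ K) →* ℂˣ)
  set mk := QuotientGroup.mk' K with hmk
  let χ : ((G ⧸ K) →* ℂˣ) → IrrCharacter G := fun ψ =>
    ⟨fun g => ((ψ (mk g) : ℂˣ) : ℂ), isIrrCharacter_units_hom (ψ.comp mk)⟩
  have hmem : ∀ ψ, χ ψ ∈ principalBlock M G := fun ψ => by
    refine (mem_principalBlock_iff_of_pSolvable hM
      (CfsgLib.Transfer.isPSolvable_of_isSolvable 2 hsol) _).mpr fun n hn => ?_
    have : mk n = 1 := (QuotientGroup.eq_one_iff n).mpr (hOK hn)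
    show ((ψ (mk n) : ℂˣ) : ℂ) = ((ψ (mk 1) : ℂˣ) : ℂ)
    rw [this, map_one mk]
  have hreg : ∀ x : G ⧸ K, ∃ g : G, IsPRegular 2 g ∧ mk g = x := by
    intro x
    obtain ⟨g, rfl⟩ := QuotientGroup.mk'_surjective K x
    obtain ⟨a, b, hb, hab'⟩ := Nat.exists_eq_pow_mul_and_not_dvd (orderOf_pos g).ne' 2 (by norm_num)
    have hco : Nat.Coprime (2 ^ a) (orderOf (mk g)) := by
      refine Nat.Coprime.pow_left a (Nat.prime_two.coprime_iff_not_dvd.mpr fun h => hodd ?_)
      exact h.trans (hcardq ▸ orderOf_dvd_natCard (mk g))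
    obtain ⟨m, hm⟩ := exists_pow_eq_self_of_coprime (x := mk g) hco
    refine ⟨g ^ (2 ^ a * m), ?_, by rw [map_pow, pow_mul]; exact hm⟩
    refine fun h => hb (h.trans (orderOf_dvd_of_pow_eq_one (x := g ^ (2 ^ a * m)) ?_))
    rw [← pow_mul, show 2 ^ a * m * b = orderOf g * m by rw [hab']; ring, pow_mul,
      pow_orderOf_eq_one, one_pow]
  choose r hr hrx using hreg
  let L : (G → ℂ) →ₗ[ℂ] (G ⧸ K → ℂ) := LinearMap.funLeft ℂ ℂ r
  have hLχ : ∀ ψ, L (pRegularPart 2 (χ ψ : G → ℂ)) = fun x => ((ψ x : ℂˣ) : ℂ) := fun ψ => by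
    funext x
    show pRegularPart 2 _ (r x) = _
    rw [pRegularPart, if_pos (hr x)]
    show ((ψ (mk (r x)) : ℂˣ) : ℂ) = _
    rw [hrx x]
  have hli : LinearIndependent ℂ fun ψ : (G ⧸ K) →* ℂˣ => pRegularPart 2 (χ ψ : G → ℂ) := by
    refine LinearIndependent.of_comp L ?_
    rw [show (L ∘ fun ψ : (G ⧸ K) →* ℂˣ => pRegularPart 2 (χ ψ : G → ℂ)) =
      (fun f : (G ⧸ K) →* ℂ => (f : G ⧸ K → ℂ)) ∘ fun ψ => (Units.coeHom ℂ).comp ψ from funext hLχ]
    exact (linearIndependent_monoidHom (G ⧸ K) ℂ).comp _ fun a b h =>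
      MonoidHom.ext fun x => Units.ext (DFunLike.congr_fun h x)
  calc e = Fintype.card ((G ⧸ K) →* ℂˣ) := by
        rw [← Nat.card_eq_fintype_card, CfsgLib.FreeSylow.card_hom, hcardq]
    _ = Module.finrank ℂ (Submodule.span ℂ (Set.range fun ψ : (G ⧸ K) →* ℂˣ =>
          pRegularPart 2 (χ ψ : G → ℂ))) := (finrank_span_eq_card hli).symm
    _ ≤ _ := Submodule.finrank_mono (Submodule.span_mono (by
        rintro _ ⟨ψ, rfl⟩; exact ⟨χ ψ, hmem ψ, rfl⟩))

/-- The invariants when only the identity is fixed by the automiser of prime order. -/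
theorem counts_of_fixed (hM : IsPModular 2 M) (hab : IsMulCommutative (P : Subgroup G))
    (hfix : ∀ w : (P : Subgroup G), (∀ γ ∈ autN P, γ w = w) → w = 1)
    (hep : (Nat.card (autN P)).Prime) :
    blockRank 2 (principalBlock M G) = Nat.card (autN P) ∧
      (¬ Group.IsSolvable G → Nat.card (principalBlock M G) = Nat.card (P : Subgroup G)) := by
  obtain ⟨F, hc⟩ := free_of_prime hab hfix hep
  set e := Nat.card (autN P) with he
  set q := Nat.card (P : Subgroup G) with hq
  have he2 := hep.two_le
  have hP1 : (P : Subgroup G) ≠ ⊥ := by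
    intro h
    have : Subsingleton (P : Subgroup G) := by rw [h]; infer_instance
    have : Subsingleton (MulAut (P : Subgroup G)) :=
      ⟨fun a b => MulEquiv.ext fun x => Subsingleton.elim _ _⟩
    have h1 : e = 1 := Nat.card_eq_one_iff_unique.mpr ⟨inferInstance, inferInstance⟩
    omega
  obtain ⟨j, hj⟩ := IsPGroup.iff_card.mp P.isPGroup'
  rw [← hq] at hj
  have hq2 : 1 < q := by
    rcases Nat.eq_or_lt_of_le (Nat.card_pos : 0 < Nat.card (P : Subgroup G)) with h | h
    · exact absurd (Subgroup.card_eq_one.mp h.symm) hP1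
    · exact h
  have hj0 : j ≠ 0 := by rintro rfl; simp at hj; omega
  have heven : 2 ∣ q := hj ▸ dvd_pow_self 2 hj0
  have hdn : e ∣ q - 1 := dvd_card_nz F
  have hodd : ¬ 2 ∣ e := fun h => by
    have := h.trans hdn
    omega
  obtain ⟨hk, hl, hiff, h3⟩ := free_counts F hM hP1 (commutator_mem_of_comm hc)
  rw [← he, ← hq] at hk hiff h3
  rw [← he] at hl
  set i := (invs P).card with hi
  have hi0 : 0 < i := by
    obtain ⟨t, ht⟩ := exists_prime_orderOf_dvd_card' 2 heven
    exact Finset.card_pos.mpr ⟨t, Finset.mem_filter.mpr ⟨Finset.mem_erase.mpr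
      ⟨fun h => by simp [h] at ht, Finset.mem_univ _⟩,
      by have h := pow_orderOf_eq_one t; rw [ht, pow_two] at h; exact h⟩⟩
  have hdi : e ∣ i := dvd_card_of_stable F _
    (fun h => Finset.notMem_erase _ _ (Finset.mem_filter.mp h).1) fun γ _ w hw => by
      obtain ⟨h1, h2⟩ := Finset.mem_filter.mp hw
      refine Finset.mem_filter.mpr ⟨Finset.mem_erase.mpr ⟨?_, Finset.mem_univ _⟩, ?_⟩
      · rw [ne_eq, EmbeddingLike.map_eq_one_iff]; exact (Finset.mem_erase.mp h1).1
      · rw [← map_mul, h2, map_one]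
  obtain ⟨t, hit⟩ : ∃ t, i + 1 = 2 ^ t := by
    let Om : Subgroup (P : Subgroup G) :=
      { carrier := {w | w * w = 1}
        one_mem' := one_mul 1
        mul_mem' := fun {a b} ha hb => by
          show a * b * (a * b) = 1
          rw [(show Commute b a from hab.is_comm.comm b a).mul_mul_mul_comm]
          rw [show a * a = 1 from ha, show b * b = 1 from hb, one_mul]
        inv_mem' := fun {a} ha => by
          show a⁻¹ * a⁻¹ = 1
          rw [← mul_inv_rev, show a * a = 1 from ha, inv_one] }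
    obtain ⟨t, ht⟩ := IsPGroup.iff_card.mp (P.isPGroup'.to_subgroup Om)
    refine ⟨t, ht ▸ ?_⟩
    rw [hi, invs, Finset.filter_erase,
      Finset.card_erase_add_one (show (1 : (P : Subgroup G)) ∈
          ((Finset.univ : Finset (P : Subgroup G)).filter fun w => w * w = 1) from
        Finset.mem_filter.mpr ⟨Finset.mem_univ _, one_mul 1⟩),
      ← Nat.card_eq_finsetCard]
    exact Nat.card_congr (Equiv.subtypeEquivRight fun w => by
      simp only [Finset.mem_filter, Finset.mem_univ, true_and]; rfl)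
  have hei : e ≤ i := Nat.le_of_dvd hi0 hdi
  by_cases hsol : Group.IsSolvable G
  · exact ⟨le_antisymm hl (le_blockRank_of_solvable hM hsol hab hep hodd), fun h => absurd hsol h⟩
  have hie : i = e := by
    by_cases h8 : 8 ≤ i + 1
    · exact invs_card_of_not_solvable F hsol h8
    · have ht3 : t < 3 := by
        by_contra h
        have := Nat.pow_le_pow_right (show 0 < 2 by omega) (show 3 ≤ t by omega)
        omega
      interval_cases t <;> simp at hit
      · omega
      · omega
      · have hi3 : i = 3 := by omega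
        rw [hi3] at hdi ⊢
        exact ((Nat.prime_dvd_prime_iff_eq hep Nat.prime_three).mp hdi).symm
  have hel : ∀ w ∈ (P : Subgroup G), w * w = 1 := by
    intro w hw
    by_contra hne
    exact hsol (isSolvable_of_exceptional hM _ P rfl F hep hie
      ⟨⟨w, hw⟩, fun h => hne (congrArg Subtype.val h)⟩)
  have hqe : q = e + 1 := by
    rw [← hie, hi, invs, Finset.filter_true_of_mem fun w hw => Subtype.ext (hel _ w.2),
      Finset.card_erase_add_one (Finset.mem_univ _), Finset.card_univ, hq,
      Nat.card_eq_fintype_card]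
  have hr : (q - 1) / e = 1 := by
    rw [hqe, Nat.add_sub_cancel, Nat.div_self (by omega)]
  have hkeq : Nat.card (principalBlock M G) = e + (q - 1) / e := by
    by_cases h : e ≤ 3
    · exact h3 h
    refine le_antisymm hk (lower_bound F hM hel ?_ (commutator_mem_of_comm hc))
    have h2j : 3 ≤ j := by
      by_contra hj3
      have := Nat.pow_le_pow_right (show 0 < 2 by omega) (show j ≤ 2 by omega)
      omega
    have := Nat.pow_le_pow_right (show 0 < 2 by omega) h2j
    omega
  exact ⟨hiff.mp hkeq, fun _ => by rw [hkeq, hr, hqe]⟩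

end CfsgLib.ElemFree
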