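import Cfsg.Agent.Lib.Blocks.ElemFree.Small
import Cfsg.Agent.S4640
import Cfsg.Agent.S4646
import Cfsg.Agent.S4691
import Cfsg.Agent.S0939
import Cfsg.Agent.Lib.Transfer.Abelian
import Cfsg.Agent.Lib.Fusion.WeakZJ.Group

/-!
# Reduction to the residual subgroup
-/

set_option autoImplicit false

noncomputable section

open scoped Classical

namespace CfsgLib.ElemFree

open Cfsg CfsgLib.Blocks CfsgLib.Char CfsgLib.FreeSylow
open scoped commutatorElement

universe u

variable {G : Type u} [Group G] [Fintype G] {M : Ideal AlgInt} [M.IsMaximal] {P : Sylow 2 G}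

/-- The principal block of a group of odd order is the trivial character alone. -/
theorem card_principalBlock_of_odd (hM : IsPModular 2 M) (h : ¬ 2 ∣ Nat.card G) :
    Nat.card (principalBlock M G) = 1 := by
  have htop : pPrimeCore 2 G = ⊤ := top_le_iff.mp (CfsgLib.Cores.le_pPrimeCore
    ((CfsgLib.Cores.coprime_iff_not_dvd Nat.prime_two _).mpr (by rwa [Subgroup.card_top])))
  have hB := Cfsg.Agent.S0939.result (G := G) 2 M hM ⟨0, by rw [htop, Subgroup.index_top, pow_zero]⟩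
  refine Nat.card_eq_one_iff_unique.mpr ⟨⟨fun a b => ?_⟩, ⟨⟨irrOne, irrOne_mem_principalBlock⟩⟩⟩
  suffices key : ∀ χ : principalBlock M G, (χ : IrrCharacter G) = irrOne from
    Subtype.ext ((key a).trans (key b).symm)
  rintro ⟨χ, hχ⟩
  rw [hB] at hχ
  by_contra hne
  have h1 := classInner_irr_ne χ.2 (irrOne : IrrCharacter G).2 fun e => hne (Subtype.ext e)
  rw [classInner_def, Finset.sum_congr rfl (g := fun _ => (χ : G → ℂ) 1) fun g _ => by
    rw [hχ g (htop ▸ Subgroup.mem_top g), irrOne_apply, map_one, mul_one]] at h1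
  rw [Finset.sum_const, nsmul_eq_mul, Finset.card_univ, ← Nat.card_eq_fintype_card,
    inv_mul_cancel_left₀ card_ne_zero', CfsgLib.InvolChar.deg_spec] at h1
  exact (CfsgLib.InvolChar.deg_pos χ).ne' (by exact_mod_cast h1)

/-- A central fusion-fixed element of an abelian Sylow subgroup of a perfect-at-two group. -/
theorem eq_one_of_fixed_of_pResidual (hab : IsMulCommutative (P : Subgroup G))
    (htop : pResidual 2 G = ⊤) {w : G} (hw : w ∈ (P : Subgroup G))
    (hfix : ∀ n ∈ Subgroup.normalizer ((P : Subgroup G) : Set G), n * w * n⁻¹ = w) : w = 1 := by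
  open scoped IsMulCommutative in
  let φ : (P : Subgroup G) →* (P : Subgroup G) := MonoidHom.id _
  open scoped IsMulCommutative in
  let τ : G →* (P : Subgroup G) := MonoidHom.transfer φ
  have hτ : τ w = 1 := by
    have := CfsgLib.Transfer.pResidual_le_ker P.isPGroup' τ (htop ▸ Subgroup.mem_top w)
    exact this
  have key : ∀ (k : ℕ) (g₀ : G), g₀⁻¹ * w ^ k * g₀ ∈ (P : Subgroup G) →
      g₀⁻¹ * w ^ k * g₀ = w ^ k := by
    intro k g₀ hg
    obtain ⟨n, hn, he⟩ := P.conj_eq_normalizer_conj_of_mem (_hP := hab) (w ^ k) g₀ (pow_mem hw k) hg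
    rw [he]
    have h1 := hfix n⁻¹ (inv_mem hn)
    rw [inv_inv] at h1
    calc n⁻¹ * w ^ k * n = (n⁻¹ * w * n⁻¹⁻¹) ^ k := by rw [conj_pow, inv_inv]
      _ = w ^ k := by rw [inv_inv, h1]
  open scoped IsMulCommutative in
  have h2 : τ w = φ ⟨w ^ (P : Subgroup G).index, _⟩ := MonoidHom.transfer_eq_pow φ w key
  rw [hτ] at h2
  have h3 : w ^ (P : Subgroup G).index = 1 := congrArg Subtype.val h2.symm
  obtain ⟨k, hk⟩ := CfsgLib.NilBlock.exists_pow_of_mem P.isPGroup' hw
  rw [← orderOf_eq_one_iff, hk]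
  have hd := hk ▸ orderOf_dvd_of_pow_eq_one h3
  rcases Nat.eq_zero_or_pos k with rfl | hk0
  · rw [pow_zero]
  · exact absurd ((dvd_pow_self 2 hk0.ne').trans hd) P.not_dvd_index

/-- With a normal `2`-complement in `C(x)`, the normaliser of `P` acts freely at `x`. -/
theorem inf_normalizer_le (hM : IsPModular 2 M) (hab : IsMulCommutative (P : Subgroup G)) {x : G}
    (hx : x ∈ (P : Subgroup G))
    (hl : blockRank 2 (principalBlock M (Subgroup.centralizer ({x} : Set G))) = 1) :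
    Subgroup.centralizer ({x} : Set G) ⊓ Subgroup.normalizer ((P : Subgroup G) : Set G) ≤
      Subgroup.centralizer ((P : Subgroup G) : Set G) := by
  set C := Subgroup.centralizer ({x} : Set G)
  have := Fintype.ofFinite C
  obtain ⟨O, hO, hco, k, hk⟩ := CfsgLib.Transfer.hasNormalPComplement_iff.mp
    ((Cfsg.Agent.S4691.result 2 M hM).mpr ((Cfsg.Agent.S4646.result (G := C) 2 M hM).mpr hl))
  have hPC : (P : Subgroup G) ≤ C := fun a ha => Subgroup.mem_centralizer_singleton_iff.mpr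
    (congrArg Subtype.val (hab.is_comm.comm (⟨a, ha⟩ : (P : Subgroup G)) ⟨x, hx⟩))
  set P' := P.subtype hPC
  have hsup : O ⊔ (P' : Subgroup C) = ⊤ := CfsgLib.Transfer.sup_sylow_eq_top P' hk
  intro n hn
  refine Subgroup.mem_centralizer_iff.mpr fun q hq => ?_
  let n' : C := ⟨n, hn.1⟩
  let q' : C := ⟨q, hPC hq⟩
  have hcomm : ∀ a b : C ⧸ O, a * b = b * a := by
    have himg : ∀ a : C ⧸ O, ∃ s ∈ (P' : Subgroup C), QuotientGroup.mk' O s = a := by
      intro a
      obtain ⟨c, rfl⟩ := QuotientGroup.mk'_surjective O a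
      obtain ⟨o, ho, s, hs, rfl⟩ := CfsgLib.Solvable.exists_mul_of_mem_sup
        (Subgroup.le_normalizer_of_normal.trans le_rfl)
        (show c ∈ O ⊔ (P' : Subgroup C) by rw [hsup]; exact Subgroup.mem_top c)
      have ho1 : QuotientGroup.mk' O o = 1 := (QuotientGroup.eq_one_iff o).mpr ho
      exact ⟨s, hs, by rw [map_mul, ho1, one_mul]⟩
    intro a b
    obtain ⟨s, hs, rfl⟩ := himg a
    obtain ⟨t, ht, rfl⟩ := himg b
    rw [← map_mul, ← map_mul]
    have h : (s : G) * (t : G) = (t : G) * (s : G) :=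
      congrArg Subtype.val (hab.is_comm.comm (⟨(s : G), hs⟩ : (P : Subgroup G)) ⟨(t : G), ht⟩)
    exact congrArg (QuotientGroup.mk' O) (Subtype.ext h)
  have h1 : n' * q' * n'⁻¹ * q'⁻¹ ∈ O := by
    rw [← QuotientGroup.eq_one_iff (N := O)]
    show QuotientGroup.mk' O _ = 1
    rw [map_mul, map_mul, map_mul, map_inv, map_inv, hcomm (QuotientGroup.mk' O n'),
      mul_inv_cancel_right, mul_inv_cancel]
  have h2 : n' * q' * n'⁻¹ * q'⁻¹ ∈ (P' : Subgroup C) := by
    show n * q * n⁻¹ * q⁻¹ ∈ (P : Subgroup G)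
    exact mul_mem ((Subgroup.mem_set_normalizer_iff.mp hn.2 q).mp hq) (inv_mem hq)
  obtain ⟨j, hj⟩ := IsPGroup.iff_card.mp P'.isPGroup'
  have hbot : O ⊓ (P' : Subgroup C) = ⊥ :=
    Subgroup.inf_eq_bot_of_coprime (by rw [hj]; exact hco.pow_right j)
  have h3 : n' * q' * n'⁻¹ * q'⁻¹ ∈ O ⊓ (P' : Subgroup C) := ⟨h1, h2⟩
  rw [hbot, Subgroup.mem_bot] at h3
  have h4 := congrArg Subtype.val h3
  have h5 : n * q * n⁻¹ * q⁻¹ = 1 := h4
  rw [mul_inv_eq_one, mul_inv_eq_iff_eq_mul] at h5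
  exact h5.symm

set_option maxHeartbeats 800000 in
/-- The count for a Sylow subgroup through the involution. -/
theorem counts (hM : IsPModular 2 M) (hab : IsMulCommutative (P : Subgroup G)) {x : G}
    (hx : x ∈ (P : Subgroup G)) (hx2 : x * x = 1) (hx1 : x ≠ 1)
    (hl : blockRank 2 (principalBlock M (Subgroup.centralizer ({x} : Set G))) = 1) :
    (Nat.card (P : Subgroup G) = 8 → Nat.card (principalBlock M G) = 8) ∧
      (Nat.card (P : Subgroup G) = 16 →
        Nat.card (principalBlock M G) = 8 ∨ Nat.card (principalBlock M G) = 16) := by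
  set NP := Subgroup.normalizer ((P : Subgroup G) : Set G) with hNP
  set N := pResidual 2 G with hN
  have hstabx := inf_normalizer_le hM hab hx hl
  have hcP : ∀ a ∈ (P : Subgroup G), ∀ b ∈ (P : Subgroup G), a * b = b * a := fun a ha b hb =>
    congrArg Subtype.val (hab.is_comm.comm (⟨a, ha⟩ : (P : Subgroup G)) ⟨b, hb⟩)
  obtain ⟨k, hk⟩ := CfsgLib.Transfer.index_pResidual (p := 2) (G := G)
  have := Fintype.ofFinite N
  have hmax := CfsgLib.BrauerPairs.isMaximal_principal hM P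
  obtain ⟨-, -, -, -, hkB, -⟩ := Cfsg.Agent.S4640.result 2 M hM N ⟨k, hk⟩
    (principalBlock M N) isPBlock_principalBlock
    (fun g => stabilizesBlock_principal (by
      rw [Subgroup.normalizer_eq_top_iff.mpr (inferInstance : N.Normal)]
      exact Subgroup.mem_top g))
    (principalBlock M G) isPBlock_principalBlock
    ⟨irrOne, irrOne_mem_principalBlock, irrOne, irrOne_mem_principalBlock, by
      rw [show (fun n : N => ((irrOne : IrrCharacter G) : G → ℂ) n) =
        ((irrOne : IrrCharacter N) : N → ℂ) from rfl, classInner_irr_self (irrOne : IrrCharacter N).2]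
      exact one_ne_zero⟩
    (P : Subgroup G) (CfsgLib.BrauerPairs.isDefectGroup_of_maximal hM hmax) hcP
  obtain ⟨Q, hQ⟩ := CfsgLib.Fusion.WeakZJ.exists_sylow_inf P N
  have hQmem : ∀ w : N, w ∈ (Q : Subgroup N) ↔ (w : G) ∈ (P : Subgroup G) := by
    intro w
    constructor
    · intro hw
      have h : (w : G) ∈ (P : Subgroup G) ⊓ N := hQ ▸ ⟨w, hw, rfl⟩
      exact h.1
    · intro hw
      have h : (w : G) ∈ (Q : Subgroup N).map N.subtype := by rw [hQ]; exact ⟨hw, w.2⟩
      obtain ⟨v, hv, he⟩ := h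
      exact Subtype.ext he ▸ hv
  have hcard : Nat.card (P : Subgroup G) = N.index * Nat.card (Q : Subgroup N) := by
    rw [P.card_eq_multiplicity, Q.card_eq_multiplicity, hk, ← pow_add, ← N.index_mul_card, hk,
      Nat.factorization_mul (pow_ne_zero _ two_ne_zero) Nat.card_pos.ne', Finsupp.add_apply,
      Nat.Prime.factorization_pow Nat.prime_two, Finsupp.single_eq_same]
  by_cases hQ1 : Nat.card (Q : Subgroup N) = 1
  · have hodd : ¬ 2 ∣ Nat.card N := by
      rw [← (Q : Subgroup N).card_mul_index, hQ1, one_mul]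
      exact Q.not_dvd_index
    rw [hkB, card_principalBlock_of_odd hM hodd, hcard, hQ1, mul_one]
    exact ⟨id, Or.inr⟩
  -- decompose `x`
  obtain ⟨a, ha, f, hfP, hffix, hxaf⟩ : ∃ a ∈ (P : Subgroup G) ⊓ N, ∃ f ∈ (P : Subgroup G),
      (∀ n ∈ NP, n * f * n⁻¹ = f) ∧ x = a * f := by
    set A := (P : Subgroup G).subgroupOf NP with hA
    have hAn : A.Normal := Subgroup.normal_in_normalizer
    have hAc : IsMulCommutative A := ⟨⟨fun u v => Subtype.ext (Subtype.ext (hcP _ u.2 _ v.2))⟩⟩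
    obtain ⟨j, hj⟩ := IsPGroup.iff_card.mp P.isPGroup'
    have hco : (Nat.card A).Coprime A.index := by
      rw [Nat.card_congr (Subgroup.subgroupOfEquivOfLe Subgroup.le_normalizer).toEquiv, hj]
      exact Nat.Coprime.pow_left j (Nat.prime_two.coprime_iff_not_dvd.mpr
        (P.subtype Subgroup.le_normalizer).not_dvd_index)
    have hm := CfsgLib.Transfer.le_commutator_sup_center A hAc hco
      (show (⟨x, Subgroup.le_normalizer hx⟩ : NP) ∈ A from hx)
    have hn : A ⊓ (pResidual 2 G).subgroupOf NP ⊔ (Subgroup.center NP ⊓ A) ≥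
        ⁅A, (⊤ : Subgroup NP)⁆ ⊔ (Subgroup.center NP ⊓ A) := by
      refine sup_le_sup_right (Subgroup.commutator_le.mpr fun u hu v _ => ?_) _
      have h := (CfsgLib.Transfer.inf_pResidual_eq_commutator P hab).ge
        (Subgroup.commutator_mem_commutator (show (u : G) ∈ (P : Subgroup G) from hu) v.2)
      exact ⟨show ((⁅u, v⁆ : NP) : G) ∈ (P : Subgroup G) from h.1,
        show ((⁅u, v⁆ : NP) : G) ∈ pResidual 2 G from h.2⟩
    obtain ⟨a, ha, f, hf, he⟩ := CfsgLib.Solvable.exists_mul_of_mem_sup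
      Subgroup.le_normalizer_of_normal (hn hm)
    refine ⟨a, ⟨ha.1, ha.2⟩, f, hf.2, fun n hn => ?_, congrArg Subtype.val he⟩
    have h := congrArg Subtype.val (Subgroup.mem_center_iff.mp hf.1 ⟨n, hn⟩)
    exact mul_inv_eq_iff_eq_mul.mpr h
  -- normalisers
  have hfrat : ∀ n : N, n ∈ Subgroup.normalizer ((Q : Subgroup N) : Set N) → ∃ m ∈ NP,
      ∀ w : N, w ∈ (Q : Subgroup N) → (n : G) * w * (n : G)⁻¹ = m * w * m⁻¹ := by
    intro n hn
    set Z := Subgroup.centralizer (((P : Subgroup G) ⊓ N : Subgroup G) : Set G) with hZ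
    have hPZ : (P : Subgroup G) ≤ Z := fun p hp =>
      Subgroup.mem_centralizer_iff.mpr fun q hq => hcP q hq.1 p hp
    have hconjQ : ∀ w : G, w ∈ (P : Subgroup G) ⊓ N →
        (n : G)⁻¹ * w * n ∈ (P : Subgroup G) ⊓ N := by
      intro w hw
      have h := (Subgroup.mem_set_normalizer_iff.mp (inv_mem hn) ⟨w, hw.2⟩).mp ((hQmem _).mpr hw.1)
      have h1 := (hQmem _).mp h
      simp only [inv_inv, Subgroup.coe_mul, Subgroup.coe_inv] at h1
      exact ⟨h1, N.mul_mem (N.mul_mem (N.inv_mem n.2) hw.2) n.2⟩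
    have hP'Z : ∀ p ∈ (P : Subgroup G), (n : G) * p * (n : G)⁻¹ ∈ Z := by
      intro p hp
      refine Subgroup.mem_centralizer_iff.mpr fun w hw => ?_
      have h := hcP _ (hconjQ w hw).1 p hp
      calc w * ((n : G) * p * (n : G)⁻¹) = (n : G) * ((n : G)⁻¹ * w * n * p) * (n : G)⁻¹ := by group
        _ = _ := by rw [h]; group
    set S₁ : Sylow 2 Z := P.subtype hPZ
    set S₂ : Sylow 2 Z := (MulAut.conj (n : G) • P).subtype (by
      rintro _ ⟨p, hp, rfl⟩; exact hP'Z p hp)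
    obtain ⟨c, hc⟩ := MulAction.exists_smul_eq Z S₂ S₁
    refine ⟨(c : G) * n, ?_, fun w hw => ?_⟩
    · refine CfsgLib.Solvable.mem_normalizer_of_conj_mem fun p hp => ?_
      have h1 : (⟨(n : G) * p * (n : G)⁻¹, hP'Z p hp⟩ : Z) ∈ (S₂ : Subgroup Z) := ⟨p, hp, rfl⟩
      have h2 : c * ⟨(n : G) * p * (n : G)⁻¹, hP'Z p hp⟩ * c⁻¹ ∈ (S₁ : Subgroup Z) := by
        rw [← hc, Sylow.coe_subgroup_smul]
        exact ⟨_, h1, rfl⟩
      have h3 : (c : G) * ((n : G) * p * (n : G)⁻¹) * (c : G)⁻¹ ∈ (P : Subgroup G) := h2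
      rwa [show (c : G) * n * p * ((c : G) * n)⁻¹ =
        (c : G) * ((n : G) * p * (n : G)⁻¹) * (c : G)⁻¹ by group]
    · have hwQ : (n : G) * w * (n : G)⁻¹ ∈ (P : Subgroup G) ⊓ N :=
        ⟨(hQmem _).mp ((Subgroup.mem_set_normalizer_iff.mp hn w).mp hw),
          N.mul_mem (N.mul_mem n.2 w.2) (N.inv_mem n.2)⟩
      have h := Subgroup.mem_centralizer_iff.mp c.2 _ hwQ
      calc (n : G) * w * (n : G)⁻¹ = (n : G) * w * (n : G)⁻¹ * (c : G) * (c : G)⁻¹ := by group
        _ = _ := by rw [h]; group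
  have hQab : IsMulCommutative (Q : Subgroup N) :=
    ⟨⟨fun u v => Subtype.ext (Subtype.ext (hcP _ ((hQmem _).mp u.2) _ ((hQmem _).mp v.2)))⟩⟩
  have hNtop : pResidual 2 N = ⊤ := by
    refine top_le_iff.mp fun w _ => ?_
    have h : pResidual 2 G ≤ (pResidual 2 N).map N.subtype := by
      rw [pResidual, Subgroup.closure_le]
      intro g hg
      exact ⟨⟨g, CfsgLib.Transfer.mem_pResidual_of_coprime hg⟩,
        CfsgLib.Transfer.mem_pResidual_of_coprime (by rw [← Subgroup.orderOf_coe]; exact hg), rfl⟩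
    obtain ⟨v, hv, he⟩ := h w.2
    exact Subtype.ext he ▸ hv
  have hfix : ∀ w : (Q : Subgroup N), (∀ γ ∈ autN Q, γ w = w) → w = 1 := fun w hw =>
    Subtype.ext (eq_one_of_fixed_of_pResidual hQab hNtop w.2 fun n hn =>
      congrArg Subtype.val (hw ((Q : Subgroup N).normalizerMonoidHom ⟨n, hn⟩) ⟨_, rfl⟩))
  have hfixG : ∀ w : N, w ∈ (Q : Subgroup N) → (∀ m ∈ NP, m * (w : G) * m⁻¹ = w) → w = 1 := by
    intro w hw h
    refine eq_one_of_fixed_of_pResidual hQab hNtop hw fun n hn => Subtype.ext ?_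
    obtain ⟨m, hm, he⟩ := hfrat n hn
    show (n : G) * w * (n : G)⁻¹ = w
    rw [he w hw, h m hm]
  set a' : N := ⟨a, ha.2⟩ with ha'
  have haQ : a' ∈ (Q : Subgroup N) := (hQmem _).mpr ha.1
  have hxa : ∀ m ∈ NP, m * a * m⁻¹ = a → m * x * m⁻¹ = x := by
    intro m hm h
    rw [hxaf, show m * (a * f) * m⁻¹ = m * a * m⁻¹ * (m * f * m⁻¹) by group, h, hffix m hm]
  have haa : a' * a' = 1 := by
    refine hfixG _ (mul_mem haQ haQ) fun m hm => ?_
    have h2 : a * a * (f * f) = 1 := by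
      rw [← (show Commute f a from hcP f hfP a ha.1).mul_mul_mul_comm, ← hxaf, hx2]
    show m * (a * a) * m⁻¹ = a * a
    rw [eq_inv_of_mul_eq_one_left h2, show m * (f * f)⁻¹ * m⁻¹ = (m * f * m⁻¹ * (m * f * m⁻¹))⁻¹ by
      group, hffix m hm]
  have ha1 : a' ≠ 1 := by
    intro h
    have ha0 : a = 1 := congrArg Subtype.val h
    refine hQ1 (Subgroup.card_eq_one.mpr ((Subgroup.eq_bot_iff_forall _).mpr fun w hw => ?_))
    refine hfixG w hw fun m hm => ?_
    have hmx : m ∈ Subgroup.centralizer ({x} : Set G) :=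
      Subgroup.mem_centralizer_singleton_iff.mpr (mul_inv_eq_iff_eq_mul.mp
        (hxa m hm (by rw [ha0, mul_one, mul_inv_cancel])))
    have h1 := Subgroup.mem_centralizer_iff.mp (hstabx ⟨hmx, hm⟩) _ ((hQmem w).mp hw)
    rw [← h1, mul_inv_cancel_right]
  have hafree : ∀ γ ∈ autN Q, γ ⟨a', haQ⟩ = ⟨a', haQ⟩ → γ = 1 := by
    intro γ hγ hga
    obtain ⟨n, hn, hγn⟩ := mem_autN_iff.mp hγ
    obtain ⟨m, hm, he⟩ := hfrat n hn
    have hna : (n : G) * a * (n : G)⁻¹ = a := by
      have h := hγn ⟨a', haQ⟩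
      rw [hga] at h
      exact (congrArg Subtype.val h).symm
    have hmC : m ∈ Subgroup.centralizer ((P : Subgroup G) : Set G) :=
      hstabx ⟨Subgroup.mem_centralizer_singleton_iff.mpr (mul_inv_eq_iff_eq_mul.mp
        (hxa m hm (by rw [← he a' haQ]; exact hna))), hm⟩
    refine MulEquiv.ext fun w => Subtype.ext (Subtype.ext ?_)
    rw [hγn w]
    show (n : G) * ((w : N) : G) * (n : G)⁻¹ = ((w : N) : G)
    rw [he _ w.2, ← Subgroup.mem_centralizer_iff.mp hmC _ ((hQmem _).mp w.2),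
      mul_inv_cancel_right]
  have hQsmall : Nat.card (P : Subgroup G) = 8 ∨ Nat.card (P : Subgroup G) = 16 →
      Nat.card (Q : Subgroup N) = 4 ∨ Nat.card (Q : Subgroup N) = 8 ∨
      Nat.card (Q : Subgroup N) = 16 ∨ Nat.card (Q : Subgroup N) = 2 := by
    intro h
    obtain ⟨j, hj⟩ := IsPGroup.iff_card.mp Q.isPGroup'
    have hle : Nat.card (Q : Subgroup N) ≤ 16 :=
      le_trans (Nat.le_of_dvd Nat.card_pos ⟨N.index, by rw [hcard, mul_comm]⟩)
        (by rcases h with h | h <;> omega)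
    rw [hj] at hQ1 hle ⊢
    have hj4 : j ≤ 4 := (Nat.pow_le_pow_iff_right (by norm_num : 1 < 2)).mp (hle.trans_eq (by norm_num))
    interval_cases j <;> norm_num at hQ1 <;> norm_num
  have main := fun h => fpf_card (P := Q) hM hQab (hQsmall h) hfix (x := ⟨a', haQ⟩)
    (Subtype.ext haa) (fun h' => ha1 (congrArg Subtype.val h')) hafree
  refine ⟨fun h8 => ?_, fun h16 => ?_⟩
  · rcases main (Or.inl h8) with h | ⟨h, -⟩
    · rw [hkB, h, ← hcard, h8]
    · have := Nat.le_of_dvd Nat.card_pos (show Nat.card (Q : Subgroup N) ∣ Nat.card (P : Subgroup G)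
        from ⟨N.index, by rw [hcard, mul_comm]⟩)
      omega
  · rcases main (Or.inr h16) with h | ⟨h, h'⟩
    · exact Or.inr (by rw [hkB, h, ← hcard, h16])
    · refine Or.inl ?_
      rw [hkB, h']
      rw [h, h16] at hcard
      omega

end CfsgLib.ElemFree
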