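import Cfsg.Agent.Lib.Blocks.ElemFree.PrimeIndex
import Cfsg.Agent.Lib.Blocks.ElemFree.Reduce

/-!
# Prime inertial index: reduction to the residual subgroup
-/

set_option autoImplicit false

noncomputable section

open scoped Classical

namespace CfsgLib.ElemFree

open Cfsg CfsgLib.Blocks CfsgLib.Char CfsgLib.FreeSylow
open scoped commutatorElement

universe u

variable {G : Type u} [Group G] [Fintype G] {M : Ideal AlgInt} [M.IsMaximal] {P : Sylow 2 G}

set_option maxHeartbeats 800000 in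
/-- The invariants of the principal block for prime inertial index. -/
theorem prime_counts (hM : IsPModular 2 M) (hab : IsMulCommutative (P : Subgroup G))
    (hep : (Nat.card (autN P)).Prime) :
    blockRank 2 (principalBlock M G) = Nat.card (autN P) ∧
      (¬ Group.IsSolvable G → Nat.card (principalBlock M G) = Nat.card (P : Subgroup G)) := by
  set NP := Subgroup.normalizer ((P : Subgroup G) : Set G) with hNPdef
  set N := pResidual 2 G with hN
  have hcP : ∀ a ∈ (P : Subgroup G), ∀ b ∈ (P : Subgroup G), a * b = b * a := fun a ha b hb =>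
    congrArg Subtype.val (hab.is_comm.comm (⟨a, ha⟩ : (P : Subgroup G)) ⟨b, hb⟩)
  obtain ⟨k, hk⟩ := CfsgLib.Transfer.index_pResidual (p := 2) (G := G)
  have := Fintype.ofFinite N
  have hmax := CfsgLib.BrauerPairs.isMaximal_principal hM P
  obtain ⟨hNP, -, -, -, hkB, hlB⟩ := Cfsg.Agent.S4640.result 2 M hM N ⟨k, hk⟩
    (principalBlock M N) isPBlock_principalBlock
    (fun g => stabilizesBlock_principal (by
      rw [Subgroup.normalizer_eq_top_iff.mpr (inferInstance : N.Normal)]
      exact Subgroup.mem_top g))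
    (principalBlock M G) isPBlock_principalBlock
    ⟨irrOne, irrOne_mem_principalBlock, irrOne, irrOne_mem_principalBlock, by
      rw [show (fun n : N => ((irrOne : IrrCharacter G) : G → ℂ) n) =
        ((irrOne : IrrCharacter N) : N → ℂ) from rfl, classInner_irr_self (irrOne : IrrCharacter N).2]
      exact one_ne_zero⟩
    (P : Subgroup G) (CfsgLib.BrauerPairs.isDefectGroup_of_maximal hM hmax) hcP
  obtain ⟨Q, hQ⟩ := CfsgLib.Fusion.WeakZJ.exists_sylow_inf P N
  have hQmem : ∀ w : N, w ∈ (Q : Subgroup N) ↔ (w : G) ∈ (P : Subgroup G) := by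
    intro w
    constructor
    · intro hw
      have h : (w : G) ∈ (P : Subgroup G) ⊓ N := hQ ▸ ⟨w, hw, rfl⟩
      exact h.1
    · intro hw
      have h : (w : G) ∈ (Q : Subgroup N).map N.subtype := by rw [hQ]; exact ⟨hw, w.2⟩
      obtain ⟨v, hv, he⟩ := h
      exact Subtype.ext he ▸ hv
  have hcard : Nat.card (P : Subgroup G) = N.index * Nat.card (Q : Subgroup N) := by
    rw [P.card_eq_multiplicity, Q.card_eq_multiplicity, hk, ← pow_add, ← N.index_mul_card, hk,
      Nat.factorization_mul (pow_ne_zero _ two_ne_zero) Nat.card_pos.ne', Finsupp.add_apply,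
      Nat.Prime.factorization_pow Nat.prime_two, Finsupp.single_eq_same]
  -- the decomposition of `P`
  have hdec : ∀ x ∈ (P : Subgroup G), ∃ a ∈ (P : Subgroup G) ⊓ N, ∃ f ∈ (P : Subgroup G),
      (∀ n ∈ NP, n * f * n⁻¹ = f) ∧ x = a * f := by
    intro x hx
    set A := (P : Subgroup G).subgroupOf NP with hA
    have hAn : A.Normal := Subgroup.normal_in_normalizer
    have hAc : IsMulCommutative A := ⟨⟨fun u v => Subtype.ext (Subtype.ext (hcP _ u.2 _ v.2))⟩⟩
    obtain ⟨j, hj⟩ := IsPGroup.iff_card.mp P.isPGroup'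
    have hco : (Nat.card A).Coprime A.index := by
      rw [Nat.card_congr (Subgroup.subgroupOfEquivOfLe Subgroup.le_normalizer).toEquiv, hj]
      exact Nat.Coprime.pow_left j (Nat.prime_two.coprime_iff_not_dvd.mpr
        (P.subtype Subgroup.le_normalizer).not_dvd_index)
    have hm := CfsgLib.Transfer.le_commutator_sup_center A hAc hco
      (show (⟨x, Subgroup.le_normalizer hx⟩ : NP) ∈ A from hx)
    have hn : A ⊓ (pResidual 2 G).subgroupOf NP ⊔ (Subgroup.center NP ⊓ A) ≥
        ⁅A, (⊤ : Subgroup NP)⁆ ⊔ (Subgroup.center NP ⊓ A) := by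
      refine sup_le_sup_right (Subgroup.commutator_le.mpr fun u hu v _ => ?_) _
      have h := (CfsgLib.Transfer.inf_pResidual_eq_commutator P hab).ge
        (Subgroup.commutator_mem_commutator (show (u : G) ∈ (P : Subgroup G) from hu) v.2)
      exact ⟨show ((⁅u, v⁆ : NP) : G) ∈ (P : Subgroup G) from h.1,
        show ((⁅u, v⁆ : NP) : G) ∈ pResidual 2 G from h.2⟩
    obtain ⟨a, ha, f, hf, he⟩ := CfsgLib.Solvable.exists_mul_of_mem_sup
      Subgroup.le_normalizer_of_normal (hn hm)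
    refine ⟨a, ⟨ha.1, ha.2⟩, f, hf.2, fun n hn => ?_, congrArg Subtype.val he⟩
    have h := congrArg Subtype.val (Subgroup.mem_center_iff.mp hf.1 ⟨n, hn⟩)
    exact mul_inv_eq_iff_eq_mul.mpr h
  -- normalisers
  have hfrat : ∀ n : N, n ∈ Subgroup.normalizer ((Q : Subgroup N) : Set N) → ∃ m ∈ NP,
      ∀ w : N, w ∈ (Q : Subgroup N) → (n : G) * w * (n : G)⁻¹ = m * w * m⁻¹ := by
    intro n hn
    set Z := Subgroup.centralizer (((P : Subgroup G) ⊓ N : Subgroup G) : Set G) with hZ
    have hPZ : (P : Subgroup G) ≤ Z := fun p hp =>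
      Subgroup.mem_centralizer_iff.mpr fun q hq => hcP q hq.1 p hp
    have hconjQ : ∀ w : G, w ∈ (P : Subgroup G) ⊓ N →
        (n : G)⁻¹ * w * n ∈ (P : Subgroup G) ⊓ N := by
      intro w hw
      have h := (Subgroup.mem_set_normalizer_iff.mp (inv_mem hn) ⟨w, hw.2⟩).mp ((hQmem _).mpr hw.1)
      have h1 := (hQmem _).mp h
      simp only [inv_inv, Subgroup.coe_mul, Subgroup.coe_inv] at h1
      exact ⟨h1, N.mul_mem (N.mul_mem (N.inv_mem n.2) hw.2) n.2⟩
    have hP'Z : ∀ p ∈ (P : Subgroup G), (n : G) * p * (n : G)⁻¹ ∈ Z := by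
      intro p hp
      refine Subgroup.mem_centralizer_iff.mpr fun w hw => ?_
      have h := hcP _ (hconjQ w hw).1 p hp
      calc w * ((n : G) * p * (n : G)⁻¹) = (n : G) * ((n : G)⁻¹ * w * n * p) * (n : G)⁻¹ := by group
        _ = _ := by rw [h]; group
    set S₁ : Sylow 2 Z := P.subtype hPZ
    set S₂ : Sylow 2 Z := (MulAut.conj (n : G) • P).subtype (by
      rintro _ ⟨p, hp, rfl⟩; exact hP'Z p hp)
    obtain ⟨c, hc⟩ := MulAction.exists_smul_eq Z S₂ S₁
    refine ⟨(c : G) * n, ?_, fun w hw => ?_⟩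
    · refine CfsgLib.Solvable.mem_normalizer_of_conj_mem fun p hp => ?_
      have h1 : (⟨(n : G) * p * (n : G)⁻¹, hP'Z p hp⟩ : Z) ∈ (S₂ : Subgroup Z) := ⟨p, hp, rfl⟩
      have h2 : c * ⟨(n : G) * p * (n : G)⁻¹, hP'Z p hp⟩ * c⁻¹ ∈ (S₁ : Subgroup Z) := by
        rw [← hc, Sylow.coe_subgroup_smul]
        exact ⟨_, h1, rfl⟩
      have h3 : (c : G) * ((n : G) * p * (n : G)⁻¹) * (c : G)⁻¹ ∈ (P : Subgroup G) := h2
      rwa [show (c : G) * n * p * ((c : G) * n)⁻¹ =
        (c : G) * ((n : G) * p * (n : G)⁻¹) * (c : G)⁻¹ by group]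
    · have hwQ : (n : G) * w * (n : G)⁻¹ ∈ (P : Subgroup G) ⊓ N :=
        ⟨(hQmem _).mp ((Subgroup.mem_set_normalizer_iff.mp hn w).mp hw),
          N.mul_mem (N.mul_mem n.2 w.2) (N.inv_mem n.2)⟩
      have h := Subgroup.mem_centralizer_iff.mp c.2 _ hwQ
      calc (n : G) * w * (n : G)⁻¹ = (n : G) * w * (n : G)⁻¹ * (c : G) * (c : G)⁻¹ := by group
        _ = _ := by rw [h]; group
  have hQab : IsMulCommutative (Q : Subgroup N) :=
    ⟨⟨fun u v => Subtype.ext (Subtype.ext (hcP _ ((hQmem _).mp u.2) _ ((hQmem _).mp v.2)))⟩⟩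
  have hNtop : pResidual 2 N = ⊤ := by
    refine top_le_iff.mp fun w _ => ?_
    have h : pResidual 2 G ≤ (pResidual 2 N).map N.subtype := by
      rw [pResidual, Subgroup.closure_le]
      intro g hg
      exact ⟨⟨g, CfsgLib.Transfer.mem_pResidual_of_coprime hg⟩,
        CfsgLib.Transfer.mem_pResidual_of_coprime (by rw [← Subgroup.orderOf_coe]; exact hg), rfl⟩
    obtain ⟨v, hv, he⟩ := h w.2
    exact Subtype.ext he ▸ hv
  have hfix : ∀ w : (Q : Subgroup N), (∀ γ ∈ autN Q, γ w = w) → w = 1 := fun w hw =>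
    Subtype.ext (eq_one_of_fixed_of_pResidual hQab hNtop w.2 fun n hn =>
      congrArg Subtype.val (hw ((Q : Subgroup N).normalizerMonoidHom ⟨n, hn⟩) ⟨_, rfl⟩))
  -- the two automisers
  set R := (P : Subgroup G) ⊓ N with hR
  have hNR : NP ≤ Subgroup.normalizer (R : Set G) :=
    CfsgLib.Solvable.le_normalizer_of_conj_mem fun m hm x hx =>
      ⟨(Subgroup.mem_set_normalizer_iff.mp hm x).mp hx.1,
        (inferInstance : N.Normal).conj_mem x hx.2 m⟩
  let g : NP →* MulAut R := R.normalizerMonoidHom.comp (Subgroup.inclusion hNR)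
  have hgker : g.ker = (Subgroup.centralizer ((P : Subgroup G) : Set G)).subgroupOf NP := by
    rw [← MonoidHom.comap_ker, Subgroup.normalizerMonoidHom_ker]
    ext ⟨m, hm⟩
    show m ∈ Subgroup.centralizer (R : Set G) ↔ m ∈ Subgroup.centralizer ((P : Subgroup G) : Set G)
    refine ⟨fun h => Subgroup.mem_centralizer_iff.mpr fun x hx => ?_, fun h =>
      Subgroup.centralizer_le (fun x hx => hx.1) h⟩
    obtain ⟨a, ha, f, -, hffix, rfl⟩ := hdec x hx
    have h1 := Subgroup.mem_centralizer_iff.mp h a ha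
    have h2 : m * f = f * m := mul_inv_eq_iff_eq_mul.mp (hffix m hm)
    rw [mul_assoc, ← h2, ← mul_assoc, h1, mul_assoc]
  let ι : (Q : Subgroup N) ≃* R :=
    ((Q : Subgroup N).equivMapOfInjective N.subtype Subtype.val_injective).trans
      (MulEquiv.subgroupCongr hQ)
  have hι : ∀ v, ((ι v : R) : G) = ((v : N) : G) := fun v => rfl
  have hιs : ∀ w, (((ι.symm w : (Q : Subgroup N)) : N) : G) = (w : G) := fun w => by
    rw [← hι, MulEquiv.apply_symm_apply]
  have hrange : (autN Q).map (MulAut.congr ι).toMonoidHom = g.range := by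
    apply le_antisymm
    · rintro _ ⟨γ, hγ, rfl⟩
      obtain ⟨n, hn, hγn⟩ := mem_autN_iff.mp hγ
      obtain ⟨m, hm, he⟩ := hfrat n hn
      refine ⟨⟨m, hm⟩, MulEquiv.ext fun w => Subtype.ext ?_⟩
      show m * (w : G) * m⁻¹ = ((ι (γ (ι.symm w)) : R) : G)
      rw [hι, hγn, ← hιs w]
      exact (he _ (ι.symm w).2).symm
    · rintro _ ⟨⟨m, hm⟩, rfl⟩
      obtain ⟨n, hn, p, hp, rfl⟩ := CfsgLib.Solvable.exists_mul_of_mem_sup
        Subgroup.le_normalizer_of_normal
        (show m ∈ N ⊔ (P : Subgroup G) by rw [hNP]; exact Subgroup.mem_top m)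
      have hact : ∀ w : G, w ∈ (P : Subgroup G) →
          n * p * w * (n * p)⁻¹ = n * w * n⁻¹ := fun w hw => by
        rw [show n * p * w * (n * p)⁻¹ = n * (p * w * p⁻¹) * n⁻¹ by group, hcP p hp w hw,
          mul_inv_cancel_right]
      have hnQ : (⟨n, hn⟩ : N) ∈ Subgroup.normalizer ((Q : Subgroup N) : Set N) :=
        CfsgLib.Solvable.mem_normalizer_of_conj_mem fun v hv => (hQmem _).mpr (by
          have h := (Subgroup.mem_set_normalizer_iff.mp hm (v : G)).mp ((hQmem v).mp hv)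
          rw [hact _ ((hQmem v).mp hv)] at h
          exact h)
      refine ⟨_, ⟨⟨⟨n, hn⟩, hnQ⟩, rfl⟩, MulEquiv.ext fun w => Subtype.ext ?_⟩
      show n * (((ι.symm w : (Q : Subgroup N)) : N) : G) * n⁻¹ = n * p * (w : G) * (n * p)⁻¹
      rw [hιs, hact _ w.2.1]
  have hcardQ : Nat.card (autN Q) = Nat.card (autN P) := by
    rw [← Subgroup.card_map_of_injective (f := (MulAut.congr ι).toMonoidHom)
      (MulAut.congr ι).injective, hrange, ← Subgroup.index_ker, hgker, card_autN (P := P) rfl]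
    rfl
  obtain ⟨hl, hkb⟩ := counts_of_fixed (P := Q) hM hQab hfix (hcardQ ▸ hep)
  refine ⟨hlB.trans (hl.trans hcardQ), fun hns => ?_⟩
  rw [hkB, hkb fun hsol => hns ?_, ← hcard]
  have : Group.IsNilpotent (G ⧸ N) := (IsPGroup.of_card (p := 2) (n := k) hk).isNilpotent
  refine Group.isSolvable_of_ker_le_range N.subtype (QuotientGroup.mk' N) ?_
  rw [QuotientGroup.ker_mk', Subgroup.range_subtype]

end CfsgLib.ElemFree
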