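import Cfsg.Agent.Lib.Blocks.ElemFree.Pairs
import Cfsg.Agent.Lib.BlockArith.FreeSylow
import Cfsg.Agent.Lib.CharBlocks.Indicator
import Cfsg.Agent.Lib.InvolChar.Basic

/-!
# Sections of involutions when an elementary abelian Sylow two-subgroup has free normaliser action
-/

set_option autoImplicit false

noncomputable section

namespace CfsgLib.ElemFree

open Cfsg CfsgLib.Blocks CfsgLib.BlockArith CfsgLib.Char CfsgLib.Star CfsgLib.FreeSylow
open scoped ComplexConjugate Classical

universe u

variable {G : Type u} [Group G] [Fintype G] {P : Sylow 2 G} {M : Ideal AlgInt} [M.IsMaximal]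

/-- The elements of odd order of `C(y)`. -/
def reg (y : G) : Finset (Subgroup.centralizer ({y} : Set G)) :=
  Finset.univ.filter fun s => ¬ 2 ∣ orderOf s

theorem reg_ne_zero (y : G) : ((reg y).card : ℂ) ≠ 0 :=
  Nat.cast_ne_zero.mpr (Finset.card_ne_zero.mpr
    ⟨1, Finset.mem_filter.mpr ⟨Finset.mem_univ _, by rw [orderOf_one]; decide⟩⟩)

/-- The section sum of a class function, read in the principal block. -/
theorem section_sum (F : Free P) (hM : IsPModular 2 M) {y : G} (hy : y ∈ (P : Subgroup G))
    (hy1 : y ≠ 1) {ψ : G → ℂ} (hψ : IsClassFunction G ψ) :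
    ((reg y).card : ℂ) * (∑ χ : IrrCharacter G, if χ ∈ principalBlock M G then
        classInner ψ (χ : G → ℂ) * (χ : G → ℂ) y else 0) =
      ∑ s ∈ reg y, ψ (y * (s : G)) := by
  rw [Finset.sum_congr rfl fun (s : Subgroup.centralizer ({y} : Set G)) _ =>
    congrFun (classFun_eq_sum hψ) (y * (s : G))]
  simp only [Finset.sum_apply, Pi.smul_apply, smul_eq_mul]
  rw [Finset.sum_comm, Finset.mul_sum]
  refine Finset.sum_congr rfl fun χ _ => ?_
  rw [← Finset.mul_sum, reg, F.sum_section hM hy hy1 χ]
  split_ifs <;> ring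

theorem sq_eq_one_of_two_elt (hel : ∀ w ∈ (P : Subgroup G), w * w = 1) {g : G}
    (hg : ∃ k : ℕ, orderOf g = 2 ^ k) : g * g = 1 := by
  obtain ⟨x, hx⟩ := exists_conj_mem P hg
  have h := hel _ hx
  rwa [show x * g * x⁻¹ * (x * g * x⁻¹) = x * (g * g) * x⁻¹ by group, conj_eq_one_iff] at h

omit [Fintype G] in
/-- `y` is a power of each element of its section. -/
theorem pow_section {y : G} (hy : y * y = 1) {s : Subgroup.centralizer ({y} : Set G)}
    (hs : ¬ 2 ∣ orderOf s) : (y * (s : G)) ^ orderOf s = y := by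
  rw [(commute_of_mem_centralizer s).mul_pow, ← Subgroup.coe_pow, pow_orderOf_eq_one,
    OneMemClass.coe_one, mul_one]
  obtain ⟨j, hj⟩ : Odd (orderOf s) := Nat.not_even_iff_odd.mp fun h => hs h.two_dvd
  rw [hj, pow_succ, pow_mul, pow_two, hy, one_pow, one_mul]

omit [Fintype G] in
theorem isConj_section {y z : G} (hy : y * y = 1) (hz : z * z = 1)
    {s : Subgroup.centralizer ({y} : Set G)} (hs : ¬ 2 ∣ orderOf s)
    (h : IsConj (y * (s : G)) z) : s = 1 ∧ IsConj y z := by
  obtain ⟨x, hx⟩ := isConj_iff.mp h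
  have h1 : x * ((y * (s : G)) * (y * (s : G))) * x⁻¹ = 1 := by
    rw [show x * ((y * (s : G)) * (y * (s : G))) * x⁻¹ =
      x * (y * (s : G)) * x⁻¹ * (x * (y * (s : G)) * x⁻¹) by group, hx, hz]
  rw [conj_eq_one_iff, show y * (s : G) * (y * (s : G)) = y * y * ((s : G) * (s : G)) by
    rw [(commute_of_mem_centralizer s).symm.mul_mul_mul_comm], hy, one_mul] at h1
  have hs1 : s = 1 := by
    have h2 : orderOf s ∣ 2 := orderOf_dvd_iff_pow_eq_one.mpr (Subtype.ext (by simpa [pow_two]))
    exact orderOf_eq_one_iff.mp (((Nat.dvd_prime Nat.prime_two).mp h2).resolve_right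
      fun h' => hs (dvd_of_eq h'.symm))
  refine ⟨hs1, ?_⟩
  rw [hs1] at h
  simpa using h

/-- Orthogonality of the columns of two involutions in `P`. -/
theorem column_sum (F : Free P) (hM : IsPModular 2 M)
    (hel : ∀ w ∈ (P : Subgroup G), w * w = 1) {y z : G} (hy : y ∈ (P : Subgroup G))
    (hy1 : y ≠ 1) (hz : z ∈ (P : Subgroup G)) :
    (∑ χ : IrrCharacter G, if χ ∈ principalBlock M G then
      conj ((χ : G → ℂ) z) * (χ : G → ℂ) y else 0) =
      if IsConj y z then (Nat.card (P : Subgroup G) : ℂ) else 0 := by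
  refine mul_left_cancel₀ (reg_ne_zero y) ?_
  let ψ : G → ℂ := fun g => ∑ χ : IrrCharacter G, conj ((χ : G → ℂ) z) * (χ : G → ℂ) g
  have hψ : IsClassFunction G ψ := fun g h =>
    Finset.sum_congr rfl fun χ _ => by rw [isClassFunction_of_isIrr χ.2 g h]
  have hin : ∀ χ : IrrCharacter G, classInner ψ (χ : G → ℂ) = conj ((χ : G → ℂ) z) := by
    intro χ
    rw [show ψ = ∑ χ' : IrrCharacter G, conj ((χ' : G → ℂ) z) • (χ' : G → ℂ) from
      funext fun g => by simp [ψ, Finset.sum_apply], classInner_sum_left]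
    simp only [classInner_smul_left, classInner_irrCharacter, mul_ite, mul_one, mul_zero,
      Finset.sum_ite_eq', Finset.mem_univ, if_true]
  have h := section_sum F hM hy hy1 hψ
  simp only [hin] at h
  rw [h]
  have hval : ∀ s ∈ reg y, ψ (y * (s : G)) =
      if s = 1 ∧ IsConj y z then (Nat.card (Subgroup.centralizer ({y} : Set G)) : ℂ) else 0 := by
    intro s hs
    have hso := (Finset.mem_filter.mp hs).2
    show (∑ χ : IrrCharacter G, conj ((χ : G → ℂ) z) * (χ : G → ℂ) (y * (s : G))) = _
    simp only [mul_comm (conj _)]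
    rw [second_orthogonality]
    by_cases hc : IsConj (y * (s : G)) z
    · obtain ⟨h1, h2⟩ := isConj_section (hel y hy) (hel z hz) hso hc
      rw [if_pos hc, if_pos ⟨h1, h2⟩, show y * (s : G) = y by rw [h1, OneMemClass.coe_one, mul_one]]
    · rw [if_neg hc, if_neg]
      rintro ⟨rfl, h2⟩
      exact hc (by simpa using h2)
  rw [Finset.sum_congr rfl hval]
  split_ifs with hc
  · simp only [hc, and_true, Finset.sum_ite_eq']
    rw [if_pos (show (1 : Subgroup.centralizer ({y} : Set G)) ∈ reg y from
        Finset.mem_filter.mpr ⟨Finset.mem_univ _, by rw [orderOf_one]; decide⟩),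
      ← Nat.cast_mul, reg, F.card_regular hy hy1]
  · simp only [hc, and_false, if_false, Finset.sum_const_zero, mul_zero]

/-- The number of square roots minus the number of commuting elements of square one. -/
def rootDefect (g : G) : ℂ :=
  ((Finset.univ.filter fun s : G => s * s = g).card : ℂ) -
    ((Finset.univ.filter fun v : G => v * v = 1 ∧ v * g = g * v).card : ℂ)

/-- The number of commuting elements of square one. -/
def commCount (g : G) : ℂ :=
  ((Finset.univ.filter fun v : G => v * v = 1 ∧ v * g = g * v).card : ℂ)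

theorem isClassFunction_commCount : IsClassFunction G (commCount (G := G)) := fun g c => by
  refine congrArg (Nat.cast : ℕ → ℂ) (Finset.card_bij (fun v _ => c⁻¹ * v * c) (fun v hv => ?_)
    (fun a _ b _ e => mul_left_cancel (mul_right_cancel e)) fun v hv => ?_)
  · simp only [Finset.mem_filter, Finset.mem_univ, true_and] at hv ⊢
    refine ⟨?_, ?_⟩
    · rw [show c⁻¹ * v * c * (c⁻¹ * v * c) = c⁻¹ * (v * v) * c by group, hv.1]; group
    · calc c⁻¹ * v * c * g = c⁻¹ * (v * (c * g * c⁻¹)) * c := by group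
        _ = g * (c⁻¹ * v * c) := by rw [hv.2]; group
  · simp only [Finset.mem_filter, Finset.mem_univ, true_and] at hv ⊢
    refine ⟨c * v * c⁻¹, ⟨?_, ?_⟩, by group⟩
    · rw [show c * v * c⁻¹ * (c * v * c⁻¹) = c * (v * v) * c⁻¹ by group, hv.1]; group
    · calc c * v * c⁻¹ * (c * g * c⁻¹) = c * (v * g) * c⁻¹ := by group
        _ = c * g * c⁻¹ * (c * v * c⁻¹) := by rw [hv.2]; group

theorem sqCount_eq (g : G) : ((Finset.univ.filter fun s : G => s * s = g).card : ℂ) =
    (∑ χ : IrrCharacter G, CfsgLib.CharBlocks.fsInd (χ : G → ℂ) • (χ : G → ℂ)) g := by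
  rw [Finset.sum_apply]
  exact (CfsgLib.CharBlocks.sum_fsInd_mul g).symm

theorem classInner_sqCount (χ : IrrCharacter G) :
    classInner (fun g : G => ((Finset.univ.filter fun s : G => s * s = g).card : ℂ)) (χ : G → ℂ) =
      CfsgLib.CharBlocks.fsInd (χ : G → ℂ) := by
  rw [show (fun g : G => ((Finset.univ.filter fun s : G => s * s = g).card : ℂ)) =
    ∑ χ : IrrCharacter G, CfsgLib.CharBlocks.fsInd (χ : G → ℂ) • (χ : G → ℂ) from
      funext sqCount_eq, classInner_sum_left]
  simp only [classInner_smul_left, classInner_irrCharacter, mul_ite, mul_one, mul_zero,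
    Finset.sum_ite_eq', Finset.mem_univ, if_true]

theorem isClassFunction_sqCount :
    IsClassFunction G fun g : G => ((Finset.univ.filter fun s : G => s * s = g).card : ℂ) := by
  rw [show (fun g : G => ((Finset.univ.filter fun s : G => s * s = g).card : ℂ)) =
    ∑ χ : IrrCharacter G, CfsgLib.CharBlocks.fsInd (χ : G → ℂ) • (χ : G → ℂ) from
      funext sqCount_eq]
  exact isClassFunction_sum _ fun χ _ => isClassFunction_smul (isClassFunction_of_isIrr χ.2) _

/-- No element of a section of an involution is a square. -/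
theorem sqCount_section (hel : ∀ w ∈ (P : Subgroup G), w * w = 1) {y : G}
    (hy : y ∈ (P : Subgroup G)) (hy1 : y ≠ 1) {s : Subgroup.centralizer ({y} : Set G)}
    (hs : ¬ 2 ∣ orderOf s) :
    (Finset.univ.filter fun g : G => g * g = y * (s : G)).card = 0 := by
  refine Finset.card_eq_zero.mpr (Finset.filter_eq_empty_iff.mpr fun g _ hg => hy1 ?_)
  have h1 : g ^ orderOf s * g ^ orderOf s = y := by
    rw [← (Commute.refl g).mul_pow, hg, pow_section (hel y hy) hs]
  have h4 : (g ^ orderOf s) ^ 4 = 1 := by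
    rw [show (4 : ℕ) = 2 * 2 from rfl, pow_mul, pow_two, pow_two, h1, hel y hy]
  obtain ⟨k, -, hk⟩ := (Nat.dvd_prime_pow Nat.prime_two (m := 2)).mp
    (orderOf_dvd_iff_pow_eq_one.mpr h4)
  rw [← h1, sq_eq_one_of_two_elt hel ⟨k, hk⟩]

/-- At odd order elements the square roots match the commuting elements of square one. -/
theorem rootDefect_regular {g : G} (hg : ¬ 2 ∣ orderOf g) : rootDefect g = 0 := by
  obtain ⟨j, hj⟩ : Odd (orderOf g) := Nat.not_even_iff_odd.mp fun h => hg h.two_dvd
  set r := g ^ (j + 1) with hr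
  have hrr : r * r = g := by
    rw [hr, ← pow_add, show j + 1 + (j + 1) = orderOf g + 1 by omega, pow_succ, pow_orderOf_eq_one,
      one_mul]
  refine sub_eq_zero.mpr (congrArg (Nat.cast : ℕ → ℂ) (Finset.card_bij (fun s _ => r⁻¹ * s)
    (fun s hs => ?_) (fun a _ b _ e => mul_left_cancel e) fun v hv => ?_))
  · simp only [Finset.mem_filter, Finset.mem_univ, true_and] at hs ⊢
    have hsg : Commute s g := by rw [← hs]; exact (Commute.refl s).mul_right (Commute.refl s)
    have hsr : Commute s r := hsg.pow_right _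
    have hgr : Commute r⁻¹ g := ((Commute.refl g).pow_left _).inv_left
    refine ⟨?_, (hgr.mul_left hsg).eq⟩
    rw [(hsr.symm.inv_left).symm.mul_mul_mul_comm, hs, ← mul_inv_rev, hrr, inv_mul_cancel]
  · simp only [Finset.mem_filter, Finset.mem_univ, true_and] at hv ⊢
    have hvr : Commute v r := (show Commute v g from hv.2).pow_right _
    refine ⟨r * v, ?_, by group⟩
    rw [hvr.mul_mul_mul_comm, hv.1, hrr, mul_one]

/-- On a section of an involution the commuting elements of square one number `|P|` on average. -/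
theorem commCount_section (F : Free P) (hel : ∀ w ∈ (P : Subgroup G), w * w = 1) {y : G}
    (hy : y ∈ (P : Subgroup G)) (hy1 : y ≠ 1) :
    ∑ s ∈ reg y, commCount (y * (s : G)) =
      ((reg y).card : ℂ) * (Nat.card (P : Subgroup G) : ℂ) := by
  set C := Subgroup.centralizer ({y} : Set G) with hC
  set O := pPrimeCore 2 C with hO
  have : O.Normal := by
    have := CfsgLib.Cores.pPrimeCore_characteristic (G := C) 2
    infer_instance
  have hle : (P : Subgroup G) ≤ C := fun w hw =>
    Subgroup.mem_centralizer_singleton_iff.mpr (F.comm hw hy)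
  have hmem : ∀ s : C, s ∈ reg y ↔ s ∈ O := fun s =>
    (Finset.mem_filter.trans (and_iff_right (Finset.mem_univ s))).trans (F.mem_core hy hy1 s).symm
  have hcardO : (reg y).card = Nat.card O := by
    rw [← Nat.card_eq_finsetCard]
    exact Nat.card_congr (Equiv.subtypeEquivRight hmem)
  have hodd : Odd (Nat.card O) := Nat.not_even_iff_odd.mp fun h =>
    CfsgLib.Cores.not_dvd_card_pPrimeCore 2 h.two_dvd
  have hQcard : Nat.card ((P : Subgroup G).subgroupOf C) = Nat.card (P : Subgroup G) :=
    Nat.card_congr (Subgroup.subgroupOfEquivOfLe hle).toEquiv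
  have hind : O.index = Nat.card ((P : Subgroup G).subgroupOf C) := by
    have h1 : (reg y).card * Nat.card (P : Subgroup G) = Nat.card C := F.card_regular hy hy1
    rw [← O.card_mul_index, hcardO] at h1
    rw [hQcard]
    exact (Nat.eq_of_mul_eq_mul_left Nat.card_pos h1).symm
  have hp := card_pairs O hodd ((P : Subgroup G).subgroupOf C)
    (fun w hw => Subtype.ext (hel _ hw)) hind
  rw [hQcard] at hp
  rw [hcardO, ← Nat.cast_mul, mul_comm, ← hp, Nat.cast_sum, Finset.sum_subtype _ hmem]
  refine Finset.sum_congr rfl fun s _ => congrArg (Nat.cast : ℕ → ℂ) ?_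
  have hs : ¬ 2 ∣ orderOf (s : C) := (F.mem_core hy hy1 s).mp s.2
  symm
  refine Finset.card_bij (fun v _ => (v : G)) (fun v hv => ?_)
    (fun a _ b _ e => Subtype.ext e) fun v hv => ?_
  · simp only [Finset.mem_filter, Finset.mem_univ, true_and] at hv ⊢
    have h1 : Commute (v : G) y := Subgroup.mem_centralizer_singleton_iff.mp v.2
    have h2 : Commute (v : G) ((s : C) : G) := congrArg Subtype.val hv.2
    exact ⟨congrArg Subtype.val hv.1, (h1.mul_right h2).eq⟩
  · simp only [Finset.mem_filter, Finset.mem_univ, true_and] at hv ⊢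
    have h1 : Commute v y := by
      conv_rhs => rw [← pow_section (hel y hy) hs]
      exact (show Commute v _ from hv.2).pow_right _
    have h2 : Commute v ((s : C) : G) := by
      have h := h1.mul_right (show Commute v _ from hv.2)
      rwa [← mul_assoc, hel y hy, one_mul] at h
    exact ⟨⟨v, Subgroup.mem_centralizer_singleton_iff.mpr h1.eq⟩,
      ⟨Subtype.ext hv.1, Subtype.ext h2.eq⟩, rfl⟩

/-- The indicator against the characters of the permutation action on elements of square one. -/
theorem fsInd_sub_commCount (F : Free P) (hM : IsPModular 2 M)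
    (hel : ∀ w ∈ (P : Subgroup G), w * w = 1) {χ : IrrCharacter G}
    (hχ : χ ∈ principalBlock M G) :
    CfsgLib.CharBlocks.fsInd (χ : G → ℂ) - classInner (commCount (G := G)) (χ : G → ℂ) =
      -((Nat.card (autN P) : ℂ)⁻¹ *
        ∑ y ∈ (Finset.univ : Finset (P : Subgroup G)).erase 1, conj ((χ : G → ℂ) y)) := by
  rw [← classInner_sqCount, ← classInner_sub_left, classInner_def]
  show (Nat.card G : ℂ)⁻¹ * ∑ g : G, rootDefect g * conj ((χ : G → ℂ) g) = _
  have hχc := isClassFunction_of_isIrr χ.2
  let φ : ↥(P : Subgroup G) → ℂ := fun y =>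
    if y = 1 then 0 else -(Nat.card (P : Subgroup G) : ℂ) * conj ((χ : G → ℂ) y)
  rw [F.average (f := fun g => rootDefect g * conj ((χ : G → ℂ) g)) (φ := φ)
    (m := Nat.card (autN P)) (by rw [card_autN rfl])]
  · have hsum : ∑ y, φ y = -(Nat.card (P : Subgroup G) : ℂ) *
        ∑ y ∈ (Finset.univ : Finset (P : Subgroup G)).erase 1, conj ((χ : G → ℂ) y) := by
      rw [Finset.mul_sum, ← Finset.add_sum_erase _ φ (Finset.mem_univ 1)]
      simp only [φ, if_pos, zero_add]
      exact Finset.sum_congr rfl fun y hy => if_neg (Finset.mem_erase.mp hy).1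
    rw [hsum, mul_inv, mul_assoc, neg_mul, mul_neg, ← mul_assoc (Nat.card (P : Subgroup G) : ℂ)⁻¹,
      inv_mul_cancel₀ card_ne_zero', one_mul, mul_neg]
  · intro a b
    show rootDefect _ * conj ((χ : G → ℂ) _) = rootDefect a * conj ((χ : G → ℂ) a)
    rw [show rootDefect (b * a * b⁻¹) = rootDefect a from
      congrArg₂ (· - ·) (isClassFunction_sqCount a b) (isClassFunction_commCount a b), hχc a b]
  · intro g hg
    rw [rootDefect_regular hg, zero_mul]
  · intro γ hγ w
    obtain ⟨n, -, hn⟩ := mem_autN_iff.mp hγ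
    simp only [φ, EmbeddingLike.map_eq_one_iff]
    rw [hn w, hχc]
  · simp [φ]
  · intro y hy
    have hy' : (y : G) ≠ 1 := fun h => hy (Subtype.ext h)
    simp only [φ, if_neg hy]
    rw [Finset.sum_congr rfl (g := fun s : Subgroup.centralizer ({(y : G)} : Set G) =>
      -(commCount ((y : G) * (s : G))) * conj ((χ : G → ℂ) y)) fun s hs => ?_]
    · rw [← Finset.sum_mul, Finset.sum_neg_distrib]
      have h : (-∑ s ∈ reg (y : G), commCount ((y : G) * (s : G))) * conj ((χ : G → ℂ) y) =
          ((reg (y : G)).card : ℂ) *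
            (-(Nat.card (P : Subgroup G) : ℂ) * conj ((χ : G → ℂ) y)) := by
        rw [commCount_section F hel y.2 hy']; ring
      rw [reg] at h
      convert h using 4 <;> first | rfl | (ext; simp)
    · have hso := (Finset.mem_filter.mp hs).2
      simp only [rootDefect, commCount]
      rw [sqCount_section hel y.2 hy' hso, principal_section_const hM
        (CfsgLib.NilBlock.exists_pow_of_mem P.isPGroup' y.2) (F.index_core y.2 hy') hχ hso]
      ring

end CfsgLib.ElemFree
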