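import Cfsg.Agent.Lib.Blocks.ElemFree.Main
import Cfsg.Agent.S4639
import Cfsg.Agent.Lib.BrauerPairs.Principal
import Cfsg.Agent.Lib.Blocks.ProductFour.Main
import Cfsg.Agent.Lib.CharNormal.Basic
import Cfsg.Agent.Lib.SmallGroups.Basic

/-!
# Abelian Sylow two-subgroups of order at most sixteen with fixed-point-free normaliser
-/

set_option autoImplicit false

noncomputable section

open scoped Classical

namespace CfsgLib.ElemFree

open Cfsg CfsgLib.Blocks CfsgLib.Char CfsgLib.FreeSylow

universe u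

variable {G : Type u} [Group G] [Fintype G] {M : Ideal AlgInt} [M.IsMaximal]

/-- A normalising element stabilises the principal block. -/
theorem stabilizesBlock_principal {K : Subgroup G} {g : G}
    (hg : g ∈ Subgroup.normalizer (K : Set G)) : StabilizesBlock K (principalBlock M K) g := by
  refine ⟨hg, fun χ hχ => ?_⟩
  let α : K ≃* K := K.normalizerMonoidHom ⟨g⁻¹, inv_mem hg⟩
  refine ⟨⟨(χ : K → ℂ) ∘ α, CfsgLib.CharNormal.isIrr_comp_mulEquiv χ.2 α⟩, fun k => ?_,
    fun k k' h => ?_⟩
  · have hidx : (Subgroup.centralizer ({k} : Set K)).index =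
        (Subgroup.centralizer ({α k} : Set K)).index := by
      rw [show Subgroup.centralizer ({α k} : Set K) =
          (Subgroup.centralizer ({k} : Set K)).map α.toMonoidHom from ?_]
      · exact (Subgroup.index_map_equiv _ α).symm
      ext y
      rw [Subgroup.mem_map_equiv, Subgroup.mem_centralizer_singleton_iff,
        Subgroup.mem_centralizer_singleton_iff]
      conv_rhs => rw [← α.injective.eq_iff, map_mul, map_mul, MulEquiv.apply_symm_apply]
    have h1 := hχ (α k)
    simp only [centralChar, Function.comp_apply, map_one, hidx] at h1 ⊢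
    exact h1
  · show (χ : K → ℂ) (α k') = (χ : K → ℂ) k
    refine congrArg (χ : K → ℂ) (Subtype.ext ?_)
    show g⁻¹ * (k' : G) * g⁻¹⁻¹ = k
    rw [h]; group

variable {P : Sylow 2 G}

/-- Every nonidentity stable set is a union of regular orbits. -/
theorem dvd_card_of_stable (F : Free P) (S : Finset (P : Subgroup G)) (h1 : (1 : (P : Subgroup G)) ∉ S)
    (hS : ∀ γ ∈ autN P, ∀ w ∈ S, γ w ∈ S) : Nat.card (autN P) ∣ S.card := by
  let o : ↥(P : Subgroup G) → Finset (P : Subgroup G) := fun w =>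
    Finset.univ.image fun γ : autN P => (γ : MulAut (P : Subgroup G)) w
  rw [Finset.card_eq_sum_card_fiberwise (t := S.image o) (f := o) fun w hw =>
    Finset.mem_image_of_mem o hw]
  refine Finset.dvd_sum fun c hc => ?_
  obtain ⟨w₀, hw₀, rfl⟩ := Finset.mem_image.mp hc
  have horb : S.filter (fun w => o w = o w₀) = o w₀ := by
    ext w
    constructor
    · intro hw
      rw [← (Finset.mem_filter.mp hw).2]
      exact Finset.mem_image.mpr ⟨1, Finset.mem_univ _, rfl⟩
    · intro hw
      obtain ⟨δ, -, rfl⟩ := Finset.mem_image.mp hw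
      refine Finset.mem_filter.mpr ⟨hS _ δ.2 _ hw₀, ?_⟩
      ext v
      simp only [o, Finset.mem_image, Finset.mem_univ, true_and]
      constructor
      · rintro ⟨γ, rfl⟩; exact ⟨γ * δ, rfl⟩
      · rintro ⟨γ, rfl⟩
        refine ⟨γ * δ⁻¹, ?_⟩
        rw [← MulAut.mul_apply, ← Subgroup.coe_mul, inv_mul_cancel_right]
  rw [horb, Finset.card_image_of_injective _ fun γ δ h => ?_, Finset.card_univ,
    Nat.card_eq_fintype_card]
  have h' : (γ : MulAut (P : Subgroup G)) w₀ = (δ : MulAut (P : Subgroup G)) w₀ := h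
  have h2 : ((δ⁻¹ * γ : autN P) : MulAut (P : Subgroup G)) w₀ = w₀ := by
    rw [Subgroup.coe_mul, MulAut.mul_apply, h', ← MulAut.mul_apply, ← Subgroup.coe_mul,
      inv_mul_cancel]
    rfl
  exact (inv_mul_eq_one.mp (Subtype.ext
    (F.eq_one_of_fixed (δ⁻¹ * γ).2 (fun h => h1 (h ▸ hw₀)) h2))).symm

/-- The bounds for free action with abelian automiser. -/
theorem free_bounds (F : Free P) (hM : IsPModular 2 M) (hP1 : (P : Subgroup G) ≠ ⊥)
    (hE : ∀ g ∈ Subgroup.normalizer ((P : Subgroup G) : Set G),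
      ∀ h ∈ Subgroup.normalizer ((P : Subgroup G) : Set G),
        g * h * g⁻¹ * h⁻¹ ∈ Subgroup.centralizer ((P : Subgroup G) : Set G)) :
    Nat.card (principalBlock M G) ≤
        Nat.card (autN P) + (Nat.card (P : Subgroup G) - 1) / Nat.card (autN P) ∧
      (Nat.card (autN P) ≤ 3 → Nat.card (principalBlock M G) =
        Nat.card (autN P) + (Nat.card (P : Subgroup G) - 1) / Nat.card (autN P)) := by
  have := Fintype.ofFinite (CfsgLib.BrauerPairs.Cen (P : Subgroup G))
  have hmax := CfsgLib.BrauerPairs.isMaximal_principal hM P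
  have hind := (CfsgLib.BrauerPairs.brauerPairOf_iff_induced hM P.2 isPBlock_principalBlock
    isPBlock_principalBlock).mp hmax.1
  have hnorm : Subgroup.normalizer ((P : Subgroup G) : Set G) ≤
      Subgroup.normalizer ((Subgroup.centralizer ((P : Subgroup G) : Set G) : Subgroup G) : Set G) :=
    CfsgLib.Solvable.normalizer_le_normalizer_centralizer _
  obtain ⟨h1, -, -, h4⟩ := Cfsg.Agent.S4639.result 2 M hM (principalBlock M G) isPBlock_principalBlock
    (P : Subgroup G) (CfsgLib.BrauerPairs.isDefectGroup_of_maximal hM hmax) hP1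
    (fun _ ha _ hb => F.comm ha hb) _ hind (Subgroup.normalizer ((P : Subgroup G) : Set G))
    (fun g => ⟨fun h => ⟨h, stabilizesBlock_principal (hnorm h)⟩, fun h => h.1⟩)
    (Nat.card (autN P)) (card_autN rfl).symm hE (fun g hg y hy hy1 hgy => by
      rw [← F.free y hy hy1]
      exact ⟨Subgroup.mem_centralizer_singleton_iff.mpr (mul_inv_eq_iff_eq_mul.mp hgy), hg⟩)
  exact ⟨h1, fun h => (h4 h).1⟩

theorem comm_of_card_fifteen {E : Type u} [Group E] [Finite E] (h : Nat.card E = 15) (a b : E) :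
    a * b = b * a := by
  have key : ∀ (q m : ℕ) [Fact q.Prime], 15 = q ^ 1 * m → ¬ q ∣ m →
      (∀ n : ℕ, n ∣ m → n % q = 1 → n = 1) → ∀ S : Sylow q E, (S : Subgroup E).Normal ∧
        Nat.card (S : Subgroup E) = q := by
    intro q m _ h15 hm huniq S
    refine ⟨?_, ?_⟩
    · have hd := CfsgLib.SmallGroups.card_sylow_dvd_of_card_eq (p := q) (h.trans h15) hm
      have h1 := huniq _ hd (by
        have := card_sylow_modEq_one q E
        rw [Nat.ModEq, Nat.mod_eq_of_lt (Fact.out : q.Prime).one_lt] at this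
        exact this)
      have : Subsingleton (Sylow q E) := (Nat.card_eq_one_iff_unique.mp h1).1
      exact Sylow.normal_of_subsingleton S
    · rw [S.card_eq_multiplicity, h, h15, pow_one, Nat.factorization_mul (Fact.out : q.Prime).ne_zero
        (by rintro rfl; simp at h15), Finsupp.add_apply, (Fact.out : q.Prime).factorization_self,
        Nat.factorization_eq_zero_of_not_dvd hm, Nat.add_zero, pow_one]
  have : Fact (Nat.Prime 5) := ⟨by norm_num⟩
  obtain ⟨S⟩ := (inferInstance : Nonempty (Sylow 3 E))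
  obtain ⟨T⟩ := (inferInstance : Nonempty (Sylow 5 E))
  obtain ⟨hSn, hS⟩ := key 3 5 (by norm_num) (by norm_num)
    (fun n hn h3 => by rcases (Nat.dvd_prime (by norm_num)).mp hn with rfl | rfl <;> omega) S
  obtain ⟨hTn, hT⟩ := key 5 3 (by norm_num) (by norm_num)
    (fun n hn h3 => by rcases (Nat.dvd_prime (by norm_num)).mp hn with rfl | rfl <;> omega) T
  have hdis : Disjoint (S : Subgroup E) (T : Subgroup E) :=
    disjoint_iff.mpr (Subgroup.inf_eq_bot_of_coprime (by rw [hS, hT]; norm_num))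
  have hcomp : Subgroup.IsComplement' (S : Subgroup E) (T : Subgroup E) :=
    Subgroup.isComplement'_of_card_mul_and_disjoint (by rw [hS, hT, h]) hdis
  have hcomm := Subgroup.commute_of_normal_of_disjoint _ _ hSn hTn hdis
  have hcyc : ∀ (q : ℕ) [Fact q.Prime] (K : Subgroup E), Nat.card K = q →
      ∀ u ∈ K, ∀ v ∈ K, Commute u v := by
    intro q _ K hK u hu v hv
    have := isCyclic_of_prime_card hK
    exact congrArg Subtype.val ((IsCyclic.isMulCommutative (α := K)).is_comm.comm ⟨u, hu⟩ ⟨v, hv⟩)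
  obtain ⟨⟨⟨s, hs⟩, ⟨t, ht⟩⟩, rfl⟩ := hcomp.2 a
  obtain ⟨⟨⟨s', hs'⟩, ⟨t', ht'⟩⟩, rfl⟩ := hcomp.2 b
  exact (((hcyc 3 _ hS s hs s' hs').mul_right (hcomm s t' hs ht')).mul_left
    (((hcomm s' t hs' ht).symm).mul_right (hcyc 5 _ hT t ht t' ht'))).eq

omit [Fintype G] in
theorem commutator_mem_of_comm (h : ∀ γ δ : autN P, γ * δ = δ * γ) :
    ∀ g ∈ Subgroup.normalizer ((P : Subgroup G) : Set G),
      ∀ k ∈ Subgroup.normalizer ((P : Subgroup G) : Set G),
        g * k * g⁻¹ * k⁻¹ ∈ Subgroup.centralizer ((P : Subgroup G) : Set G) := by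
  intro g hg k hk
  set f := (P : Subgroup G).normalizerMonoidHom
  have h1 : f (⟨g, hg⟩ * ⟨k, hk⟩ * ⟨g, hg⟩⁻¹ * ⟨k, hk⟩⁻¹) = 1 := by
    have h2 : f ⟨g, hg⟩ * f ⟨k, hk⟩ = f ⟨k, hk⟩ * f ⟨g, hg⟩ :=
      congrArg Subtype.val (h ⟨_, ⟨⟨g, hg⟩, rfl⟩⟩ ⟨_, ⟨⟨k, hk⟩, rfl⟩⟩)
    rw [map_mul, map_mul, map_mul, map_inv, map_inv, h2, mul_inv_cancel_right, mul_inv_cancel]
  rw [← MonoidHom.mem_ker, Subgroup.normalizerMonoidHom_ker] at h1
  exact h1

theorem arith_prime {e i n q k : ℕ} (hq : q = 4 ∨ q = 8 ∨ q = 16 ∨ q = 2) (hn : n + 1 = q)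
    (hi : i = 0 ∨ i = 1 ∨ i = 3 ∨ i = 7 ∨ i = 15) (hei : e ≤ i) (hin : i ≤ n) (hep : e.Prime)
    (heo : ¬ 2 ∣ e) (hdn : e ∣ n) (hdi : e ∣ i) (hle : k ≤ e + n / e)
    (hsmall : e ≤ 3 → k = e + n / e) (hlow : i = n → 8 ≤ q → e + n / e ≤ k) :
    k = q ∨ (q = 16 ∧ k = 8) := by
  have h2 := hep.two_le
  have he : e ≤ 15 := by omega
  interval_cases e <;> omega

set_option maxHeartbeats 800000 in
/-- The count. -/
theorem fpf_card (hM : IsPModular 2 M) (hab : IsMulCommutative (P : Subgroup G))
    (hP : Nat.card (P : Subgroup G) = 4 ∨ Nat.card (P : Subgroup G) = 8 ∨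
      Nat.card (P : Subgroup G) = 16 ∨ Nat.card (P : Subgroup G) = 2)
    (hfix : ∀ w : (P : Subgroup G), (∀ γ ∈ autN P, γ w = w) → w = 1)
    {x : (P : Subgroup G)} (hx2 : x * x = 1) (hx1 : x ≠ 1)
    (hxfree : ∀ γ ∈ autN P, γ x = x → γ = 1) :
    Nat.card (principalBlock M G) = Nat.card (P : Subgroup G) ∨
      (Nat.card (P : Subgroup G) = 16 ∧ Nat.card (principalBlock M G) = 8) := by
  have hPb : (P : Subgroup G) ≠ ⊥ := fun h => by
    rw [h, Subgroup.card_bot] at hP; omega
  have hPC : (P : Subgroup G) ≤ Subgroup.centralizer ((P : Subgroup G) : Set G) := fun a ha =>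
    Subgroup.mem_centralizer_iff.mpr fun b hb =>
      congrArg Subtype.val (hab.is_comm.comm (⟨b, hb⟩ : (P : Subgroup G)) ⟨a, ha⟩)
  set e := Nat.card (autN P) with he
  have heodd : ¬ 2 ∣ e := fun h => P.not_dvd_index (h.trans (by
    rw [he, card_autN rfl, ← Subgroup.relIndex_mul_index (hPC.trans
      (Subgroup.centralizer_le_normalizer _)), ← Subgroup.relIndex_mul_relIndex _ _ _ hPC
      (Subgroup.centralizer_le_normalizer _)]
    exact Dvd.dvd.mul_right (dvd_mul_left _ _) _))
  set I : Finset (P : Subgroup G) := (nz P).filter fun w => w * w = 1 with hI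
  have hinj : Function.Injective fun γ : autN P => (γ : MulAut (P : Subgroup G)) x := by
    intro γ δ h
    have h' : (γ : MulAut (P : Subgroup G)) x = (δ : MulAut (P : Subgroup G)) x := h
    refine (inv_mul_eq_one.mp (Subtype.ext (hxfree _ (δ⁻¹ * γ).2 ?_))).symm
    rw [Subgroup.coe_mul, MulAut.mul_apply, h', ← MulAut.mul_apply, ← Subgroup.coe_mul,
      inv_mul_cancel]
    rfl
  have hImg : (Finset.univ.image fun γ : autN P => (γ : MulAut (P : Subgroup G)) x) ⊆ I := by
    intro w hw
    obtain ⟨γ, -, rfl⟩ := Finset.mem_image.mp hw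
    refine Finset.mem_filter.mpr ⟨Finset.mem_erase.mpr ⟨?_, Finset.mem_univ _⟩, ?_⟩
    · rwa [ne_eq, EmbeddingLike.map_eq_one_iff]
    · rw [← map_mul, hx2, map_one]
  have heI : e ≤ I.card := by
    refine le_trans (le_of_eq ?_) (Finset.card_le_card hImg)
    rw [Finset.card_image_of_injective _ hinj, Finset.card_univ, he, Nat.card_eq_fintype_card]
  have hnz : (nz P).card + 1 = Nat.card (P : Subgroup G) := by
    rw [Finset.card_erase_add_one (Finset.mem_univ _), Finset.card_univ, Nat.card_eq_fintype_card]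
  have hInz : I.card ≤ (nz P).card := Finset.card_filter_le _ _
  have he1 : e ≠ 1 := fun h => hx1 (hfix x fun γ hγ => by
    have : Subsingleton (autN P) := (Nat.card_eq_one_iff_unique.mp h).1
    have h1 : γ = 1 := congrArg Subtype.val (Subsingleton.elim (⟨γ, hγ⟩ : autN P) 1)
    rw [h1]
    rfl)
  have hel : (I.card = (nz P).card) → ∀ w ∈ (P : Subgroup G), w * w = 1 := by
    intro h w hw
    by_cases hw1 : (⟨w, hw⟩ : (P : Subgroup G)) = 1
    · rw [show w = 1 from congrArg Subtype.val hw1, one_mul]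
    · have hmem : (⟨w, hw⟩ : (P : Subgroup G)) ∈ I := by
        have heq : I = nz P := Finset.eq_of_subset_of_card_le (Finset.filter_subset _ _) h.ge
        rw [heq]
        exact Finset.mem_erase.mpr ⟨hw1, Finset.mem_univ _⟩
      exact congrArg Subtype.val (Finset.mem_filter.mp hmem).2
  -- the involutions with the identity form a subgroup
  have hIpow : ∃ j, I.card + 1 = 2 ^ j := by
    let Om : Subgroup (P : Subgroup G) :=
      { carrier := {w | w * w = 1}
        one_mem' := one_mul 1
        mul_mem' := fun {a b} ha hb => by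
          show a * b * (a * b) = 1
          rw [(show Commute b a from hab.is_comm.comm b a).mul_mul_mul_comm]
          rw [show a * a = 1 from ha, show b * b = 1 from hb, one_mul]
        inv_mem' := fun {a} ha => by
          show a⁻¹ * a⁻¹ = 1
          rw [← mul_inv_rev, show a * a = 1 from ha, inv_one] }
    obtain ⟨j, hj⟩ := IsPGroup.iff_card.mp (P.isPGroup'.to_subgroup Om)
    refine ⟨j, hj ▸ ?_⟩
    rw [show I = ((Finset.univ : Finset (P : Subgroup G)).filter fun w => w * w = 1).erase 1 by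
        rw [hI, Finset.filter_erase],
      Finset.card_erase_add_one (show (1 : (P : Subgroup G)) ∈
          ((Finset.univ : Finset (P : Subgroup G)).filter fun w => w * w = 1) from
        Finset.mem_filter.mpr ⟨Finset.mem_univ _, one_mul 1⟩),
      ← Nat.card_eq_finsetCard]
    exact Nat.card_congr (Equiv.subtypeEquivRight fun w => by
      simp only [Finset.mem_filter, Finset.mem_univ, true_and]; rfl)
  have hIst : ∀ γ ∈ autN P, ∀ w ∈ I, γ w ∈ I := fun γ _ w hw => by
    obtain ⟨h1, h2⟩ := Finset.mem_filter.mp hw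
    refine Finset.mem_filter.mpr ⟨Finset.mem_erase.mpr ⟨?_, Finset.mem_univ _⟩, ?_⟩
    · rw [ne_eq, EmbeddingLike.map_eq_one_iff]; exact (Finset.mem_erase.mp h1).1
    · rw [← map_mul, h2, map_one]
  have hnzst : ∀ γ ∈ autN P, ∀ w ∈ nz P, γ w ∈ nz P := fun γ _ w hw => by
    refine Finset.mem_erase.mpr ⟨?_, Finset.mem_univ _⟩
    rw [ne_eq, EmbeddingLike.map_eq_one_iff]; exact (Finset.mem_erase.mp hw).1
  -- free action in prime order
  have hfree_of : (∀ w : (P : Subgroup G), w ≠ 1 → ∀ γ ∈ autN P, γ w = w → γ = 1) → Free P := by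
    refine fun h => ⟨hab, fun y hy hy1 => le_antisymm (fun n hn => ?_) fun n hn => ?_⟩
    · have h1 := h ⟨y, hy⟩ (fun h' => hy1 (congrArg Subtype.val h'))
        ((P : Subgroup G).normalizerMonoidHom ⟨n, hn.2⟩) ⟨_, rfl⟩ (Subtype.ext (by
          show n * y * n⁻¹ = y
          rw [Subgroup.mem_centralizer_singleton_iff.mp hn.1, mul_inv_cancel_right]))
      rw [← MonoidHom.mem_ker, Subgroup.normalizerMonoidHom_ker] at h1
      exact h1
    · exact ⟨Subgroup.mem_centralizer_singleton_iff.mpr (Subgroup.mem_centralizer_iff.mp hn y hy).symm,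
        Subgroup.centralizer_le_normalizer _ hn⟩
  have hprime : e.Prime → Free P ∧ ∀ γ δ : autN P, γ * δ = δ * γ := by
    intro hep
    have := Fact.mk hep
    have hcyc : IsCyclic (autN P) := isCyclic_of_prime_card he.symm
    refine ⟨hfree_of fun w hw γ hγ hfx => ?_, fun γ δ => (IsCyclic.isMulCommutative (α := autN P)).is_comm.comm γ δ⟩
    by_contra hne
    refine hw (hfix w fun δ hδ => ?_)
    obtain ⟨k, hk⟩ : (⟨δ, hδ⟩ : autN P) ∈ Subgroup.zpowers (⟨γ, hγ⟩ : autN P) := by
      rw [zpowers_eq_top_of_prime_card he.symm fun h => hne (congrArg Subtype.val h)]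
      exact Subgroup.mem_top _
    have h2 : δ = γ ^ k := (congrArg Subtype.val hk).symm
    have h3 : γ ∈ MulAction.stabilizer (MulAut (P : Subgroup G)) w := hfx
    rw [h2]
    exact Subgroup.zpow_mem _ h3 k
  have hmain : ∀ F : Free P, (∀ γ δ : autN P, γ * δ = δ * γ) →
      e ∣ (nz P).card ∧ e ∣ I.card ∧
      Nat.card (principalBlock M G) ≤ e + (nz P).card / e ∧
      (e ≤ 3 → Nat.card (principalBlock M G) = e + (nz P).card / e) ∧
      (I.card = (nz P).card → 8 ≤ Nat.card (P : Subgroup G) →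
        e + (nz P).card / e ≤ Nat.card (principalBlock M G)) := by
    intro F hc
    obtain ⟨h1, h2⟩ := free_bounds F hM hPb (commutator_mem_of_comm hc)
    rw [show Nat.card (P : Subgroup G) - 1 = (nz P).card by omega, ← he] at h1 h2
    refine ⟨dvd_card_of_stable F _ (Finset.notMem_erase _ _) hnzst,
      dvd_card_of_stable F _ (fun h => Finset.notMem_erase _ _ (Finset.mem_filter.mp h).1) hIst,
      h1, h2, fun hel' h8 => ?_⟩
    have h3 := lower_bound F hM (hel hel') h8 (commutator_mem_of_comm hc)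
    rw [show Nat.card (P : Subgroup G) - 1 = (nz P).card by omega, ← he] at h3
    exact h3
  obtain ⟨j, hj⟩ := hIpow
  have hj4 : j ≤ 4 := by
    by_contra h
    have := Nat.pow_le_pow_right (show 0 < 2 by omega) (show 5 ≤ j by omega)
    omega
  have hcases : e = 3 ∨ e = 5 ∨ e = 7 ∨ e = 9 ∨ e = 11 ∨ e = 13 ∨ e = 15 := by
    have : 0 < e := Nat.card_pos
    omega
  have hIval : I.card = 0 ∨ I.card = 1 ∨ I.card = 3 ∨ I.card = 7 ∨ I.card = 15 := by
    interval_cases j <;> omega
  by_cases hep : e.Prime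
  · obtain ⟨F, hc⟩ := hprime hep
    obtain ⟨h1, h2, h3, h4, h5⟩ := hmain F hc
    exact arith_prime hP hnz hIval heI hInz hep heodd h1 h2 h3 h4 h5
  · rcases hcases with h | h | h | h | h | h | h
    · exact absurd (h ▸ (by norm_num : Nat.Prime 3)) hep
    · exact absurd (h ▸ (by norm_num : Nat.Prime 5)) hep
    · exact absurd (h ▸ (by norm_num : Nat.Prime 7)) hep
    rotate_left
    · exact absurd (h ▸ (by norm_num : Nat.Prime 11)) hep
    · exact absurd (h ▸ (by norm_num : Nat.Prime 13)) hep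
    rotate_left
    · -- nine
      have h16 : Nat.card (P : Subgroup G) = 16 := by omega
      have hI15 : I.card = (nz P).card := by omega
      refine Or.inl ?_
      rw [h16]
      exact (CfsgLib.ProductFour.counts hM h16
        (fun w => by rw [pow_two]; exact Subtype.ext (hel hI15 _ w.2))
        (by rw [← card_autN (P := P) rfl, ← he]; exact h)).1
    · -- fifteen
      have h16 : Nat.card (P : Subgroup G) = 16 := by omega
      have hI15 : I.card = (nz P).card := by omega
      have hall : ∀ w : (P : Subgroup G), w ≠ 1 → ∃ γ : autN P, (γ : MulAut (P : Subgroup G)) x = w := by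
        intro w hw
        have heq := Finset.eq_of_subset_of_card_le (hImg.trans (Finset.filter_subset _ _)) (by
          rw [Finset.card_image_of_injective _ hinj, Finset.card_univ, ← Nat.card_eq_fintype_card,
            ← he]
          omega)
        obtain ⟨γ, -, hγ⟩ := Finset.mem_image.mp
          (show w ∈ Finset.univ.image (fun γ : autN P => (γ : MulAut (P : Subgroup G)) x) by
            rw [heq]; exact Finset.mem_erase.mpr ⟨hw, Finset.mem_univ _⟩)
        exact ⟨γ, hγ⟩
      have F : Free P := hfree_of fun w hw γ hγ hfx => by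
        obtain ⟨δ, rfl⟩ := hall w hw
        have h1 := hxfree _ (((δ⁻¹ : autN P) * ⟨γ, hγ⟩ * δ : autN P)).2 (by
          rw [Subgroup.coe_mul, Subgroup.coe_mul, MulAut.mul_apply, MulAut.mul_apply, hfx,
            ← MulAut.mul_apply, ← Subgroup.coe_mul, inv_mul_cancel]
          rfl)
        have h2 : (δ⁻¹ : autN P) * ⟨γ, hγ⟩ * δ = 1 := Subtype.ext h1
        rw [mul_assoc, inv_mul_eq_one, eq_comm] at h2
        exact congrArg Subtype.val (
          mul_right_cancel (h2.trans (one_mul δ).symm))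
      obtain ⟨h1, h2, h3, h4, h5⟩ := hmain F (comm_of_card_fifteen (he ▸ h))
      have h6 := h5 hI15 (by omega)
      have hn : (nz P).card = 15 := by omega
      rw [h, hn] at h3 h6
      norm_num only at h3 h6
      omega

end CfsgLib.ElemFree
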